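import Groth.Agent.L29.DCoh.PCStalk
import Groth.Agent.L04.SupportSh.DepthStalk
import Groth.Agent.L02.FibDepth.Semi
import Groth.Agent.L29.DCoh.TorTest

/-!
Depth of stalks of `M~` restricted to an open of an affine scheme.
-/

set_option autoImplicit false
set_option backward.isDefEq.respectTransparency false
set_option backward.isDefEq.respectTransparency.types false
set_option linter.style.haveILetI false

universe u

open CategoryTheory CategoryTheory.Limits AlgebraicGeometry TensorProduct

noncomputable section

namespace Groth.L29.OpenDepth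

/-- extension of scalars along a bijective ring map -/
def semiExtend {R S : Type u} [CommRing R] [CommRing S] (φ : R →+* S) (hφ : Function.Bijective φ) (M : ModuleCat.{u} R) :
    L02.FibDepth.Semi R M S ((ModuleCat.extendScalars φ).obj M) :=
  letI := φ.toAlgebra
  let e : M ≃ₗ[R] S ⊗[R] M := (TensorProduct.lid R M).symm.trans
    (TensorProduct.congr (LinearEquiv.ofBijective (Algebra.linearMap R S) hφ) (LinearEquiv.refl R M))
  { φ := φ
    surj := hφ.2
    e := e.toAddEquiv
    map_smul := fun r m => (map_smul e r m).trans (algebraMap_smul S r (e m)).symm }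

theorem depth_tilde_restrict {A : Type u} [CommRing A] [IsNoetherianRing A] (U : (Spec (CommRingCat.of A)).Opens)
    (M : ModuleCat.{u} A) [Module.Finite A M] (x : U) :
    LocCoh.depth ((U : Scheme.{u}).presheaf.stalk x)
        (((tilde (R := CommRingCat.of A) M).restrict U.ι).presheaf.stalk x) =
      LocCoh.depth (Localization.AtPrime (U.ι x).asIdeal) (LocalizedModule (U.ι x).asIdeal.primeCompl M) := by
  let φ := Groth.L00.PullStalk.φ U.ι x
  have hbij : Function.Bijective φ := (asIso (U.ι.stalkMap x)).commRingCatIsoToRingEquiv.bijective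
  let q := U.ι x
  let P := (Groth.L00.Stk.F (Spec (CommRingCat.of A)) q).obj (tilde (R := CommRingCat.of A) M)
  let eU : (Groth.L00.Stk.F (U : Scheme.{u}) x).obj ((tilde (R := CommRingCat.of A) M).restrict U.ι) ≅
      (ModuleCat.extendScalars φ).obj P :=
    (Groth.L00.Stk.F (U : Scheme.{u}) x).mapIso ((Scheme.Modules.restrictFunctorIsoPullback U.ι).app _) ≪≫
      (Groth.L00.PullStalk.stalkIso U.ι x).app _
  let t := Groth.L00.KFlat.toStalk (CommRingCat.of A) q
  letI : Algebra A ((Spec (CommRingCat.of A)).presheaf.stalk q) := t.toAlgebra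
  haveI : IsLocalization.AtPrime ((Spec (CommRingCat.of A)).presheaf.stalk q) q.asIdeal :=
    Groth.L29.DC.TorTest.isLocalization_toStalk q
  let eT := ((Groth.L00.KFlat.tildeStalkIso (CommRingCat.of A) q).app M).toLinearEquiv
  have h1 : LocCoh.depth ((U : Scheme.{u}).presheaf.stalk x)
      (((tilde (R := CommRingCat.of A) M).restrict U.ι).presheaf.stalk x) =
      LocCoh.depth ((Spec (CommRingCat.of A)).presheaf.stalk q) P :=
    (Groth.L04.idealDepth_congr eU.toLinearEquiv).trans (semiExtend φ hbij P).depth_eq.symm
  rw [h1, show LocCoh.depth ((Spec (CommRingCat.of A)).presheaf.stalk q) P =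
    LocCoh.depth ((Spec (CommRingCat.of A)).presheaf.stalk q) (((Spec (CommRingCat.of A)).presheaf.stalk q) ⊗[A] M) from
      Groth.L04.idealDepth_congr eT]
  exact Groth.L04.SupportSh.depth_eq_of_isLocalizedModule q.asIdeal _
    (TensorProduct.mk A ((Spec (CommRingCat.of A)).presheaf.stalk q) M 1)

end Groth.L29.OpenDepth
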