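import Groth.Agent.L29.Formal.ColimZero
import Groth.Agent.L29.Formal.OpenDepth
import Groth.Agent.L29.DCoh.RHomCoh
import Groth.Agent.L03.QcOpenExtend
import Groth.Agent.L04.LC.PuncturedLinear
import Groth.Agent.S1575

/-!
Extending sections across points of depth at least two; from colimits over neighbourhoods to the open itself.
-/

set_option autoImplicit false
set_option backward.isDefEq.respectTransparency false
set_option backward.isDefEq.respectTransparency.types false
set_option linter.style.haveILetI false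

universe u

open CategoryTheory CategoryTheory.Limits AlgebraicGeometry TopologicalSpace Opposite

attribute [local instance] HasDerivedCategory.standard

noncomputable section

namespace Groth.L29.DepthExtend

open Groth.L29.CechSect Groth.L29.Formal Groth.L29.ColimZero

variable {A : Type u} [CommRing A]

theorem bijective_map_congr {X : Scheme.{u}} (F : X.Modules) {a b a' b' : X.Opens} (ha : a = a') (hb : b = b')
    (h : b ≤ a) (h' : b' ≤ a') (hh : Function.Bijective (F.presheaf.map (homOfLE h).op)) :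
    Function.Bijective (F.presheaf.map (homOfLE h').op) := by
  subst ha; subst hb; exact hh

theorem bijective_res [IsNoetherianRing A] {U V' : (Spec (CommRingCat.of A)).Opens} (h : V' ≤ U)
    (M : Type u) [AddCommGroup M] [Module A M] [Module.Finite A M]
    (hd : ∀ r : PrimeSpectrum A, r ∈ U → r ∉ V' →
      (2 : ℕ∞) ≤ LocCoh.depth (Localization.AtPrime r.asIdeal) (LocalizedModule r.asIdeal.primeCompl M)) :
    Function.Bijective (res h (ModuleCat.of A M)) := by
  haveI : IsNoetherianRing (CommRingCat.of A) := inferInstanceAs (IsNoetherianRing A)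
  haveI : IsLocallyNoetherian (U : Scheme.{u}) := isLocallyNoetherian_of_isOpenImmersion U.ι
  let F : (U : Scheme.{u}).Modules := (tilde (R := CommRingCat.of A) (ModuleCat.of A M)).restrict U.ι
  have hF : Coh.IsCoh F := Groth.L29.DC.RHomC.isCoh_restrict U.ι
    (Groth.L03.QcOpenExtend.isCoh_tilde (A := CommRingCat.of A) (ModuleCat.of A M))
  have hb := Groth.Agent.S1575.result (U : Scheme.{u}) F hF (U.ι ⁻¹ᵁ V') (fun x hx => by
    rw [Groth.L29.OpenDepth.depth_tilde_restrict U (ModuleCat.of A M) x]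
    exact hd (U.ι x) (by exact x.2) hx) ⊤
  exact bijective_map_congr (tilde (R := CommRingCat.of A) (ModuleCat.of A M)) U.ι_image_top
    (by rw [top_inf_eq, Scheme.Hom.image_preimage_eq_opensRange_inf, Scheme.Opens.opensRange_ι, inf_eq_right.2 h])
    _ h hb

theorem subsingleton_sec (I : Ideal A) (M : Type u) [AddCommGroup M] [Module A M] (n : ℕ)
    (W : (Spec (CommRingCat.of A)).Opens) (hW : ∀ r : PrimeSpectrum A, r ∈ W → ¬ I ≤ r.asIdeal)
    (s t : sec W (ModuleCat.of A (Formal2.quotPow A I M n))) : s = t := by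
  refine (modulesSpecToSheaf.obj (tilde (R := CommRingCat.of A) _)).eq_of_locally_eq'
    (fun b : {b : I × A // D (b.1.1 * b.2) ≤ W} => D (b.1.1.1 * b.1.2)) W (fun b => homOfLE b.2) ?_ s t fun b => ?_
  · intro r hr
    obtain ⟨a, haI, har⟩ := SetLike.not_le_iff_exists.1 (hW r hr)
    obtain ⟨_, ⟨g, rfl⟩, hrg, hgV⟩ := (PrimeSpectrum.isTopologicalBasis_basic_opens (R := A)).exists_subset_of_mem_open
      (u := {p : PrimeSpectrum A | p ∈ W}) hr W.isOpen
    exact TopologicalSpace.Opens.mem_iSup.2 ⟨⟨(⟨a, haI⟩, g), (PrimeSpectrum.basicOpen_mul_le_right _ _).trans hgV⟩,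
      fun h => (r.2.mem_or_mem h).elim har hrg⟩
  · obtain ⟨⟨⟨a, ha⟩, g⟩, hb⟩ := b
    change res hb _ s = res hb _ t
    have hz : ∀ x : sec (D (a * g)) (ModuleCat.of A (Formal2.quotPow A I M n)), x = 0 := fun x => by
      obtain ⟨k, m, hm⟩ := exists_toOpen _ _ x
      refine (smul_bij_D (a * g) a ⟨g, rfl⟩ _ (n + 1)).1 ((smul_bij_D (a * g) (a * g) dvd_rfl _ k).1 ?_)
      change (a * g) ^ k • a ^ (n + 1) • x = (a * g) ^ k • a ^ (n + 1) • 0
      rw [smul_comm, hm, ← map_smul, smul_zero, smul_zero]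
      obtain ⟨m', rfl⟩ := Submodule.Quotient.mk_surjective _ m
      rw [← Submodule.Quotient.mk_smul, (Submodule.Quotient.mk_eq_zero _).2
        (Submodule.smul_mem_smul (Ideal.pow_mem_pow ha (n + 1)) Submodule.mem_top), map_zero]
    exact (hz _).trans (hz _).symm

theorem res_quot_injective (I : Ideal A) (M : Type u) [AddCommGroup M] [Module A M] (n : ℕ)
    {U V : (Spec (CommRingCat.of A)).Opens} (hV : Formal2.Admissible A I U V) :
    Function.Injective (res hV.1 (ModuleCat.of A (Formal2.quotPow A I M n))) := by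
  intro s t hst
  let Z : (Spec (CommRingCat.of A)).Opens :=
    ⟨(PrimeSpectrum.zeroLocus (I : Set A))ᶜ, (PrimeSpectrum.isClosed_zeroLocus _).isOpen_compl⟩
  let Wb : Bool → (Spec (CommRingCat.of A)).Opens := fun b => bif b then V else U ⊓ Z
  have hWle : ∀ b, Wb b ≤ U := fun b => by
    cases b
    · exact inf_le_left
    · exact hV.1
  refine (modulesSpecToSheaf.obj (tilde (R := CommRingCat.of A) _)).eq_of_locally_eq' Wb U
    (fun b => homOfLE (hWle b)) (fun r hr => ?_) s t fun b => ?_
  · by_cases hIr : r ∈ PrimeSpectrum.zeroLocus (I : Set A)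
    · exact Opens.mem_iSup.2 ⟨true, hV.2 r hr hIr⟩
    · exact Opens.mem_iSup.2 ⟨false, hr, hIr⟩
  · cases b
    · exact subsingleton_sec I M n (U ⊓ Z) (fun r hr h => hr.2 h) _ _
    · exact hst

variable [IsNoetherianRing A] (I 𝔞 : Ideal A) (M : Type u) [AddCommGroup M] [Module A M] [Module.Finite A M]

/-- From the colimit to the punctured open, with depth two away from `V(I)`. -/
theorem bijective_of_colim (hcol : Formal2.FormalCohColimBijective A I M 0 (LocCoh.puncturedOpen A 𝔞))
    (h₃ : ∀ (p : Ideal A) [p.IsPrime], ¬ 𝔞 ≤ p →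
      (∀ (r : Ideal A), r.IsPrime → p ≤ r → I ≤ r → 𝔞 ≤ r) →
        (2 : ℕ∞) ≤ LocCoh.depth (Localization.AtPrime p) (LocalizedModule p.primeCompl M)) :
    Formal2.FormalCohBijective A I M 0 (LocCoh.puncturedOpen A 𝔞) := by
  have hres : ∀ (V : (Spec (CommRingCat.of A)).Opens) (hV : Formal2.Admissible A I (LocCoh.puncturedOpen A 𝔞) V),
      Function.Bijective (res hV.1 (ModuleCat.of A M)) := fun V hV => bijective_res hV.1 M fun r hrU hrV => by
    haveI := r.2
    refine h₃ r.asIdeal hrU fun q hq hrq hIq => by_contra fun hq' => hrV ?_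
    exact ((PrimeSpectrum.le_iff_specializes r ⟨q, hq⟩).1 hrq).mem_open V.isOpen (hV.2 ⟨q, hq⟩ hq' hIq)
  refine ⟨fun x x' hxx => ?_, fun y hy => ?_⟩
  · obtain ⟨V, hV, h0'⟩ := hcol.1 _ ⟨le_rfl, fun _ h _ => h⟩ (x - x') (fun n => by rw [map_sub, hxx, sub_self])
    rw [← sub_eq_zero]
    refine (h0 _ (ModuleCat.of A M)).injective ((hres V hV.1).1 ?_)
    rw [map_zero, map_zero, ← h0_res, h0', map_zero]
  · obtain ⟨V, hV, x, hx⟩ := hcol.2 y hy
    obtain ⟨s, hs⟩ := (hres V hV).2 (h0 V (ModuleCat.of A M) x)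
    refine ⟨(h0 _ (ModuleCat.of A M)).symm s, fun n => (h0 _ _).injective (res_quot_injective I M n hV ?_)⟩
    rw [h0_map, AddEquiv.apply_symm_apply, secMap_res, hs, ← h0_map, ← hx n, h0_res]

end Groth.L29.DepthExtend
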