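import Groth.Prelude.Def_Formal2
import Groth.Agent.L04.LC.PuncturedLinear
import Groth.Agent.L17.Transfer

/-!
Cohomology of tilde sheaves on opens of an affine scheme: exact sequences and scalars.
-/

set_option autoImplicit false
set_option backward.isDefEq.respectTransparency false
set_option backward.isDefEq.respectTransparency.types false
set_option linter.style.haveILetI false

universe u

open CategoryTheory CategoryTheory.Limits TopologicalSpace Opposite AlgebraicGeometry Abelian

noncomputable section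

namespace Groth.L29.Formal

open Groth.L17

variable {A : Type u} [CommRing A]

/-- the space -/
abbrev Sp (A : Type u) [CommRing A] : TopCat.{u} := (Spec (CommRingCat.of A)).toTopCat

/-- abelian sheaf of a module -/
abbrev T (A : Type u) [CommRing A] : ModuleCat.{u} A ⥤ AbSheaf (Sp A) :=
  tilde.functor (CommRingCat.of A) ⋙ SheafOfModules.toSheaf.{u} (Spec (CommRingCat.of A)).ringCatSheaf

/-- cohomology -/
abbrev H (U : (Spec (CommRingCat.of A)).Opens) (M : ModuleCat.{u} A) (i : ℕ) : Type u :=
  HU (X := Sp A) U ((T A).obj M) i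

/-- functoriality -/
def hm {M N : ModuleCat.{u} A} (g : M ⟶ N) (U : (Spec (CommRingCat.of A)).Opens) (i : ℕ) : H U M i →+ H U N i :=
  AddMonoidHom.mk' (fun x => huMap ((T A).map g) x) fun a b => Ext.add_comp a b _ _

theorem hm_apply {M N : ModuleCat.{u} A} (g : M ⟶ N) (U : (Spec (CommRingCat.of A)).Opens) (i : ℕ) (x : H U M i) :
    hm g U i x = x.comp (Ext.mk₀ ((T A).map g)) (add_zero i) := rfl

theorem hm_comp {M N P : ModuleCat.{u} A} (g : M ⟶ N) (h : N ⟶ P) (U : (Spec (CommRingCat.of A)).Opens) (i : ℕ)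
    (x : H U M i) : hm (g ≫ h) U i x = hm h U i (hm g U i x) := by
  simp only [hm_apply, Functor.map_comp, Ext.comp_assoc_of_second_deg_zero, Ext.mk₀_comp_mk₀]

theorem hm_zero {M N : ModuleCat.{u} A} (U : (Spec (CommRingCat.of A)).Opens) (i : ℕ)
    (x : H U M i) : hm (0 : M ⟶ N) U i x = 0 := by
  simp [hm_apply]

theorem T_shortExact {S : ShortComplex (ModuleCat.{u} A)} (hS : S.ShortExact) : (S.map (T A)).ShortExact := by
  haveI : PreservesColimitsOfSize.{0, 0} (tilde.functor (CommRingCat.of A)) :=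
    tilde.adjunction.leftAdjoint_preservesColimits
  haveI : PreservesFiniteLimits (tilde.functor (CommRingCat.of A)) :=
    Groth.L18.TildeF.tilde_preservesFiniteLimits
  haveI : PreservesFiniteColimits (tilde.functor (CommRingCat.of A)) :=
    PreservesColimitsOfSize.preservesFiniteColimits.{0, 0} _
  exact (hS.map_of_exact (tilde.functor (CommRingCat.of A))).map_of_exact
    (SheafOfModules.toSheaf.{u} (Spec (CommRingCat.of A)).ringCatSheaf)

variable {S : ShortComplex (ModuleCat.{u} A)} (U : (Spec (CommRingCat.of A)).Opens)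

/-- connecting map -/
def dl (hS : S.ShortExact) (i : ℕ) : H U S.X₃ i →+ H U S.X₁ (i + 1) :=
  AddMonoidHom.mk' (fun x => x.comp (T_shortExact hS).extClass (rfl : i + 1 = i + 1))
    fun a b => Ext.add_comp a b _ _

theorem exists_of_dl_eq_zero (hS : S.ShortExact) (i : ℕ) (x : H U S.X₃ i) (hx : dl U hS i x = 0) :
    ∃ y, hm S.g U i y = x :=
  Ext.covariant_sequence_exact₃ _ (T_shortExact hS) x rfl hx

theorem exists_dl_of_hm_f_eq_zero (hS : S.ShortExact) (i : ℕ) (x : H U S.X₁ (i + 1)) (hx : hm S.f U (i + 1) x = 0) :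
    ∃ y, dl U hS i y = x :=
  Ext.covariant_sequence_exact₁ (hS := T_shortExact hS) _ x hx rfl

theorem exists_of_hm_g_eq_zero (hS : S.ShortExact) (i : ℕ) (x : H U S.X₂ i) (hx : hm S.g U i x = 0) :
    ∃ y, hm S.f U i y = x :=
  Ext.covariant_sequence_exact₂ _ (T_shortExact hS) x hx

theorem hm_g_dl_eq_zero (hS : S.ShortExact) (i : ℕ) (y : H U S.X₂ i) : dl U hS i (hm S.g U i y) = 0 := by
  change (y.comp (Ext.mk₀ (S.map (T A)).g) (add_zero i)).comp (T_shortExact hS).extClass (rfl : i + 1 = i + 1) = 0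
  rw [Ext.comp_assoc_of_second_deg_zero, (T_shortExact hS).comp_extClass, Ext.comp_zero]

theorem hm_f_dl (hS : S.ShortExact) (i : ℕ) (y : H U S.X₃ i) : hm S.f U (i + 1) (dl U hS i y) = 0 := by
  change (y.comp (T_shortExact hS).extClass (rfl : i + 1 = i + 1)).comp (Ext.mk₀ (S.map (T A)).f) (add_zero _) = 0
  rw [Ext.comp_assoc_of_third_deg_zero, (T_shortExact hS).extClass_comp, Ext.comp_zero]

theorem dl_natural {S' : ShortComplex (ModuleCat.{u} A)} (hS : S.ShortExact) (hS' : S'.ShortExact) (φ : S ⟶ S') (i : ℕ)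
    (y : H U S.X₃ i) : hm φ.τ₁ U (i + 1) (dl U hS i y) = dl U hS' i (hm φ.τ₃ U i y) := by
  have := (T_shortExact hS).extClass_naturality (T_shortExact hS') ((T A).mapShortComplex.map φ)
  simp only [dl, hm_apply, AddMonoidHom.mk'_apply, Ext.comp_assoc_of_second_deg_zero, Ext.comp_assoc_of_third_deg_zero]
  exact congrArg (fun z => y.comp z rfl) this

/-- sections -/
abbrev sec (M : ModuleCat.{u} A) : ModuleCat.{u} A :=
  (modulesSpecToSheaf.obj (tilde (R := CommRingCat.of A) M)).presheaf.obj (op U)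

/-- degree zero -/
def h0 (M : ModuleCat.{u} A) : H U M 0 ≃+ (sec U M : Type u) :=
  hu₀ (X := Sp A) U ((T A).obj M)

/-- map on sections -/
abbrev secMap {M N : ModuleCat.{u} A} (g : M ⟶ N) : sec U M ⟶ sec U N :=
  (modulesSpecToSheaf.map ((tilde.functor (CommRingCat.of A)).map g)).hom.app (op U)

theorem h0_hm {M N : ModuleCat.{u} A} (g : M ⟶ N) (x : H U M 0) :
    h0 U N (hm g U 0 x) = (secMap U g).hom (h0 U M x) :=
  hu₀_map _ x

theorem secMap_toOpen {M N : ModuleCat.{u} A} (g : M ⟶ N) (m : M) :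
    (secMap U g).hom ((tilde.toOpen (R := CommRingCat.of A) M U).hom m) =
      (tilde.toOpen (R := CommRingCat.of A) N U).hom (g.hom m) :=
  ConcreteCategory.congr_hom (tilde.toOpen_map_app (R := CommRingCat.of A) g U) m

/-- scalar -/
abbrev sc (a : A) (M : ModuleCat.{u} A) : M ⟶ M := ModuleCat.ofHom (a • LinearMap.id)

theorem secMap_sc (a : A) (M : ModuleCat.{u} A) (y : sec U M) : (secMap U (sc a M)).hom y = a • y := by
  let ev := (tilde.adjunction (R := CommRingCat.of A)).homEquiv M (tilde (R := CommRingCat.of A) M)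
  let G : TopCat.Sheaf (ModuleCat.{u} (CommRingCat.of A)) (Spec (CommRingCat.of A)) := modulesSpecToSheaf.obj (tilde (R := CommRingCat.of A) M)
  letI : Linear (CommRingCat.of A) (ModuleCat.{u} (CommRingCat.of A)) := inferInstance
  let σ : G ⟶ G := ⟨{ app := fun V => (a : (CommRingCat.of A : Type u)) • 𝟙 (G.obj.obj V)
                      naturality := fun V W f => by
                        rw [Linear.comp_smul, Linear.smul_comp, Category.comp_id, Category.id_comp] }⟩
  let τ := SpecModulesToSheafFullyFaithful.preimage σ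
  have hτ : modulesSpecToSheaf.map τ = σ := SpecModulesToSheafFullyFaithful.map_preimage σ
  have h : (tilde.functor (CommRingCat.of A)).map (sc a M) = τ := by
    refine ev.injective ?_
    rw [Adjunction.homEquiv_unit, Adjunction.homEquiv_unit]
    apply ModuleCat.hom_ext
    refine LinearMap.ext fun m => ?_
    change (secMap ⊤ (sc a M)).hom ((tilde.toOpen (R := CommRingCat.of A) M ⊤).hom m) =
      ((modulesSpecToSheaf.map τ).hom.app (op ⊤)).hom ((tilde.toOpen (R := CommRingCat.of A) M ⊤).hom m)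
    rw [secMap_toOpen, hτ]
    exact map_smul (tilde.toOpen (R := CommRingCat.of A) M ⊤).hom a m
  change ((modulesSpecToSheaf.map ((tilde.functor (CommRingCat.of A)).map (sc a M))).hom.app (op U)).hom y = _
  rw [h, hτ]
  rfl

theorem h0_sc (a : A) (M : ModuleCat.{u} A) (x : H U M 0) : h0 U M (hm (sc a M) U 0 x) = a • h0 U M x := by
  rw [h0_hm, secMap_sc]

theorem hm_HVmap {M N : Type u} [AddCommGroup M] [Module A M] [AddCommGroup N] [Module A N] (φ : M →ₗ[A] N) (i : ℕ)
    (x : Formal2.HV A M i U) : Formal2.HVmap A φ i U x = hm (ModuleCat.ofHom φ) U i x := rfl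

end Groth.L29.Formal
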