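import Groth.Agent.L29.Formal.CechTerms
import Groth.Agent.L29.Formal.Sheaves
import Groth.Agent.L04.Koszul.ExtCech
import Groth.Agent.L10.DRing.DualUnbounded

/-!
Degree one cocycles of the extended Čech complex as sections of `M~`.
-/

set_option autoImplicit false
set_option backward.isDefEq.respectTransparency false
set_option backward.isDefEq.respectTransparency.types false
set_option backward.defeqAttrib.useBackward true
set_option linter.style.haveILetI false

universe u

open CategoryTheory CategoryTheory.Limits AlgebraicGeometry TopologicalSpace Opposite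
open scoped TensorProduct

attribute [local instance] HasDerivedCategory.standard

noncomputable section

namespace Groth.L29.CechSect

open Groth.L29.CechTerms Groth.L29.Formal

variable {A : Type u} [CommRing A]

/-- basic open -/
abbrev D (f : A) : (Spec (CommRingCat.of A)).Opens := PrimeSpectrum.basicOpen (R := A) f

/-- restriction -/
abbrev res {V V' : (Spec (CommRingCat.of A)).Opens} (h : V' ≤ V) (N : ModuleCat.{u} A) : sec V N →ₗ[A] sec V' N :=
  ((modulesSpecToSheaf.obj (tilde (R := CommRingCat.of A) N)).presheaf.map (homOfLE h).op).hom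

theorem res_res {V V' V'' : (Spec (CommRingCat.of A)).Opens} (h : V' ≤ V) (h' : V'' ≤ V') (N : ModuleCat.{u} A)
    (s : sec V N) : res h' N (res h N s) = res (h'.trans h) N s :=
  (ConcreteCategory.congr_hom ((modulesSpecToSheaf.obj (tilde (R := CommRingCat.of A) N)).presheaf.map_comp
    (homOfLE h).op (homOfLE h').op) s).symm

theorem res_toOpen {V V' : (Spec (CommRingCat.of A)).Opens} (h : V' ≤ V) (N : ModuleCat.{u} A) (m : N) :
    res h N ((tilde.toOpen (R := CommRingCat.of A) N V).hom m) = (tilde.toOpen (R := CommRingCat.of A) N V').hom m :=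
  ConcreteCategory.congr_hom (tilde.toOpen_res (R := CommRingCat.of A) N V V' (homOfLE h)) m

theorem secMap_res {V V' : (Spec (CommRingCat.of A)).Opens} (h : V' ≤ V) {N N' : ModuleCat.{u} A} (g : N ⟶ N')
    (s : sec V N) : res h N' ((secMap V g).hom s) = (secMap V' g).hom (res h N s) :=
  (ConcreteCategory.congr_hom
    ((modulesSpecToSheaf.map ((tilde.functor (CommRingCat.of A)).map g)).hom.naturality (homOfLE h).op) s).symm

theorem isLocalized_basic {R : CommRingCat.{u}} (f : R) (N : ModuleCat.{u} R) :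
    IsLocalizedModule (Submonoid.powers f) (tilde.toOpen N (PrimeSpectrum.basicOpen f)).hom :=
  inferInstanceAs (IsLocalizedModule.Away f (tilde.toOpen N (PrimeSpectrum.basicOpen f)).hom)

instance isLocalized_D (f : A) (N : ModuleCat.{u} A) :
    IsLocalizedModule (Submonoid.powers f) (tilde.toOpen (R := CommRingCat.of A) N (D f)).hom :=
  isLocalized_basic (R := CommRingCat.of A) f N

instance isLocalized_tensor (f : A) (N : ModuleCat.{u} A) :
    IsLocalizedModule (Submonoid.powers f)
      ((LocalizedModule.mkLinearMap (Submonoid.powers f) A).rTensor N ∘ₗ (TensorProduct.lid A N).symm.toLinearMap) := by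
  haveI : IsLocalizedModule (Submonoid.powers f) ((LocalizedModule.mkLinearMap (Submonoid.powers f) A).rTensor N) :=
    IsLocalizedModule.rTensor (R := A) (A := A) (S := Submonoid.powers f) (LocalizedModule.mkLinearMap (Submonoid.powers f) A)
  exact IsLocalizedModule.of_linearEquiv_right _ _ _

theorem smul_bij_D (f g : A) (h : g ∣ f) (N : ModuleCat.{u} A) (k : ℕ) :
    Function.Bijective fun x : sec (D f) N => g ^ k • x := by
  have hu := IsLocalizedModule.map_units (tilde.toOpen (R := CommRingCat.of A) N (D f)).hom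
    (⟨f ^ k, Submonoid.mem_powers_iff _ _ |>.2 ⟨k, rfl⟩⟩ : Submonoid.powers f)
  obtain ⟨t, ht⟩ := pow_dvd_pow_of_dvd h k
  have hb : Function.Bijective fun x : sec (D f) N => f ^ k • x := (Module.End.isUnit_iff _).1 hu
  refine ⟨fun x y hxy => hb.1 ?_, fun y => ?_⟩
  · change f ^ k • x = f ^ k • y
    rw [ht, mul_comm, mul_smul, mul_smul, show g ^ k • x = g ^ k • y from hxy]
  · obtain ⟨z, hz⟩ := hb.2 y
    exact ⟨t • z, by change g ^ k • t • z = y; rw [← mul_smul, ← ht]; exact hz⟩

theorem exists_toOpen (f : A) (N : ModuleCat.{u} A) (x : sec (D f) N) :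
    ∃ (k : ℕ) (m : N), f ^ k • x = (tilde.toOpen (R := CommRingCat.of A) N (D f)).hom m := by
  obtain ⟨⟨m, ⟨_, k, rfl⟩⟩, hm⟩ :=
    IsLocalizedModule.surj (Submonoid.powers f) (tilde.toOpen (R := CommRingCat.of A) N (D f)).hom x
  exact ⟨k, m, hm⟩

theorem exists_pow_toOpen (f : A) (N : ModuleCat.{u} A) {m : N}
    (hm : (tilde.toOpen (R := CommRingCat.of A) N (D f)).hom m = 0) : ∃ k : ℕ, f ^ k • m = 0 := by
  obtain ⟨⟨_, k, rfl⟩, hk⟩ :=
    (IsLocalizedModule.eq_zero_iff (Submonoid.powers f) (tilde.toOpen (R := CommRingCat.of A) N (D f)).hom).1 hm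
  exact ⟨k, hk⟩

theorem exists_pow_res (f g : A) (N : ModuleCat.{u} A) (x : sec (D f) N) (h : D (f * g) ≤ D f)
    (hx : res h N x = 0) : ∃ l : ℕ, g ^ l • x = 0 := by
  obtain ⟨a, m, hm⟩ := exists_toOpen f N x
  have h0 : (tilde.toOpen (R := CommRingCat.of A) N (D (f * g))).hom m = 0 := by
    rw [← res_toOpen h N m, ← hm, map_smul, hx, smul_zero]
  obtain ⟨l, hl⟩ := exists_pow_toOpen _ N h0
  refine ⟨l, (smul_bij_D f f dvd_rfl N (l + a)).1 ?_⟩
  change f ^ (l + a) • g ^ l • x = f ^ (l + a) • 0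
  rw [smul_zero, ← mul_smul, show f ^ (l + a) * g ^ l = (f * g) ^ l * f ^ a by ring, mul_smul, hm, ← map_smul, hl,
    map_zero]

/-- localisation tensor module is sections on a basic open -/
def theta (f : A) (N : ModuleCat.{u} A) : L f ⊗[A] N ≃ₗ[A] sec (D f) N :=
  IsLocalizedModule.linearEquiv (Submonoid.powers f)
    ((LocalizedModule.mkLinearMap (Submonoid.powers f) A).rTensor N ∘ₗ (TensorProduct.lid A N).symm.toLinearMap)
    (tilde.toOpen (R := CommRingCat.of A) N (D f)).hom

theorem theta_one (f : A) (N : ModuleCat.{u} A) (n : N) :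
    theta f N (LocalizedModule.mkLinearMap (Submonoid.powers f) A 1 ⊗ₜ[A] n) =
      (tilde.toOpen (R := CommRingCat.of A) N (D f)).hom n :=
  IsLocalizedModule.linearEquiv_apply (Submonoid.powers f)
    ((LocalizedModule.mkLinearMap (Submonoid.powers f) A).rTensor N ∘ₗ (TensorProduct.lid A N).symm.toLinearMap)
    (tilde.toOpen (R := CommRingCat.of A) N (D f)).hom n

theorem theta_natural (f : A) {N N' : ModuleCat.{u} A} (g : N ⟶ N') (x : L f ⊗[A] N) :
    theta f N' (g.hom.lTensor (L f) x) = (secMap (D f) g).hom (theta f N x) := by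
  let i := (LocalizedModule.mkLinearMap (Submonoid.powers f) A).rTensor N ∘ₗ (TensorProduct.lid A N).symm.toLinearMap
  refine LinearMap.congr_fun (IsLocalizedModule.ext (Submonoid.powers f) i
    (IsLocalizedModule.map_units (tilde.toOpen (R := CommRingCat.of A) N' (D f)).hom)
    (j := (theta f N').toLinearMap ∘ₗ g.hom.lTensor (L f))
    (k := (secMap (D f) g).hom ∘ₗ (theta f N).toLinearMap) (LinearMap.ext fun n => ?_)) x
  simp only [i, LinearMap.comp_apply, LinearEquiv.coe_coe, TensorProduct.lid_symm_apply, LinearMap.rTensor_tmul,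
    LinearMap.lTensor_tmul, theta_one]
  exact (secMap_toOpen (D f) g n).symm

variable (fs : List A) (N : ModuleCat.{u} A)

/-- components as sections -/
def cmp (j : Fin fs.length) : ((K fs).X 1 : Type u) ⊗[A] N →ₗ[A] sec (D fs[j]) N :=
  (theta fs[j] N).toLinearMap ∘ₗ compN N fs j

theorem bijective_cmp : Function.Bijective fun (x : ((K fs).X 1 : Type u) ⊗[A] N) (j : Fin fs.length) => cmp fs N j x :=
  (Function.Bijective.piMap fun j => (theta fs[j] N).bijective).comp (bijective_compN N fs)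

theorem cmp_d (j : Fin fs.length) (x : ((K fs).X 0 : Type u) ⊗[A] N) :
    cmp fs N j (((K fs).d 0 1).hom.rTensor N x) =
      (tilde.toOpen (R := CommRingCat.of A) N (D fs[j])).hom (augN N fs x) := by
  simp only [cmp, LinearMap.comp_apply, LinearEquiv.coe_coe, compN_d, theta_one]

theorem cmp_natural {N' : ModuleCat.{u} A} (g : N ⟶ N') (j : Fin fs.length)
    (x : ((K fs).X 1 : Type u) ⊗[A] N) : cmp fs N' j (g.hom.lTensor _ x) = (secMap (D fs[j]) g).hom (cmp fs N j x) := by
  refine Eq.trans ?_ (theta_natural fs[j] g (compN N fs j x))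
  exact congrArg (theta fs[j] N') ((LinearMap.congr_fun (LinearMap.lTensor_comp_rTensor _ _ _) x).trans
    (LinearMap.congr_fun (LinearMap.rTensor_comp_lTensor _ _ _) x).symm).symm

variable {V : (Spec (CommRingCat.of A)).Opens} (hle : ∀ j : Fin fs.length, D fs[j] ≤ V)

theorem d_d (x : ((K fs).X 0 : Type u) ⊗[A] N) :
    ((K fs).d 1 2).hom.rTensor N (((K fs).d 0 1).hom.rTensor N x) = 0 := by
  rw [← LinearMap.rTensor_comp_apply, ← ModuleCat.hom_comp, HomologicalComplex.d_comp_d, ModuleCat.hom_zero,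
    LinearMap.rTensor_zero, LinearMap.zero_apply]

theorem exists_cocycle (s : sec V N) : ∃ z : ((K fs).X 1 : Type u) ⊗[A] N,
    ((K fs).d 1 2).hom.rTensor N z = 0 ∧ ∀ j, cmp fs N j z = res (hle j) N s := by
  obtain ⟨z, hz⟩ := (bijective_cmp fs N).2 fun j => res (hle j) N s
  have hz' : ∀ j, cmp fs N j z = res (hle j) N s := congrFun hz
  refine ⟨z, eq_zero_of_torsion N fs 2 (by norm_num) _ fun g hg => ?_, hz'⟩
  obtain ⟨i, hi, rfl⟩ := List.getElem_of_mem hg
  obtain ⟨k, m, hm⟩ := exists_toOpen fs[i] N (res (hle ⟨i, hi⟩) N s)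
  obtain ⟨e, he⟩ := (bijective_augN N fs).2 m
  have h : ∀ j : Fin fs.length, ∃ l : ℕ,
      fs[i] ^ l • (cmp fs N j (fs[i] ^ k • z - ((K fs).d 0 1).hom.rTensor N e)) = 0 := fun j => by
    have h₁ : D (fs[j] * fs[i]) ≤ D fs[j] := PrimeSpectrum.basicOpen_mul_le_left _ _
    have h₂ : D (fs[j] * fs[i]) ≤ D fs[i] := PrimeSpectrum.basicOpen_mul_le_right _ _
    refine exists_pow_res fs[j] fs[i] N _ h₁ ?_
    rw [map_sub, map_smul, hz', cmp_d, he, map_sub, map_smul, res_toOpen, res_res, sub_eq_zero]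
    have := congrArg (res h₂ N) hm
    rw [map_smul, res_toOpen] at this
    exact (congrArg _ (res_res _ _ N s)).symm.trans this
  choose l hl using h
  refine ⟨Finset.univ.sup l + k, ?_⟩
  have h0 : fs[i] ^ Finset.univ.sup l • (fs[i] ^ k • z - ((K fs).d 0 1).hom.rTensor N e) = 0 :=
    (bijective_cmp fs N).1 (funext fun j => by
      obtain ⟨t, ht⟩ := Nat.exists_eq_add_of_le (Finset.le_sup (f := l) (Finset.mem_univ j))
      simp only [map_zero, map_smul]
      rw [ht, pow_add, mul_comm, mul_smul, hl, smul_zero])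
  have h1 := congrArg (((K fs).d 1 2).hom.rTensor N) h0
  rwa [map_smul, map_sub, map_smul, d_d, sub_zero, map_zero, ← mul_smul, ← pow_add] at h1

variable [IsNoetherianRing A]

theorem exists_bound (z : ((K fs).X 1 : Type u) ⊗[A] N) (hz : ((K fs).d 1 2).hom.rTensor N z = 0)
    (g : A) (hg : g ∈ fs) :
    ∃ (k : ℕ) (e : ((K fs).X 0 : Type u) ⊗[A] N), ((K fs).d 0 1).hom.rTensor N e = g ^ k • z := by
  let J : Ideal A := Ideal.span {x : A | x ∈ fs}
  haveI := Groth.L10.DualUnbounded.hasRgammaI J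
  let C := (Groth.L10.CompletionAdic.tC N).obj (K fs)
  have ht : LocCoh.IsPowerTorsion J (C.homology 1 : Type u) :=
    Groth.L04.RGamma.isPowerTorsion_of_iso J (Groth.L10.CompletionBound.hhIso C 1)
      (Groth.L10.GammaTensor.isTors_tC J N fs rfl 1)
  obtain ⟨k, hk⟩ := ht (Groth.L28.Kun.cl C 1 ⟨z, hz⟩)
  have h := hk _ (Ideal.pow_mem_pow (Ideal.subset_span (s := {x : A | x ∈ fs}) hg) k)
  rw [← map_smul, Groth.L28.Kun.cl_eq_zero_iff C (show (0 : ℤ) + 1 = 1 from rfl)] at h
  obtain ⟨e, he⟩ := h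
  exact ⟨k, e, he⟩

theorem exists_section (hcov : V ≤ ⨆ j : Fin fs.length, D fs[j]) (z : ((K fs).X 1 : Type u) ⊗[A] N)
    (hz : ((K fs).d 1 2).hom.rTensor N z = 0) : ∃ s : sec V N, ∀ j, res (hle j) N s = cmp fs N j z := by
  let F := modulesSpecToSheaf.obj (tilde (R := CommRingCat.of A) N)
  have hc : TopCat.Presheaf.IsCompatible F.obj (fun j : Fin fs.length => D fs[j]) fun j => cmp fs N j z := by
    intro i j
    change res inf_le_left N (cmp fs N i z) = res inf_le_right N (cmp fs N j z)
    obtain ⟨k, e, he⟩ := exists_bound fs N z hz fs[i] (List.getElem_mem i.2)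
    have hm : D fs[i] ⊓ D fs[j] = D (fs[i] * fs[j]) := (PrimeSpectrum.basicOpen_mul _ _).symm
    have key : ∀ {W : (Spec (CommRingCat.of A)).Opens} (a : W ≤ D fs[i]) (b : W ≤ D fs[j]),
        W = D (fs[i] * fs[j]) → res a N (cmp fs N i z) = res b N (cmp fs N j z) := by
      intro W a b hW
      subst hW
      refine (smul_bij_D _ fs[i] ⟨fs[j], rfl⟩ N k).1 ?_
      change fs[i] ^ k • _ = fs[i] ^ k • _
      rw [← map_smul, ← map_smul, ← map_smul, ← map_smul, ← he, cmp_d, cmp_d, res_toOpen, res_toOpen]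
    exact key inf_le_left inf_le_right hm
  obtain ⟨s, hs, -⟩ := F.existsUnique_gluing' (fun j : Fin fs.length => D fs[j]) V (fun j => homOfLE (hle j)) hcov _ hc
  exact ⟨s, hs⟩

omit [IsNoetherianRing A] in
theorem eq_of_res (hcov : V ≤ ⨆ j : Fin fs.length, D fs[j]) (s t : sec V N)
    (h : ∀ j, res (hle j) N s = res (hle j) N t) : s = t :=
  (modulesSpecToSheaf.obj (tilde (R := CommRingCat.of A) N)).eq_of_locally_eq' (fun j : Fin fs.length => D fs[j]) V
    (fun j => homOfLE (hle j)) hcov s t h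

end Groth.L29.CechSect
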