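import Groth.Agent.L29.Formal.Regular

/-!
Cohomology as a limit along powers of an element, allowing bounded torsion: `q ≫ j = t^c`.
-/

set_option autoImplicit false
set_option linter.style.haveILetI false

universe u

open CategoryTheory CategoryTheory.Limits AlgebraicGeometry TopologicalSpace Opposite

noncomputable section

namespace Groth.L29.FormalReg

open Formal (smulMod smulFamily modPow modPowπ modPowTrans toHHmodPow HHlim toHHlim)
open Groth.L16
open Groth.L16.CohLinear (hmap hmap_comp)
open Groth.L16.Rees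

variable {A : Type u} [CommRing A] {X : Scheme.{u}} [X.Over (Spec (CommRingCat.of A))] {F G : X.Modules} (t : A)
  (q : F ⟶ G) (j : G ⟶ F) (c : ℕ) (hqj : q ≫ j = smulMod A F (t ^ c))

/-- `G → F → F / t^(c+e) F` -/
abbrev seqT (e : ℕ) (hqj : q ≫ j = smulMod A F (t ^ c)) [Epi q] : ShortComplex X.Modules :=
  ShortComplex.mk (j ≫ smulMod A F (t ^ e)) (modPowπ (Ideal.span {t}) (e + c) F) (by
    rw [← cancel_epi q, comp_zero, ← Category.assoc, ← Category.assoc, hqj, ← smulMod_mul, ← pow_add]
    exact smulMod_π F t (e + c))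

variable [Epi q] [Mono j]

include hqj in
theorem seqT_shortExact (hG : Mono (smulMod A G t)) (e : ℕ) : (seqT t q j c e hqj).ShortExact := by
  haveI := mono_pow G t hG e
  haveI : Epi (modPowπ (Ideal.span {t}) (e + c) F) := inferInstanceAs (Epi (cokernel.π _))
  haveI : Mono (j ≫ smulMod A F (t ^ e)) := by
    rw [← smulMod_naturality]
    exact mono_comp _ _
  have hd : ∀ {Z : X.Modules} (g : F ⟶ Z), (j ≫ smulMod A F (t ^ e)) ≫ g = 0 →
      smulFamily (Ideal.span {t} ^ (e + c)) F ≫ g = 0 := fun g hg => desc_cond F t (e + c) g (by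
    have : q ≫ (j ≫ smulMod A F (t ^ e)) ≫ g = 0 := by rw [hg, comp_zero]
    rwa [← Category.assoc, ← Category.assoc, hqj, ← smulMod_mul, ← pow_add] at this)
  refine ⟨ShortComplex.exact_of_g_is_cokernel _ (CokernelCofork.IsColimit.ofπ _ _
    (fun g hg => cokernel.desc _ g (hd g hg)) (fun g hg => cokernel.π_desc _ _ _)
    (fun g hg b hb => ?_))⟩
  exact coequalizer.hom_ext (hb.trans (cokernel.π_desc _ _ _).symm)

theorem smulMod_π' {m n : ℕ} (h : m ≤ n) : smulMod A F (t ^ n) ≫ modPowπ (Ideal.span {t}) m F = 0 :=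
  smulMod_modPowπ _ F (Ideal.pow_le_pow_right h (pow_mem_span t n))

/-- compatibility of the sequences -/
def seqTHom (e : ℕ) : seqT t q j c (e + 1) hqj ⟶ seqT t q j c e hqj :=
  ShortComplex.homMk (smulMod A G t) (𝟙 F) (Formal2.modPowLE (Ideal.span {t}) (show e + c ≤ e + 1 + c by omega) F)
    (by
      show smulMod A G t ≫ j ≫ smulMod A F (t ^ e) = (j ≫ smulMod A F (t ^ (e + 1))) ≫ 𝟙 F
      rw [Category.comp_id, ← Category.assoc, smulMod_naturality, Category.assoc, ← smulMod_mul, ← pow_succ])
    (by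
      show 𝟙 F ≫ modPowπ (Ideal.span {t}) (e + c) F = _
      rw [Category.id_comp]; exact (Formal2.modPowπ_modPowLE _ _ F).symm)

variable [IsNoetherianRing A] [IsAdicComplete (Ideal.span {t}) A] (hG : Mono (smulMod A G t))

include hqj hG in
/-- bijectivity, from killed `H^{i+1}` and a finite submodule capturing `t^k H^i` -/
theorem bijective_of_killed (i : ℕ) (k₁ k₂ : ℕ) (P : Submodule A (Coh.HH X F i)) [Module.Finite A P]
    (hP : ∀ x, t ^ k₁ • x ∈ P) (hk₂ : ∀ x : Coh.HH X F (i + 1), t ^ k₂ • x = 0) :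
    Function.Bijective (toHHlim (Ideal.span {t}) F i) := by
  let I : Ideal A := Ideal.span {t}
  haveI : IsAdicComplete I P := isAdicComplete_of_finite I P
  -- kernels
  have hker : ∀ n l, n + 1 = l + (c + k₁) → ∀ x, toHHmodPow I F i n x = 0 → ∃ p ∈ P, x = t ^ l • p := by
    intro n l hn x hx
    have hn' : n + 1 = (l + k₁) + c := by omega
    have hx' : ∀ m, m = n + 1 → hmap (modPowπ I m F) i x = 0 := fun m hm => by subst hm; exact hx
    obtain ⟨z, hz⟩ := (CohLinear.exact_hmap_hmap (seqT_shortExact t q j c hqj hG (l + k₁)) i x).1 (hx' _ hn'.symm)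
    refine ⟨t ^ k₁ • hmap j i z, hP _, ?_⟩
    rw [smul_smul, ← pow_add, ← hz]
    change hmap (j ≫ smulMod A F (t ^ (l + k₁))) i z = _
    rw [hmap_comp, Groth.L16.Rees.hmap_smulMod A F]
  have hB : ∀ w : Coh.HH X G (i + 1), t ^ (k₂ + c) • w = 0 := by
    intro w
    have h1 : hmap q (i + 1) (hmap j (i + 1) w) = t ^ c • w := by
      rw [← hmap_comp, show j ≫ q = smulMod A G (t ^ c) by
        rw [← cancel_epi q, ← Category.assoc, hqj, smulMod_naturality], Groth.L16.Rees.hmap_smulMod A G]
    rw [pow_add, mul_smul, ← h1, ← Groth.L16.Rees.hmap_smulMod A G (t ^ k₂), ← hmap_comp, ← smulMod_naturality, hmap_comp,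
      Groth.L16.Rees.hmap_smulMod A F, hk₂, map_zero]
  refine ⟨(injective_iff_map_eq_zero _).2 fun x hx => ?_, fun y => ?_⟩
  · have hmem : ∀ l, ∃ p ∈ P, x = t ^ l • p := fun l => by
      obtain ⟨p, hp, h⟩ := hker (l + 1 + (c + k₁) - 1) (l + 1) (by omega) x (congrFun (congrArg Subtype.val hx) _)
      exact ⟨t • p, P.smul_mem t hp, by rw [h, smul_smul, ← pow_succ]⟩
    obtain ⟨p, hp, h0⟩ := hmem 0
    have hxP : x ∈ P := h0 ▸ P.smul_mem _ hp
    exact congrArg Subtype.val (eq_zero_of_mem t (⟨x, hxP⟩ : P) fun l => by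
      obtain ⟨p, hp, h⟩ := hmem l
      exact ⟨⟨p, hp⟩, Subtype.ext h⟩)
  · let dl := fun e => CohLinear.delta (seqT_shortExact t q j c hqj hG e) i
    let ye : ∀ e, Coh.HH X (modPow I (e + c) F) i := fun e =>
      hmap (Formal2.modPowLE I (Nat.le_succ (e + c)) F) i (y.1 (e + c))
    have hye : ∀ e, hmap (Formal2.modPowLE I (show e + c ≤ e + 1 + c by omega) F) i (ye (e + 1)) = ye e := by
      intro e
      haveI : ∀ m, Epi (modPowπ I m F) := fun m => inferInstanceAs (Epi (cokernel.π _))
      simp only [ye]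
      rw [← HHlim_compat I F y (show e + c ≤ e + 1 + c by omega), ← hmap_comp, ← hmap_comp]
      congr 2
      rw [← cancel_epi (modPowπ I _ F)]
      simp only [← Category.assoc, Formal2.modPowπ_modPowLE]
    have key : ∀ e d, dl e (ye e) = t ^ d • dl (e + d) (ye (e + d)) := by
      intro e d
      induction d with
      | zero => rw [pow_zero, one_smul]; rfl
      | succ d ih =>
        rw [ih, pow_succ, mul_smul]
        refine congrArg _ ?_
        have h1 := delta_naturality (seqT_shortExact t q j c hqj hG (e + d + 1)) (seqT_shortExact t q j c hqj hG (e + d))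
          (seqTHom t q j c hqj (e + d)) (ye (e + d + 1))
        refine Eq.trans ?_ (h1.trans (Groth.L16.Rees.hmap_smulMod A G t (i + 1) _))
        exact congrArg (dl (e + d)) (hye (e + d)).symm
    have hlift : ∀ e, ∃ z, toHHmodPow I F i (e + c) z = y.1 (e + c) := by
      intro e
      obtain ⟨z, hz⟩ := (CohLinear.exact_hmap_delta (seqT_shortExact t q j c hqj hG (e + 1)) i (ye (e + 1))).1
        ((key (e + 1) (k₂ + c)).trans (hB _))
      refine ⟨z, ?_⟩
      have h2 : hmap (Formal2.modPowLE I (show e + c + 1 ≤ e + 1 + c by omega) F) i (ye (e + 1)) = y.1 (e + c) := by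
        haveI : ∀ m, Epi (modPowπ I m F) := fun m => inferInstanceAs (Epi (cokernel.π _))
        simp only [ye]
        rw [← hmap_comp, ← HHlim_compat I F y (show e + c ≤ e + 1 + c by omega)]
        congr 2
        rw [← cancel_epi (modPowπ I _ F)]
        simp only [← Category.assoc, Formal2.modPowπ_modPowLE]
      rw [← h2, ← hz, ← hmap_comp, toHHmodPow_apply]
      exact congrArg (fun φ => hmap φ i z) (Formal2.modPowπ_modPowLE _ _ F).symm
    choose z hz using hlift
    let N : ℕ → ℕ := fun l => l + k₁ + c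
    have hd : ∀ l, ∃ p ∈ P, z (l + 1 + k₁) - z (l + k₁) = t ^ (l + 1) • p := by
      intro l
      refine hker (N l) (l + 1) (by simp only [N]; omega) _ ?_
      rw [map_sub, ← modPowLE_toHHmodPow I F i (show N l ≤ l + 1 + k₁ + c by simp only [N]; omega), hz,
        HHlim_compat I F y (show N l ≤ l + 1 + k₁ + c by simp only [N]; omega), hz, sub_self]
    choose p hp hzp using hd
    let w : ℕ → P := fun l => ∑ s ∈ Finset.range l, t ^ (s + 1) • ⟨p s, hp s⟩
    obtain ⟨L, hL⟩ := IsPrecomplete.prec (I := I) (M := P) inferInstance (f := w) (by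
      intro a b hab
      rw [SModEq.sub_mem, ← neg_sub]
      refine neg_mem ?_
      change (∑ s ∈ Finset.range b, _) - (∑ s ∈ Finset.range a, _) ∈ _
      rw [← Finset.sum_Ico_eq_sub _ hab]
      refine Submodule.sum_mem _ fun s hs => ?_
      exact Submodule.smul_mem_smul (Ideal.pow_le_pow_right (by have := (Finset.mem_Ico.1 hs).1; omega)
        (pow_mem_span t (s + 1))) trivial)
    have hzw : ∀ l, z (l + k₁) = z k₁ + (w l : Coh.HH X F i) := by
      intro l
      induction l with
      | zero => simp [w]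
      | succ l ih =>
        rw [show w (l + 1) = w l + t ^ (l + 1) • ⟨p l, hp l⟩ from Finset.sum_range_succ _ _, Submodule.coe_add,
          ← add_assoc, ← ih, Submodule.coe_smul, ← hzp l, add_sub_cancel]
    refine ⟨z k₁ + (L : Coh.HH X F i), Subtype.ext (funext fun n => ?_)⟩
    change toHHmodPow I F i n (z k₁ + (L : Coh.HH X F i)) = y.1 n
    have hwL : toHHmodPow I F i n ((w (n + 1) - L : P) : Coh.HH X F i) = 0 := by
      refine Submodule.smul_induction_on (SModEq.sub_mem.1 (hL (n + 1))) (fun a ha x _ => ?_) fun a b ha hb => ?_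
      · rw [Submodule.coe_smul]; exact smul_mem_ker I F ha _
      · rw [Submodule.coe_add, map_add, ha, hb, add_zero]
    rw [Submodule.coe_sub, map_sub, sub_eq_zero] at hwL
    rw [map_add, ← hwL, ← map_add, ← hzw, ← modPowLE_toHHmodPow I F i (show n ≤ n + 1 + k₁ + c by omega), hz,
      HHlim_compat I F y (show n ≤ n + 1 + k₁ + c by omega)]

end Groth.L29.FormalReg
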