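import Groth.Agent.L29.Formal.Principal
import Groth.Agent.L16.NegPow.Gen
import Groth.Agent.L29.Formal.Torsion
import Groth.Agent.L29.Formal.OpenDepth
import Groth.Agent.L14.PicSurj.Bundles
import Groth.Agent.L18.LocFreeTilde
import Groth.Agent.S1743

/-!
Sections of locally free sheaves on punctured opens as limits along powers of an element.
-/

set_option autoImplicit false
set_option backward.isDefEq.respectTransparency false
set_option backward.isDefEq.respectTransparency.types false
set_option linter.style.haveILetI false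

universe u

open CategoryTheory CategoryTheory.Limits TopologicalSpace Opposite AlgebraicGeometry

noncomputable section

namespace Groth.L29.Formal

open Groth.L04.PunctLin

variable {A : Type u} [CommRing A]

/-- scalars on `M~|U` -/
theorem smulMod_tM (U : (Spec (CommRingCat.of A)).Opens) (N : ModuleCat.{u} A) (a : A) :
    _root_.Formal.smulMod A (Groth.L04.PunctLin.tM U N) a = Groth.L04.PunctLin.tg U (sc a N) := by
  refine Scheme.Modules.hom_ext _ _ fun V => ?_
  ext m
  refine Eq.trans ?_ (secMap_sc (U.ι ''ᵁ V) a N m).symm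
  refine Eq.trans ?_ (Scheme.Modules.smul_Spec_def (R := CommRingCat.of A)
    (M := tilde (R := CommRingCat.of A) N) (U := U.ι ''ᵁ V) a m).symm
  let W := U.ι ''ᵁ V
  let y : Γ(tilde (R := CommRingCat.of A) N, W) := m
  refine Eq.trans (Groth.L16.Rees.smulModΓ_app _ _ V m) ?_
  change ((U.ι.appIso V).inv.hom (((U : Scheme.{u}).presheaf.map (homOfLE (le_top : V ≤ ⊤)).op).hom
      (((U : Scheme.{u}) ↘ Spec (CommRingCat.of A)).appTop.hom ((Scheme.ΓSpecIso (CommRingCat.of A)).inv.hom a)))) • y = _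
  refine congrArg (fun r : Γ(Spec (CommRingCat.of A), W) => r • y) ?_
  rw [Scheme.Opens.ι_appIso]
  change (((Spec (CommRingCat.of A)).presheaf.map (U.ι.opensFunctor.op.map
        (homOfLE (le_top : V ≤ (⊤ : (U : Scheme.{u}).Opens))).op)).hom
      (((Spec (CommRingCat.of A)).presheaf.map (homOfLE (le_top : U.ι ''ᵁ ⊤ ≤ ⊤)).op).hom
        ((Scheme.ΓSpecIso (CommRingCat.of A)).inv.hom a))) = _
  generalize (Scheme.ΓSpecIso (CommRingCat.of A)).inv.hom a = z
  refine (CommRingCat.comp_apply _ _ z).symm.trans ?_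
  rw [← Functor.map_comp]
  rfl

theorem free_of_semi {R M S N : Type u} [CommRing R] [AddCommGroup M] [Module R M] [CommRing S] [AddCommGroup N] [Module S N]
    (E : L02.FibDepth.Semi R M S N) (hφ : Function.Injective E.φ) [Module.Free S N] : Module.Free R M := by
  let b := Module.Free.chooseBasis S N
  let r : S ≃+* R := (RingEquiv.ofBijective E.φ ⟨hφ, E.surj⟩).symm
  refine Module.Free.of_basis (Module.Basis.ofRepr
    ({ (E.e.trans (b.repr.toAddEquiv.trans (Finsupp.mapRange.addEquiv r.toAddEquiv))) with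
      map_smul' := fun c m => ?_ } : M ≃ₗ[R] (Module.Free.ChooseBasisIndex S N →₀ R)))
  refine Finsupp.ext fun i => ?_
  change r (b.repr (E.e (c • m)) i) = c • r (b.repr (E.e m) i)
  rw [E.map_smul, map_smul, Finsupp.smul_apply, smul_eq_mul, map_mul, smul_eq_mul,
    show r (E.φ c) = c from (RingEquiv.ofBijective E.φ ⟨hφ, E.surj⟩).symm_apply_apply c]

theorem mem_freeLocus [IsNoetherianRing A] (U : (Spec (CommRingCat.of A)).Opens) (N : ModuleCat.{u} A) [Module.Finite A N]
    (E : (U : Scheme.{u}).Modules) (hE : FlatMod.IsFinLocFree E) (e : tM U N ≅ E) (x : U) :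
    U.ι x ∈ Module.freeLocus A N := by
  haveI : Module.Free ((U : Scheme.{u}).presheaf.stalk x) ((Groth.L00.Stk.F (U : Scheme.{u}) x).obj E) :=
    Groth.L18.LFP.free_stalk E hE x
  let φ := Groth.L00.PullStalk.φ U.ι x
  have hbij : Function.Bijective φ := (asIso (U.ι.stalkMap x)).commRingCatIsoToRingEquiv.bijective
  let q := U.ι x
  let P := (Groth.L00.Stk.F (Spec (CommRingCat.of A)) q).obj (tilde (R := CommRingCat.of A) N)
  let eU : (Groth.L00.Stk.F (U : Scheme.{u}) x).obj E ≅ (ModuleCat.extendScalars φ).obj P :=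
    (Groth.L00.Stk.F (U : Scheme.{u}) x).mapIso (e.symm ≪≫ (Scheme.Modules.restrictFunctorIsoPullback U.ι).app _) ≪≫
      (Groth.L00.PullStalk.stalkIso U.ι x).app _
  haveI : Module.Free ((U : Scheme.{u}).presheaf.stalk x) ((ModuleCat.extendScalars φ).obj P) :=
    Module.Free.of_equiv eU.toLinearEquiv
  haveI : Module.Free ((Spec (CommRingCat.of A)).presheaf.stalk q) P :=
    free_of_semi (Groth.L29.OpenDepth.semiExtend φ hbij P) hbij.1
  let t := Groth.L00.KFlat.toStalk (CommRingCat.of A) q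
  letI : Algebra A ((Spec (CommRingCat.of A)).presheaf.stalk q) := t.toAlgebra
  haveI : IsLocalization.AtPrime ((Spec (CommRingCat.of A)).presheaf.stalk q) q.asIdeal :=
    Groth.L29.DC.TorTest.isLocalization_toStalk q
  exact (Module.mem_freeLocus_iff_tensor q ((Spec (CommRingCat.of A)).presheaf.stalk q)).2
    (Module.Free.of_equiv' ‹Module.Free ((Spec (CommRingCat.of A)).presheaf.stalk q) P›
      ((Groth.L00.KFlat.tildeStalkIso (CommRingCat.of A) q).app N).toLinearEquiv)

/-- locally free sheaves on a punctured open: sections are the limit, if `H¹` and `H²` of the ring are killed -/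
theorem toHHlim_bijective_of_finLocFree [IsNoetherianRing A] (I : Ideal A) (f : A) (hf : f ∈ I)
    [IsAdicComplete (Ideal.span {f}) A] (h₁ : ∃ n : ℕ, ∀ x : LocCoh.H I 1 A, f ^ n • x = 0)
    (h₂ : ∃ n : ℕ, ∀ x : LocCoh.H I 2 A, f ^ n • x = 0)
    (E : (LocCoh.puncturedOpen A I : Scheme.{u}).Modules) (hE : FlatMod.IsFinLocFree E) :
    Function.Bijective (_root_.Formal.toHHlim (Ideal.span {f}) E 0) := by
  let U := LocCoh.puncturedOpen A I
  haveI : IsNoetherianRing (CommRingCat.of A) := inferInstanceAs (IsNoetherianRing A)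
  have hcoh := Groth.L16.NegPow.isCoh_of_isFinLocFree hE
  haveI : Coh.IsQCoh E := hcoh.1
  obtain ⟨N, hN, ⟨e⟩⟩ := Groth.L14.PicSurj.exists_tilde_extension' U E hcoh.2
  haveI : Module.Finite A N := hN
  haveI : Module.FinitePresentation A N := Module.finitePresentation_of_finite A N
  have hproj : ∀ g ∈ I, Module.Projective (Localization.Away g) (LocalizedModule (Submonoid.powers g) N) := fun g hg =>
    Module.basicOpen_subset_freeLocus_iff.1 fun p hp => mem_freeLocus U N E hE e ⟨p, fun hz => hp (hz hg)⟩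
  have hann : ∀ i, (∃ n : ℕ, ∀ x : LocCoh.H I i A, f ^ n • x = 0) →
      ∃ n : ℕ, ∀ x : (localCohomology I i).obj N, f ^ n • x = 0 := fun i ⟨n, hn⟩ => by
    obtain ⟨m, hm⟩ := Groth.Agent.S1743.result A (Ideal.span {f}) I ((Ideal.span_singleton_le_iff_mem I).2 hf) i n
      (fun a ha x => by
        rw [Ideal.span_singleton_pow, Ideal.mem_span_singleton'] at ha
        obtain ⟨b, rfl⟩ := ha
        rw [mul_smul, hn, smul_zero]) N hproj
    exact ⟨m, fun x => hm _ (Ideal.pow_mem_pow (Ideal.mem_span_singleton_self f) m) x⟩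
  obtain ⟨k₁, hk₁⟩ := hann 1 h₁
  obtain ⟨k₂, hk₂⟩ := hann 2 h₂
  obtain ⟨c, hc⟩ := exists_torsion_bound f N
  let T : Submodule A N := LinearMap.ker (f ^ c • (LinearMap.id : N →ₗ[A] N))
  let Nb := ModuleCat.of A (N ⧸ T)
  let qq : N ⟶ Nb := ModuleCat.ofHom T.mkQ
  let jj : Nb ⟶ N := ModuleCat.ofHom (T.liftQ (f ^ c • LinearMap.id) le_rfl)
  let Fu := tilde.functor (CommRingCat.of A) ⋙ Scheme.Modules.restrictFunctor U.ι
  haveI : PreservesFiniteLimits (tilde.functor (CommRingCat.of A)) := Groth.L18.TildeF.tilde_preservesFiniteLimits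
  haveI : Epi qq := (ModuleCat.epi_iff_surjective _).2 T.mkQ_surjective
  haveI : Mono jj := (ModuleCat.mono_iff_injective _).2 ((injective_iff_map_eq_zero _).2 fun z hz => by
    obtain ⟨m, rfl⟩ := Submodule.Quotient.mk_surjective T z
    exact (Submodule.Quotient.mk_eq_zero T).2 hz)
  haveI : Mono (sc f Nb) := (ModuleCat.mono_iff_injective _).2 ((injective_iff_map_eq_zero _).2 fun z hz => by
    obtain ⟨m, rfl⟩ := Submodule.Quotient.mk_surjective T z
    have h1 : f ^ c • (f • m) = 0 := (Submodule.Quotient.mk_eq_zero T).1 hz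
    exact (Submodule.Quotient.mk_eq_zero T).2 (hc (c + 1) m (by rw [pow_succ, mul_smul]; exact h1)))
  haveI : Mono (Fu.map jj) := by dsimp [Fu]; infer_instance
  haveI : Epi (Fu.map qq) := by
    haveI : (tilde.functor (CommRingCat.of A)).IsLeftAdjoint := (tilde.adjunction (R := CommRingCat.of A)).isLeftAdjoint
    haveI h1 : Epi ((tilde.functor (CommRingCat.of A)).map qq) := Functor.map_epi _ qq
    exact @Functor.map_epi _ _ _ _ (Scheme.Modules.restrictFunctor U.ι) (preservesEpimorphisms_of_preservesColimitsOfShape _) _ _ _ h1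
  have hG : Mono (_root_.Formal.smulMod A (tM U Nb) f) := by
    rw [smulMod_tM]
    change Mono ((Scheme.Modules.restrictFunctor U.ι).map ((tilde.functor (CommRingCat.of A)).map (sc f Nb)))
    infer_instance
  haveI : Epi (e.inv ≫ Fu.map qq) := epi_comp _ _
  haveI : Mono (Fu.map jj ≫ e.hom) := mono_comp _ _
  have hqj : (e.inv ≫ Fu.map qq) ≫ Fu.map jj ≫ e.hom = _root_.Formal.smulMod A E (f ^ c) := by
    rw [Category.assoc, ← Fu.map_comp_assoc,
      show qq ≫ jj = sc (f ^ c) N from ModuleCat.hom_ext (LinearMap.ext fun _ => rfl)]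
    change e.inv ≫ tg U (sc (f ^ c) N) ≫ e.hom = _
    rw [← smulMod_tM, Groth.L16.Rees.smulMod_naturality, e.inv_hom_id_assoc]
  let tO : N →ₗ[A] Coh.HH (U : Scheme.{u}) E 0 := (Groth.L16.CohLinear.overLin A (Groth.L16.CohLinear.hmap e.hom 0)).comp
    ((gamma U N).symm.toLinearMap.comp (tilde.toOpen (R := CommRingCat.of A) N U).hom)
  haveI : Module.Finite A (LinearMap.range tO) := Module.Finite.range tO
  refine Groth.L29.FormalReg.bijective_of_killed f (e.inv ≫ Fu.map qq) (Fu.map jj ≫ e.hom) c hqj hG 0 k₁ k₂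
    (LinearMap.range tO) (fun x => ?_) (fun x => ?_)
  · obtain ⟨m, hm⟩ := smul_mem_range I N (f ^ k₁) hk₁ (gamma U N (Groth.L16.CohLinear.hmap e.inv 0 x))
    refine ⟨m, ?_⟩
    change Groth.L16.CohLinear.overLin A (Groth.L16.CohLinear.hmap e.hom 0)
      ((gamma U N).symm ((tilde.toOpen (R := CommRingCat.of A) N U).hom m)) = _
    rw [hm, map_smul, LinearEquiv.symm_apply_apply, map_smul]
    refine congrArg _ ?_
    change Groth.L16.CohLinear.hmap e.hom 0 _ = x
    rw [← Groth.L16.CohLinear.hmap_comp, e.inv_hom_id, Groth.L16.CohLinear.hmap_id]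
  · obtain ⟨ee⟩ := nonempty_equiv I 0 N
    have hz : f ^ k₂ • Groth.L16.CohLinear.hmap e.inv 1 x = 0 := ee.injective (by rw [map_smul, hk₂, map_zero])
    have := congrArg (Groth.L16.CohLinear.overLin A (Groth.L16.CohLinear.hmap e.hom 1)) hz
    rw [map_smul, map_zero] at this
    refine Eq.trans (congrArg _ ?_) this
    change x = Groth.L16.CohLinear.hmap e.hom 1 _
    rw [← Groth.L16.CohLinear.hmap_comp, e.inv_hom_id, Groth.L16.CohLinear.hmap_id]

end Groth.L29.Formal
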