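import Groth.Agent.L29.Formal.DepthExtend
import Groth.Agent.L29.Formal.PuncLocFree
import Groth.Agent.L16.Exist.FormalSect

/-!
`toHHlim` of a tilde sheaf on an open versus `FormalCohBijective` of the module, in degree zero.
-/

set_option autoImplicit false
set_option backward.isDefEq.respectTransparency false
set_option backward.isDefEq.respectTransparency.types false
set_option linter.style.haveILetI false

universe u

open CategoryTheory CategoryTheory.Limits AlgebraicGeometry Opposite

attribute [local instance] HasDerivedCategory.standard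

noncomputable section

namespace Groth.L29.Bridge

open Groth.L29.Formal Groth.L04.PunctLin
open _root_.Formal (modPow modPowπ modPowTrans smulMod smulFamily)

variable {A : Type u} [CommRing A] (U : (Spec (CommRingCat.of A)).Opens) (I : Ideal A)
  (N : Type u) [AddCommGroup N] [Module A N]

/-- tilde then restriction -/
abbrev Fu : ModuleCat.{u} A ⥤ (U : Scheme.{u}).Modules :=
  tilde.functor (CommRingCat.of A) ⋙ Scheme.Modules.restrictFunctor U.ι

theorem exists_modPowIso (n : ℕ) :
    ∃ e : modPow I (n + 1) (tM U (ModuleCat.of A N)) ≅ tM U (ModuleCat.of A (Formal2.quotPow A I N n)),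
      modPowπ I (n + 1) (tM U (ModuleCat.of A N)) ≫ e.hom = tg U (ModuleCat.ofHom (Formal2.quotPowπ A I N n)) := by
  let J : Ideal A := I ^ (n + 1)
  let M := ModuleCat.of A N
  let Q := ModuleCat.of A (Formal2.quotPow A I N n)
  let q : M ⟶ Q := ModuleCat.ofHom (Formal2.quotPowπ A I N n)
  let G := Fu U
  haveI : PreservesColimitsOfSize.{u, u} (tilde.functor (CommRingCat.of A)) :=
    tilde.adjunction.leftAdjoint_preservesColimits
  haveI : PreservesColimitsOfSize.{0, 0} (tilde.functor (CommRingCat.of A)) :=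
    tilde.adjunction.leftAdjoint_preservesColimits
  haveI : Epi q := (ModuleCat.epi_iff_surjective _).2 (Submodule.mkQ_surjective _)
  haveI : (tilde.functor (CommRingCat.of A)).IsLeftAdjoint := (tilde.adjunction (R := CommRingCat.of A)).isLeftAdjoint
  haveI : Epi (G.map q) := by
    haveI h1 : Epi ((tilde.functor (CommRingCat.of A)).map q) := Functor.map_epi _ q
    exact @Functor.map_epi _ _ _ _ (Scheme.Modules.restrictFunctor U.ι)
      (preservesEpimorphisms_of_preservesColimitsOfShape _) _ _ _ h1
  have h1 : smulFamily J (tM U M) ≫ G.map q = 0 := by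
    refine Sigma.hom_ext _ _ fun a => ?_
    rw [comp_zero, smulFamily, Sigma.ι_desc_assoc, smulMod_tM]
    change G.map (sc (a : A) M) ≫ G.map q = 0
    rw [← G.map_comp, show sc (a : A) M ≫ q = 0 from ModuleCat.hom_ext (LinearMap.ext fun x =>
      (Submodule.Quotient.mk_eq_zero _).2 (Submodule.smul_mem_smul a.2 Submodule.mem_top))]
    exact (Scheme.Modules.restrictFunctor U.ι).map_zero _ _ |>.symm ▸ by simp [G, Fu]
  let D : (∐ fun _ : J => M) ⟶ M := Sigma.desc fun a => sc (a : A) M
  have hD : G.map D ≫ modPowπ I (n + 1) (tM U M) = 0 := by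
    refine (isColimitOfHasCoproductOfPreservesColimit G fun _ : J => M).hom_ext fun ⟨a⟩ => ?_
    change G.map (Sigma.ι (fun _ : J => M) a) ≫ G.map D ≫ modPowπ I (n + 1) (tM U M) =
      G.map (Sigma.ι (fun _ : J => M) a) ≫ 0
    rw [← Functor.map_comp_assoc, Sigma.ι_desc, comp_zero]
    change tg U (sc (a : A) M) ≫ _ = _
    rw [← smulMod_tM, ← Sigma.ι_desc (fun b : J => smulMod A (tM U M) (b : A)) a, Category.assoc]
    exact (congrArg _ (cokernel.condition (smulFamily J (tM U M)))).trans comp_zero
  have hle : J • (⊤ : Submodule A N) ≤ LinearMap.ker (cokernel.π D).hom := Submodule.smul_le.2 fun a ha x _ => by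
    have h := ConcreteCategory.congr_hom (congrArg (Sigma.ι (fun _ : J => M) ⟨a, ha⟩ ≫ ·) (cokernel.condition D)) x
    simp only [D, Sigma.ι_desc_assoc, comp_zero] at h
    exact h
  let toC : Q ⟶ cokernel D := ModuleCat.ofHom (Submodule.liftQ _ (cokernel.π D).hom hle)
  have hqC : q ≫ toC = cokernel.π D := ModuleCat.hom_ext (LinearMap.ext fun x => rfl)
  let l : G.obj Q ⟶ modPow I (n + 1) (tM U M) :=
    G.map toC ≫ (PreservesCokernel.iso G D).hom ≫ cokernel.desc (G.map D) _ hD
  have hl : G.map q ≫ l = modPowπ I (n + 1) (tM U M) := by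
    simp only [l, ← Functor.map_comp_assoc, hqC]
    rw [show G.map (cokernel.π D) = cokernel.π (G.map D) ≫ (PreservesCokernel.iso G D).inv by
      simp [PreservesCokernel.iso_inv], Category.assoc, Iso.inv_hom_id_assoc, cokernel.π_desc]
  refine ⟨⟨cokernel.desc _ (G.map q) h1, l, ?_, ?_⟩, cokernel.π_desc _ _ _⟩
  · exact coequalizer.hom_ext ((cokernel.π_desc_assoc _ _ _ _).trans (hl.trans (Category.comp_id _).symm))
  · rw [← cancel_epi (G.map q), reassoc_of% hl]
    exact (cokernel.π_desc _ _ _).trans (Category.comp_id _).symm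

/-- degree zero cohomology on the open -/
def psi (M : ModuleCat.{u} A) : Coh.HH (U : Scheme.{u}) (tM U M) 0 ≃+ H U M 0 :=
  (gamma U M).toAddEquiv.trans (h0 U M).symm

theorem psi_natural {M M' : ModuleCat.{u} A} (g : M ⟶ M') (x : Coh.HH (U : Scheme.{u}) (tM U M) 0) :
    psi U M' (Groth.L16.CohLinear.hmap (tg U g) 0 x) = hm g U 0 (psi U M x) := by
  refine (h0 U M').injective ?_
  rw [h0_hm]
  exact ((h0 U M').apply_symm_apply _).trans ((gamma_natural U g x).trans
    (congrArg _ ((h0 U M).apply_symm_apply _)).symm)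

theorem toHHlim_bijective (h : Formal2.FormalCohBijective A I N 0 U) :
    Function.Bijective (_root_.Formal.toHHlim I (tM U (ModuleCat.of A N)) 0) := by
  choose e he using exists_modPowIso U I N
  let F := tM U (ModuleCat.of A N)
  let φ : ∀ n, Coh.HH (U : Scheme.{u}) (modPow I (n + 1) F) 0 → Formal2.HV A (Formal2.quotPow A I N n) 0 U :=
    fun n x => psi U _ (Groth.L16.CohLinear.hmap (e n).hom 0 x)
  have hinj : ∀ n, Function.Injective (φ n) := fun n x y hxy => by
    have := congrArg (Groth.L16.CohLinear.hmap (e n).inv 0) ((psi U _).injective hxy)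
    rwa [← Groth.L16.CohLinear.hmap_comp, ← Groth.L16.CohLinear.hmap_comp, Iso.hom_inv_id,
      Groth.L16.CohLinear.hmap_id, Groth.L16.CohLinear.hmap_id] at this
  have hπ : ∀ n x, φ n (_root_.Formal.toHHmodPow I F 0 n x) =
      Formal2.HVmap A (Formal2.quotPowπ A I N n) 0 U (psi U _ x) := fun n x => by
    refine Eq.trans ?_ (psi_natural U _ x)
    change psi U _ (Groth.L16.CohLinear.hmap (e n).hom 0 (Groth.L16.CohLinear.hmap (modPowπ I (n + 1) F) 0 x)) = _
    rw [← Groth.L16.CohLinear.hmap_comp, he]
  have htg : ∀ n, modPowTrans I (n + 1) F ≫ (e n).hom =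
      (e (n + 1)).hom ≫ tg U (ModuleCat.ofHom (Formal2.quotPowTrans A I N n)) := fun n => by
    haveI : Epi (modPowπ I (n + 1 + 1) F) := by unfold _root_.Formal.modPowπ; infer_instance
    rw [← cancel_epi (modPowπ I (n + 1 + 1) F), reassoc_of% he (n + 1), ← Category.assoc,
      _root_.Formal.modPowπ_trans, he, ← Functor.map_comp, ← Functor.map_comp]
    rfl
  have ht : ∀ n z, φ n (_root_.Formal.HHmodPowTrans I F 0 n z) =
      Formal2.HVmap A (Formal2.quotPowTrans A I N n) 0 U (φ (n + 1) z) := fun n z => by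
    refine Eq.trans ?_ (psi_natural U _ _)
    change psi U _ (Groth.L16.CohLinear.hmap (e n).hom 0
      (Groth.L16.CohLinear.hmap (modPowTrans I (n + 1) F) 0 z)) = _
    rw [← Groth.L16.CohLinear.hmap_comp, ← Groth.L16.CohLinear.hmap_comp, htg]
  refine ⟨fun x x' hxx => (psi U (ModuleCat.of A N)).injective (h.1 _ _ fun n => ?_), fun y => ?_⟩
  · rw [← hπ, ← hπ]
    exact congrArg (φ n) (congrFun (congrArg Subtype.val hxx) n)
  · obtain ⟨x, hx⟩ := h.2 (fun n => φ n (y.1 n)) fun n => by rw [← ht, y.2 n]
    refine ⟨(psi U (ModuleCat.of A N)).symm x, Subtype.ext (funext fun n => hinj n ?_)⟩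
    change φ n (_root_.Formal.toHHmodPow I F 0 n _) = _
    rw [hπ, AddEquiv.apply_symm_apply, hx]

end Groth.L29.Bridge
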