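import Groth.Agent.L04.Depth2
import Mathlib.RingTheory.LocalProperties.Basic
import Groth.Prelude.Def_EGA4b
import Groth.Prelude.Def_Formal2
import Mathlib.RingTheory.Flat.EquationalCriterion

/-!
Depth two for the levels `B/Jⁿ` of a normally flat pair.
-/

set_option autoImplicit false
set_option backward.isDefEq.respectTransparency false
set_option backward.isDefEq.respectTransparency.types false
set_option linter.style.haveILetI false

universe u

noncomputable section

namespace Groth.L29.NormFlatDepth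

open Groth.L04

variable {B : Type u} [CommRing B] [IsNoetherianRing B] (J 𝔟 : Ideal B)

omit [IsNoetherianRing B] in
theorem subsingleton_localized (p : Ideal B) [p.IsPrime] (h : ¬ J ≤ p) :
    Subsingleton (LocalizedModule p.primeCompl (B ⧸ J)) := by
  obtain ⟨a, haJ, hap⟩ := SetLike.not_le_iff_exists.1 h
  refine LocalizedModule.subsingleton_iff.2 fun m => ⟨a, hap, ?_⟩
  obtain ⟨b, rfl⟩ := Ideal.Quotient.mk_surjective m
  exact Ideal.Quotient.eq_zero_iff_mem.2 (J.mul_mem_right b haJ)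

theorem two_le_quot
    (h₁ : ∀ x : PrimeSpectrum B, 𝔟 ≤ x.asIdeal → J ≤ x.asIdeal → (2 : ℕ∞) ≤ LocCoh.depth (Localization.AtPrime x.asIdeal)
      (Localization.AtPrime x.asIdeal ⧸ J.map (algebraMap B (Localization.AtPrime x.asIdeal)))) :
    ((2 : ℕ) : ℕ∞) ≤ LocCoh.idealDepth 𝔟 (B ⧸ J) := by
  rw [idealDepth_eq_iInf_depth]
  refine le_iInf₂ fun p hp => ?_
  by_cases hJ : J ≤ p.asIdeal
  · let e : LocalizedModule p.asIdeal.primeCompl (B ⧸ J) ≃ₗ[Localization.AtPrime p.asIdeal]
        Localization.AtPrime p.asIdeal ⧸ J.map (algebraMap B (Localization.AtPrime p.asIdeal)) :=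
      (LocalizedModule.equivTensorProduct p.asIdeal.primeCompl (B ⧸ J)).trans
        (Algebra.TensorProduct.quotIdealMapEquivTensorQuot (Localization.AtPrime p.asIdeal) J).toLinearEquiv.symm
    rw [LocCoh.depth, idealDepth_congr e]
    exact h₁ p hp hJ
  · haveI := subsingleton_localized J p.asIdeal hJ
    rw [LocCoh.depth, idealDepth_eq_top (Subsingleton.elim _ _)]
    exact le_top

theorem two_le_pi (h : ((2 : ℕ) : ℕ∞) ≤ LocCoh.idealDepth 𝔟 (B ⧸ J)) :
    ∀ k : ℕ, ((2 : ℕ) : ℕ∞) ≤ LocCoh.idealDepth 𝔟 (Fin k → B ⧸ J) := by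
  intro k
  induction k with
  | zero =>
    rw [idealDepth_eq_top (Subsingleton.elim _ _)]
    exact le_top
  | succ k ih =>
    rw [idealDepth_congr (Fin.consLinearEquiv B fun _ : Fin (k + 1) => B ⧸ J).symm]
    exact le_idealDepth_mid (LinearMap.inl_injective) (LinearMap.snd_surjective) Function.Exact.inl_snd h ih

/-- finite projective modules over `B/J` inherit depth two -/
theorem two_le_projective (h : ((2 : ℕ) : ℕ∞) ≤ LocCoh.idealDepth 𝔟 (B ⧸ J)) (G : Type u) [AddCommGroup G]
    [Module B G] [Module (B ⧸ J) G] [IsScalarTower B (B ⧸ J) G] [Module.Finite B G] [Module.Flat (B ⧸ J) G] :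
    ((2 : ℕ) : ℕ∞) ≤ LocCoh.idealDepth 𝔟 G := by
  haveI : Module.Finite (B ⧸ J) G := Module.Finite.of_restrictScalars_finite B (B ⧸ J) G
  haveI : Module.FinitePresentation (B ⧸ J) G := Module.finitePresentation_of_finite (B ⧸ J) G
  haveI : Module.Projective (B ⧸ J) G := Module.Flat.projective_of_finitePresentation
  obtain ⟨k, π, hπ⟩ := Module.Finite.exists_fin' (B ⧸ J) G
  obtain ⟨σ, hσ⟩ := Module.projective_lifting_property π LinearMap.id hπ
  let π' := π.restrictScalars B
  let σ' := σ.restrictScalars B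
  have hσ' : ∀ g, π' (σ' g) = g := fun g => LinearMap.congr_fun hσ g
  let q : (Fin k → B ⧸ J) →ₗ[B] LinearMap.ker π' :=
    LinearMap.codRestrict _ (LinearMap.id - σ' ∘ₗ π') fun x => by
      rw [LinearMap.mem_ker, LinearMap.sub_apply, LinearMap.id_apply, map_sub, LinearMap.comp_apply, hσ', sub_self]
  have hF := two_le_pi J 𝔟 h k
  haveI : Module.Finite B (LinearMap.ker π') := Module.IsNoetherian.finite _ _
  have hK : ((1 : ℕ) : ℕ∞) ≤ LocCoh.idealDepth 𝔟 (LinearMap.ker π') :=
    le_idealDepth_left (n := 0) (LinearMap.ker π').injective_subtype hπ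
      (LinearMap.exact_subtype_ker_map π') (le_trans (by simp) hF) (by simp)
  refine le_idealDepth_left (n := 1) (f := σ') (g := q) (Function.LeftInverse.injective hσ') ?_ ?_ hF hK
  · rintro ⟨x, hx⟩
    refine ⟨x, Subtype.ext ?_⟩
    change x - σ' (π' x) = x
    rw [LinearMap.mem_ker.1 hx, map_zero, sub_zero]
  · intro x
    constructor
    · intro hx
      exact ⟨π' x, (sub_eq_zero.1 (congrArg Subtype.val hx : x - σ' (π' x) = 0)).symm⟩
    · rintro ⟨g, rfl⟩
      refine Subtype.ext ?_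
      change σ' g - σ' (π' (σ' g)) = 0
      rw [hσ', sub_self]

theorem two_le_pow (h : ((2 : ℕ) : ℕ∞) ≤ LocCoh.idealDepth 𝔟 (B ⧸ J)) (hnf : EGA4.IsNormallyFlat J B) :
    ∀ n : ℕ, ((2 : ℕ) : ℕ∞) ≤ LocCoh.idealDepth 𝔟 (B ⧸ (J ^ n • (⊤ : Submodule B B))) := by
  intro n
  induction n with
  | zero =>
    haveI : Subsingleton (B ⧸ (J ^ 0 • (⊤ : Submodule B B))) :=
      Submodule.Quotient.subsingleton_iff.2 (by simp)
    rw [idealDepth_eq_top (Subsingleton.elim _ _)]
    exact le_top
  | succ n ih =>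
    let P : Submodule B B := J ^ n • ⊤
    let K : Submodule B P := J • ⊤
    let Q : Submodule B B := J ^ (n + 1) • ⊤
    have hKQ : K.map P.subtype = Q := by
      rw [Submodule.map_smul'', Submodule.map_top, Submodule.range_subtype]
      change J • (J ^ n • ⊤) = J ^ (n + 1) • (⊤ : Submodule B B)
      rw [← Submodule.mul_smul, ← pow_succ']
    haveI : Module.Flat (B ⧸ J) (↥P ⧸ K) := hnf n
    haveI : Module.Finite B P := Module.IsNoetherian.finite _ _
    haveI : Module.Finite B (↥P ⧸ K) := Module.Finite.quotient B K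
    have hG := two_le_projective J 𝔟 h (↥P ⧸ K)
    have hQP : Q ≤ P := Submodule.smul_mono_left (Ideal.pow_le_pow_right (Nat.le_succ n))
    let f : (↥P ⧸ K) →ₗ[B] B ⧸ Q := K.mapQ Q P.subtype (Submodule.map_le_iff_le_comap.1 hKQ.le)
    refine le_idealDepth_mid (f := f) (g := Submodule.factor hQP) ?_ (Submodule.factor_surjective hQP) ?_ hG ih
    · refine (injective_iff_map_eq_zero f).2 fun z hz => ?_
      obtain ⟨z, rfl⟩ := Submodule.Quotient.mk_surjective K z
      refine (Submodule.Quotient.mk_eq_zero K).2 ?_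
      have h1 : P.subtype z ∈ K.map P.subtype := hKQ ▸ (Submodule.Quotient.mk_eq_zero Q).1 hz
      obtain ⟨w, hw, hwz⟩ := h1
      exact Subtype.ext hwz ▸ hw
    · intro z
      obtain ⟨b, rfl⟩ := Submodule.Quotient.mk_surjective Q z
      constructor
      · intro hz
        exact ⟨Submodule.Quotient.mk ⟨b, (Submodule.Quotient.mk_eq_zero P).1 hz⟩, rfl⟩
      · rintro ⟨w, hw⟩
        obtain ⟨w, rfl⟩ := Submodule.Quotient.mk_surjective K w
        rw [← hw]
        exact (Submodule.Quotient.mk_eq_zero P).2 w.2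

/-- depth of the levels at the primes of `V(𝔟)` -/
theorem depth_quotPow (hnf : EGA4.IsNormallyFlat J B)
    (h₁ : ∀ x : PrimeSpectrum B, 𝔟 ≤ x.asIdeal → J ≤ x.asIdeal → (2 : ℕ∞) ≤ LocCoh.depth (Localization.AtPrime x.asIdeal)
      (Localization.AtPrime x.asIdeal ⧸ J.map (algebraMap B (Localization.AtPrime x.asIdeal))))
    (n : ℕ) (x : PrimeSpectrum B) (hx : 𝔟 ≤ x.asIdeal) :
    (2 : ℕ∞) ≤ LocCoh.depth (Localization.AtPrime x.asIdeal)
      (LocalizedModule x.asIdeal.primeCompl (Formal2.quotPow B J B n)) := by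
  have h := two_le_pow J 𝔟 (two_le_quot J 𝔟 h₁) hnf (n + 1)
  rw [idealDepth_eq_iInf_depth] at h
  exact h.trans (iInf₂_le x hx)

end Groth.L29.NormFlatDepth
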