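import Groth.Agent.L29.Formal.Extension
import Groth.Agent.L29.Formal.DepthExtend
import Groth.Agent.L29.Formal.NormFlatDepth
import Mathlib.RingTheory.AdicCompletion.Basic
import Mathlib.RingTheory.Spectrum.Prime.FreeLocus

/-!
Formal sections of modules locally free on an open, through their duals.
-/

set_option autoImplicit false
set_option backward.isDefEq.respectTransparency false
set_option backward.isDefEq.respectTransparency.types false
set_option linter.style.haveILetI false

universe u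

open CategoryTheory CategoryTheory.Limits AlgebraicGeometry TopologicalSpace Opposite

attribute [local instance] HasDerivedCategory.standard

noncomputable section

namespace Groth.L29.NormFlatSections

open Groth.L29.Formal Groth.L29.CechSect Groth.L29.ColimZero Groth.L29.ProZeroPunct Groth.L29.Extension

variable {B : Type u} [CommRing B]

/-- a dual basis near a point of the free locus -/
theorem exists_dual [IsNoetherianRing B] (N : Type u) [AddCommGroup N] [Module B N] [Module.Finite B N]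
    (p : PrimeSpectrum B) (hp : p ∈ Module.freeLocus B N) :
    ∃ (s : B) (k : ℕ) (φ : Fin k → (N →ₗ[B] B)) (e : Fin k → N), s ∉ p.asIdeal ∧ ∀ m, ∑ j, φ j m • e j = s • m := by
  haveI : Module.FinitePresentation B N := Module.finitePresentation_of_finite B N
  let S := p.asIdeal.primeCompl
  obtain ⟨k, π, hπ⟩ := Module.Finite.exists_fin' B N
  haveI : Module.Free (Localization S) (LocalizedModule S N) := hp
  let mkN := LocalizedModule.mkLinearMap S N
  let mkF := LocalizedModule.mkLinearMap S (Fin k → B)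
  let πp := LocalizedModule.map S π
  obtain ⟨σ, hσ⟩ := Module.projective_lifting_property πp LinearMap.id (LocalizedModule.map_surjective S π hπ)
  obtain ⟨h, s, hs⟩ := Module.FinitePresentation.exists_lift_of_isLocalizedModule S mkF
    (σ.restrictScalars B ∘ₗ mkN)
  let d : N →ₗ[B] N := π ∘ₗ h - (s : B) • LinearMap.id
  have hd : ∀ m, mkN (d m) = 0 := fun m => by
    have h1 : mkN (π (h m)) = πp (mkF (h m)) := (LocalizedModule.map_mk S π (h m) 1).symm
    rw [LinearMap.sub_apply, LinearMap.smul_apply, LinearMap.id_apply, map_sub, map_smul, LinearMap.comp_apply, h1,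
      show mkF (h m) = (s : B) • σ (mkN m) from LinearMap.congr_fun hs m, LinearMap.map_smul_of_tower,
      show πp (σ (mkN m)) = mkN m from LinearMap.congr_fun hσ _, sub_self]
  have hu : ∀ j : Fin k, ∃ u : S, u • d (π (Pi.single j 1)) = 0 := fun j =>
    (IsLocalizedModule.eq_zero_iff S mkN).1 (hd _)
  choose u hu using hu
  let t : S := ∏ j, u j
  have ht : (t : B) • d = 0 := by
    refine LinearMap.ext fun m => ?_
    obtain ⟨c, rfl⟩ := hπ m
    have hc : ((t : B) • d).comp π = 0 := LinearMap.pi_ext' fun j => LinearMap.ext_ring (by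
      obtain ⟨v, hv⟩ : u j ∣ t := Finset.dvd_prod_of_mem u (Finset.mem_univ j)
      change (t : B) • d (π (Pi.single j 1)) = 0
      rw [show (t : B) = (v : B) * (u j : B) by rw [hv, mul_comm]; rfl, mul_smul]
      exact (congrArg _ (hu j)).trans (smul_zero _))
    exact LinearMap.congr_fun hc c
  refine ⟨(t : B) * s, k, fun j => (t : B) • (LinearMap.proj j ∘ₗ h), fun j => π (Pi.single j 1),
    (t * s).2, fun m => ?_⟩
  have h2 := LinearMap.congr_fun ht m
  rw [LinearMap.smul_apply, LinearMap.sub_apply, LinearMap.comp_apply, LinearMap.smul_apply, LinearMap.id_apply,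
    smul_sub, LinearMap.zero_apply, sub_eq_zero] at h2
  calc ∑ j, ((t : B) • (LinearMap.proj j ∘ₗ h)) m • π (Pi.single j 1)
      = (t : B) • π (∑ j, h m j • Pi.single j (1 : B)) := by
        rw [map_sum, Finset.smul_sum]
        refine Finset.sum_congr rfl fun j _ => ?_
        rw [map_smul, smul_smul]
        rfl
    _ = (t : B) • π (h m) := by rw [← pi_eq_sum_univ' (h m)]
    _ = ((t : B) * s) • m := by rw [h2, mul_smul]

variable {V : (Spec (CommRingCat.of B)).Opens}

theorem exists_D_le {p : PrimeSpectrum B} (hp : p ∈ V) : ∃ g : B, g ∉ p.asIdeal ∧ D g ≤ V := by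
  obtain ⟨_, ⟨g, rfl⟩, hpg, hgV⟩ := (PrimeSpectrum.isTopologicalBasis_basic_opens (R := B)).exists_subset_of_mem_open
    (u := {p : PrimeSpectrum B | p ∈ V}) hp V.isOpen
  exact ⟨g, hpg, hgV⟩

/-- a family of maps which is jointly injective at the points of `W` is jointly injective on sections -/
theorem joint_injective {W : (Spec (CommRingCat.of B)).Opens} {P : ModuleCat.{u} B} {ι : Type u}
    {Q : ι → ModuleCat.{u} B} (lam : ∀ i, P ⟶ Q i)
    (hloc : ∀ p : PrimeSpectrum B, p ∈ W → ∃ s : B, s ∉ p.asIdeal ∧ ∀ m : P, (∀ i, (lam i).hom m = 0) → s • m = 0)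
    (hfin : ∃ T : Finset ι, ∀ m : P, (∀ i ∈ T, (lam i).hom m = 0) → ∀ i, (lam i).hom m = 0)
    {x y : sec W P} (h : ∀ i, (secMap W (lam i)).hom x = (secMap W (lam i)).hom y) : x = y := by
  classical
  suffices h' : ∀ z : sec W P, (∀ i, (secMap W (lam i)).hom z = 0) → z = 0 by
    exact sub_eq_zero.1 (h' _ fun i => by rw [map_sub, h, sub_self])
  intro z hz
  choose s hs hsm using fun p : {p : PrimeSpectrum B // p ∈ W} => hloc p.1 p.2
  choose g hg hgW using fun p : {p : PrimeSpectrum B // p ∈ W} => exists_D_le p.2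
  refine (modulesSpecToSheaf.obj (tilde (R := CommRingCat.of B) P)).eq_of_locally_eq'
    (fun p => D (g p * s p)) W (fun p => homOfLE ((PrimeSpectrum.basicOpen_mul_le_left _ _).trans (hgW p))) ?_ z 0 fun p => ?_
  · exact fun p hp => Opens.mem_iSup.2 ⟨⟨p, hp⟩, fun h => (p.2.mem_or_mem h).elim (hg ⟨p, hp⟩) (hs ⟨p, hp⟩)⟩
  · change res ((PrimeSpectrum.basicOpen_mul_le_left _ _).trans (hgW p)) P z = res _ P 0
    rw [map_zero]
    let f := g p * s p
    obtain ⟨T, hT⟩ := hfin
    obtain ⟨k, m, hm⟩ := exists_toOpen f P (res ((PrimeSpectrum.basicOpen_mul_le_left _ _).trans (hgW p)) P z)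
    have h0 : ∀ i, ∃ l : ℕ, f ^ l • (lam i).hom m = 0 := fun i => by
      refine exists_pow_toOpen f (Q i) ?_
      rw [← secMap_toOpen, ← hm, map_smul, ← secMap_res, hz, map_zero, smul_zero]
    choose l hl using h0
    let L := T.sup l
    have hLm : ∀ i, (lam i).hom (f ^ L • m) = 0 := hT _ fun i hi => by
      obtain ⟨c, hc⟩ := Nat.exists_eq_add_of_le (Finset.le_sup (f := l) hi)
      rw [map_smul, show L = c + l i by omega, pow_add, mul_smul, hl, smul_zero]
    refine (smul_bij_D f f dvd_rfl P k).1 ((smul_bij_D f f dvd_rfl P L).1 ((smul_bij_D f (s p)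
      (dvd_mul_left _ _) P 1).1 ?_))
    change s p ^ 1 • f ^ L • f ^ k • _ = s p ^ 1 • f ^ L • f ^ k • 0
    rw [hm, pow_one, ← map_smul, ← map_smul, hsm p _ hLm, map_zero, smul_zero, smul_zero, smul_zero]

variable (J : Ideal B) (N : Type u) [AddCommGroup N] [Module B N]

/-- the map on levels induced by a functional -/
abbrev lm (ℓ : N →ₗ[B] B) (n : ℕ) :
    ModuleCat.of B (Formal2.quotPow B J N n) ⟶ ModuleCat.of B (Formal2.quotPow B J B n) :=
  ModuleCat.ofHom (lmap J ℓ n)

theorem lm_natural (ℓ : N →ₗ[B] B) (n : ℕ) :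
    ModuleCat.ofHom (Formal2.quotPowπ B J N n) ≫ lm J N ℓ n =
      ModuleCat.ofHom ℓ ≫ ModuleCat.ofHom (Formal2.quotPowπ B J B n) := rfl

variable [IsNoetherianRing B] [Module.Finite B N] (hV : ∀ p : PrimeSpectrum B, p ∈ V → p ∈ Module.freeLocus B N)
  {W : (Spec (CommRingCat.of B)).Opens}

theorem exists_gens : ∃ T : Finset (N →ₗ[B] B), ∀ ℓ : N →ₗ[B] B, ℓ ∈ Submodule.span B (T : Set (N →ₗ[B] B)) := by
  haveI : IsNoetherian B (N →ₗ[B] B) := isNoetherian_linearMap B B N
  obtain ⟨T, hT⟩ := IsNoetherian.noetherian (⊤ : Submodule B (N →ₗ[B] B))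
  exact ⟨T, fun ℓ => hT ▸ trivial⟩

include hV in
theorem injective_N (hW : W ≤ V) {x y : sec W (ModuleCat.of B N)}
    (h : ∀ ℓ : N →ₗ[B] B, (secMap W (ModuleCat.ofHom ℓ)).hom x = (secMap W (ModuleCat.ofHom ℓ)).hom y) : x = y := by
  refine joint_injective (P := ModuleCat.of B N) (fun ℓ : N →ₗ[B] B => ModuleCat.ofHom ℓ) (fun p hp => ?_) ?_ h
  · obtain ⟨s, k, φ, e, hs, he⟩ := exists_dual N p (hV p (hW hp))
    refine ⟨s, hs, fun m hm => ?_⟩
    rw [← he]
    exact Finset.sum_eq_zero fun j _ => by rw [show φ j m = 0 from hm (φ j), zero_smul]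
  · obtain ⟨T, hT⟩ := exists_gens (B := B) N
    refine ⟨T, fun m hm ℓ => ?_⟩
    exact (Submodule.span_le.2 fun t ht => hm t ht : _ ≤ LinearMap.ker (LinearMap.applyₗ (R := B) (M₂ := B) m)) (hT ℓ)

include hV in
theorem injective_level (hW : W ≤ V) (n : ℕ) {x y : sec W (ModuleCat.of B (Formal2.quotPow B J N n))}
    (h : ∀ ℓ : N →ₗ[B] B, (secMap W (lm J N ℓ n)).hom x = (secMap W (lm J N ℓ n)).hom y) : x = y := by
  refine joint_injective (P := ModuleCat.of B (Formal2.quotPow B J N n)) (fun ℓ : N →ₗ[B] B => lm J N ℓ n)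
    (fun p hp => ?_) ?_ h
  · obtain ⟨s, k, φ, e, hs, he⟩ := exists_dual N p (hV p (hW hp))
    refine ⟨s, hs, fun z hz => ?_⟩
    obtain ⟨m, rfl⟩ := Submodule.Quotient.mk_surjective _ z
    rw [← Submodule.Quotient.mk_smul, Submodule.Quotient.mk_eq_zero, ← he]
    refine Submodule.sum_mem _ fun j _ => Submodule.smul_mem_smul ?_ trivial
    simpa using (Submodule.Quotient.mk_eq_zero _).1 (hz (φ j))
  · obtain ⟨T, hT⟩ := exists_gens (B := B) N
    refine ⟨T, fun z hz ℓ => ?_⟩
    obtain ⟨m, rfl⟩ := Submodule.Quotient.mk_surjective _ z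
    refine (Submodule.Quotient.mk_eq_zero _).2 ?_
    exact (Submodule.span_le.2 fun t ht => (Submodule.Quotient.mk_eq_zero (J ^ (n + 1) • (⊤ : Submodule B B))).1 (hz t ht) :
      _ ≤ (J ^ (n + 1) • (⊤ : Submodule B B)).comap (LinearMap.applyₗ (R := B) (M₂ := B) m)) (hT ℓ)

omit [IsNoetherianRing B] [Module.Finite B N] in
theorem secMap_add {U : (Spec (CommRingCat.of B)).Opens} {P Q : ModuleCat.{u} B} (g g' : P ⟶ Q) (x : sec U P) :
    (secMap U (g + g')).hom x = (secMap U g).hom x + (secMap U g').hom x := by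
  obtain ⟨v, rfl⟩ := (h0 U P).surjective x
  haveI : (SheafOfModules.toSheaf.{u} (Spec (CommRingCat.of B)).ringCatSheaf).Additive := inferInstance
  rw [← h0_hm, ← h0_hm, ← h0_hm, ← map_add]
  refine congrArg _ ?_
  simp only [hm_apply, Functor.comp_map, Functor.map_add, Abelian.Ext.mk₀_add, Abelian.Ext.comp_add]

omit [IsNoetherianRing B] [Module.Finite B N] in
theorem secMap_sum {U : (Spec (CommRingCat.of B)).Opens} {P Q : ModuleCat.{u} B} {ι : Type*} (T : Finset ι)
    (g : ι → (P ⟶ Q)) (x : sec U P) : (secMap U (∑ i ∈ T, g i)).hom x = ∑ i ∈ T, (secMap U (g i)).hom x := by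
  classical
  induction T using Finset.induction with
  | empty => simp only [Finset.sum_empty]; exact secMap_eq_zero rfl _ _
  | insert a T ha ih => rw [Finset.sum_insert ha, Finset.sum_insert ha, secMap_add, ih]

omit [IsNoetherianRing B] in
theorem bijective_toOpen [IsNoetherianRing B] (M : Type u) [AddCommGroup M] [Module B M] [Module.Finite B M]
    (hd : ∀ r : PrimeSpectrum B, r ∉ V →
      (2 : ℕ∞) ≤ LocCoh.depth (Localization.AtPrime r.asIdeal) (LocalizedModule r.asIdeal.primeCompl M)) :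
    Function.Bijective (tilde.toOpen (R := CommRingCat.of B) (ModuleCat.of B M) V).hom := by
  have h := Groth.L29.DepthExtend.bijective_res (le_top : V ≤ ⊤) M fun r _ hr => hd r hr
  have ht : Function.Bijective (tilde.toOpen (R := CommRingCat.of B) (ModuleCat.of B M) ⊤).hom :=
    @ConcreteCategory.bijective_of_isIso _ _ _ _ _ _ _ _ (tilde.toOpen (R := CommRingCat.of B) (ModuleCat.of B M) ⊤)
      (tilde.isIso_toOpen_top (R := CommRingCat.of B))
  convert h.comp ht using 1
  exact funext fun m => (res_toOpen _ _ m).symm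

omit [IsNoetherianRing B] [Module.Finite B N] in
theorem eq_of_levels [IsAdicComplete J B] {a b : B}
    (h : ∀ n, Formal2.quotPowπ B J B n a = Formal2.quotPowπ B J B n b) : a = b := by
  refine sub_eq_zero.1 (IsHausdorff.haus (I := J) inferInstance _ fun n => SModEq.zero.2 ?_)
  exact Submodule.smul_mono_left (Ideal.pow_le_pow_right (Nat.le_succ n)) ((Submodule.Quotient.eq _).1 (h n))

omit [IsNoetherianRing B] [Module.Finite B N] in
theorem exists_of_levels [IsAdicComplete J B] (c : ∀ n, Formal2.quotPow B J B n)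
    (hc : ∀ n, Formal2.quotPowTrans B J B n (c (n + 1)) = c n) : ∃ b : B, ∀ n, Formal2.quotPowπ B J B n b = c n := by
  choose g hg using fun n => Submodule.mkQ_surjective _ (c n)
  have step : ∀ n, g (n + 1) - g n ∈ J ^ (n + 1) • (⊤ : Submodule B B) := fun n => by
    refine (Submodule.Quotient.eq _).1 ?_
    have h1 := hc n
    rw [← hg (n + 1), ← hg n] at h1
    exact h1
  have hcau : ∀ {m n}, m ≤ n → g m ≡ g n [SMOD (J ^ m • (⊤ : Submodule B B))] := fun {m n} hmn => by
    induction n, hmn using Nat.le_induction with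
    | base => rfl
    | succ n hn ih =>
      exact ih.trans (SModEq.sub_mem.2 (Submodule.smul_mono_left (Ideal.pow_le_pow_right (by omega))
        (neg_sub (g (n + 1)) (g n) ▸ neg_mem (step n))))
  obtain ⟨b, hb⟩ := IsPrecomplete.prec (I := J) inferInstance hcau
  refine ⟨b, fun n => ?_⟩
  rw [← hg n]
  refine (Submodule.Quotient.eq _).2 ?_
  have h1 := SModEq.sub_mem.1 (hb (n + 1))
  have h2 : b - g n = -(g (n + 1) - b) + (g (n + 1) - g n) := by ring
  rw [h2]
  exact add_mem (neg_mem h1) (step n)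

omit [Module.Finite B N] [IsNoetherianRing B] in
/-- the local identity of a dual basis, on sections of a level -/
theorem dual_level (n : ℕ) (z : sec V (ModuleCat.of B (Formal2.quotPow B J N n))) {s : B} {k : ℕ}
    (φ : Fin k → (N →ₗ[B] B)) (e : Fin k → N) (he : ∀ m, ∑ j, φ j m • e j = s • m) (ℓ : N →ₗ[B] B) :
    s • (secMap V (lm J N ℓ n)).hom z = ∑ j, ℓ (e j) • (secMap V (lm J N (φ j) n)).hom z := by
  rw [← secMap_sc V s, secMap_secMap]
  simp only [← secMap_sc V (ℓ (e _)), secMap_secMap, ← secMap_sum]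
  refine congrArg (fun g => (secMap V g).hom z) (ModuleCat.hom_ext (LinearMap.ext fun w => ?_))
  obtain ⟨m, rfl⟩ := Submodule.Quotient.mk_surjective _ w
  rw [ModuleCat.hom_sum, LinearMap.sum_apply]
  change Submodule.Quotient.mk (s • ℓ m) = ∑ j, (Submodule.Quotient.mk (ℓ (e j) • φ j m) : Formal2.quotPow B J B n)
  rw [← map_smul, ← he, map_sum]
  simp only [map_smul, smul_eq_mul, mul_comm (φ _ m)]
  exact map_sum (Submodule.mkQ _) _ _

omit [Module.Finite B N] [IsNoetherianRing B] in
/-- compatibility of the coordinates of a compatible family -/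
theorem coord_compat (ℓ : N →ₗ[B] B) (n : ℕ)
    (hQ : Function.Injective (tilde.toOpen (R := CommRingCat.of B) (ModuleCat.of B (Formal2.quotPow B J B n)) V).hom)
    (a : Formal2.quotPow B J B (n + 1)) (b : Formal2.quotPow B J B n)
    (Y : sec V (ModuleCat.of B (Formal2.quotPow B J N (n + 1)))) (Z : sec V (ModuleCat.of B (Formal2.quotPow B J N n)))
    (hYZ : (secMap V (ModuleCat.ofHom (Formal2.quotPowTrans B J N n))).hom Y = Z)
    (ha : (tilde.toOpen (R := CommRingCat.of B) (ModuleCat.of B (Formal2.quotPow B J B (n + 1))) V).hom a =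
      (secMap V (lm J N ℓ (n + 1))).hom Y)
    (hb : (tilde.toOpen (R := CommRingCat.of B) (ModuleCat.of B (Formal2.quotPow B J B n)) V).hom b =
      (secMap V (lm J N ℓ n)).hom Z) : Formal2.quotPowTrans B J B n a = b := by
  refine hQ (Eq.trans ?_ hb.symm)
  refine (secMap_toOpen V (ModuleCat.ofHom (Formal2.quotPowTrans B J B n)) a).symm.trans ?_
  refine (congrArg _ ha).trans ?_
  rw [secMap_secMap, lmap_trans, ← secMap_secMap, hYZ]

include hV in
theorem formalCohBijective [IsAdicComplete J B]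
    (hB : Function.Bijective (tilde.toOpen (R := CommRingCat.of B) (ModuleCat.of B B) V).hom)
    (hQ : ∀ n, Function.Bijective
      (tilde.toOpen (R := CommRingCat.of B) (ModuleCat.of B (Formal2.quotPow B J B n)) V).hom) :
    Formal2.FormalCohBijective B J N 0 V := by
  have hπ : ∀ (ℓ : N →ₗ[B] B) (n : ℕ) (x : sec V (ModuleCat.of B N)),
      (secMap V (lm J N ℓ n)).hom ((secMap V (ModuleCat.ofHom (Formal2.quotPowπ B J N n))).hom x) =
        (secMap V (ModuleCat.ofHom (Formal2.quotPowπ B J B n))).hom ((secMap V (ModuleCat.ofHom ℓ)).hom x) :=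
    fun ℓ n x => by rw [secMap_secMap, secMap_secMap, lm_natural]
  refine ⟨fun x x' hxx => (h0 V (ModuleCat.of B N)).injective (injective_N N hV le_rfl fun ℓ => ?_), fun y hy => ?_⟩
  · obtain ⟨a, ha⟩ := hB.2 ((secMap V (ModuleCat.ofHom ℓ)).hom (h0 V (ModuleCat.of B N) x))
    obtain ⟨a', ha'⟩ := hB.2 ((secMap V (ModuleCat.ofHom ℓ)).hom (h0 V (ModuleCat.of B N) x'))
    rw [← ha, ← ha', eq_of_levels J (a := a) (b := a') fun n => (hQ n).1 ?_]
    change (tilde.toOpen (R := CommRingCat.of B) _ V).hom ((ModuleCat.ofHom (Formal2.quotPowπ B J B n)).hom a) =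
      (tilde.toOpen (R := CommRingCat.of B) _ V).hom ((ModuleCat.ofHom (Formal2.quotPowπ B J B n)).hom a')
    rw [← secMap_toOpen, ← secMap_toOpen, ha, ha', ← hπ, ← hπ, ← h0_map (Formal2.quotPowπ B J N n) x, hxx, h0_map]
  · let Y : ∀ n, sec V (ModuleCat.of B (Formal2.quotPow B J N n)) := fun n => h0 V _ (y n)
    have hY : ∀ n, (secMap V (ModuleCat.ofHom (Formal2.quotPowTrans B J N n))).hom (Y (n + 1)) = Y n := fun n => by
      rw [← h0_map, hy]
    choose c hc using fun (ℓ : N →ₗ[B] B) n => (hQ n).2 ((secMap V (lm J N ℓ n)).hom (Y n))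
    have hcc : ∀ ℓ n, Formal2.quotPowTrans B J B n (c ℓ (n + 1)) = c ℓ n := fun ℓ n =>
      coord_compat J N ℓ n (hQ n).1 _ _ (Y (n + 1)) (Y n) (hY n) (hc ℓ (n + 1)) (hc ℓ n)
    choose lam hlam using fun ℓ => exists_of_levels J (c ℓ) (hcc ℓ)
    have hlev : ∀ ℓ n, (secMap V (ModuleCat.ofHom (Formal2.quotPowπ B J B n))).hom
        ((tilde.toOpen (R := CommRingCat.of B) (ModuleCat.of B B) V).hom (lam ℓ)) =
          (secMap V (lm J N ℓ n)).hom (Y n) := fun ℓ n => by
      rw [secMap_toOpen]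
      exact (congrArg _ (hlam ℓ n)).trans (hc ℓ n)
    let ι := {p : PrimeSpectrum B // p ∈ V}
    choose s k φ e hs he using fun p : ι => exists_dual N p.1 (hV p.1 p.2)
    have key : ∀ (p : ι) (ℓ : N →ₗ[B] B), s p * lam ℓ = ∑ j, ℓ (e p j) * lam (φ p j) := fun p ℓ => by
      refine eq_of_levels J fun n => (hQ n).1 ?_
      simp only [← smul_eq_mul, map_sum, map_smul, hlam, hc]
      exact dual_level J N n (Y n) (φ p) (e p) (he p) ℓ
    let O : ι → (Spec (CommRingCat.of B)).Opens := fun p => V ⊓ D (s p)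
    choose t ht using fun p : ι => exists_smul_eq_of_le_D (W := O p) (a := s p) inf_le_right (ModuleCat.of B N)
      ((tilde.toOpen (R := CommRingCat.of B) (ModuleCat.of B N) (O p)).hom (∑ j, lam (φ p j) • e p j))
    have hℓt : ∀ (p : ι) (ℓ : N →ₗ[B] B), (secMap (O p) (ModuleCat.ofHom ℓ)).hom (t p) =
        (tilde.toOpen (R := CommRingCat.of B) (ModuleCat.of B B) (O p)).hom (lam ℓ) := fun p ℓ => by
      refine smul_injective_of_le_D (a := s p) inf_le_right _ ?_
      rw [← map_smul, ht, secMap_toOpen, ← map_smul]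
      refine congrArg _ ?_
      change ℓ (∑ j, lam (φ p j) • e p j) = s p • lam ℓ
      rw [smul_eq_mul, key, map_sum]
      exact Finset.sum_congr rfl fun j _ => by rw [map_smul, smul_eq_mul, mul_comm]
    have hcov : V ≤ ⨆ p, O p := fun p hp => Opens.mem_iSup.2 ⟨⟨p, hp⟩, hp, hs ⟨p, hp⟩⟩
    obtain ⟨x, hx, -⟩ := (modulesSpecToSheaf.obj (tilde (R := CommRingCat.of B) (ModuleCat.of B N))).existsUnique_gluing'
      O V (fun p => homOfLE inf_le_left) hcov t fun p q => by
        refine injective_N N hV (inf_le_left.trans inf_le_left) fun ℓ => ?_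
        change (secMap _ (ModuleCat.ofHom ℓ)).hom (res inf_le_left _ (t p)) =
          (secMap _ (ModuleCat.ofHom ℓ)).hom (res inf_le_right _ (t q))
        rw [← secMap_res, ← secMap_res, hℓt, hℓt, res_toOpen, res_toOpen]
    have hℓx : ∀ ℓ : N →ₗ[B] B, (secMap V (ModuleCat.ofHom ℓ)).hom x =
        (tilde.toOpen (R := CommRingCat.of B) (ModuleCat.of B B) V).hom (lam ℓ) := fun ℓ => by
      refine (modulesSpecToSheaf.obj (tilde (R := CommRingCat.of B) (ModuleCat.of B B))).eq_of_locally_eq'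
        O V (fun p => homOfLE inf_le_left) hcov _ _ fun p => ?_
      change res inf_le_left _ _ = res inf_le_left _ _
      rw [secMap_res, show res (inf_le_left : O p ≤ V) _ x = t p from hx p, hℓt, res_toOpen]
    refine ⟨(h0 V (ModuleCat.of B N)).symm x, fun n => (h0 V _).injective (injective_level J N hV le_rfl n fun ℓ => ?_)⟩
    rw [h0_map, AddEquiv.apply_symm_apply, hπ, hℓx]
    exact hlev ℓ n

end Groth.L29.NormFlatSections
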