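import Groth.Agent.L29.Formal.CechTerms
import Groth.Agent.L04.LC.CompletionTors
import Groth.Agent.L04.Koszul.ExtCech
import Groth.Agent.S7096
import Groth.Agent.S5752
import Mathlib.RingTheory.Ideal.AssociatedPrime.Localization

/-!
Compatible degree one cocycles along the powers of `I` come from cocycles of `M`.
-/

set_option autoImplicit false
set_option backward.isDefEq.respectTransparency false
set_option backward.isDefEq.respectTransparency.types false
set_option backward.defeqAttrib.useBackward true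
set_option linter.style.haveILetI false

universe u

open CategoryTheory CategoryTheory.Limits DerCA
open scoped TensorProduct

attribute [local instance] HasDerivedCategory.standard

noncomputable section

namespace Groth.L29.CechCompl

open Groth.L29.CechTerms Groth.L10.AdicTower

variable {A : Type u} [CommRing A]

theorem augN_lTensor (fs : List A) {N N' : Type u} [AddCommGroup N] [Module A N] [AddCommGroup N'] [Module A N']
    (g : N →ₗ[A] N') (x : ((K fs).X 0 : Type u) ⊗[A] N) : augN N' fs (g.lTensor _ x) = g (augN N fs x) := by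
  induction x using TensorProduct.induction_on with
  | zero => simp
  | add a b ha hb => simp only [map_add, ha, hb]
  | tmul e n => simp [augN]

theorem exists_lim (I : Ideal A) (M : Type u) [AddCommGroup M] [Module A M] [IsPrecomplete I M]
    (x : ∀ n, (lvl I M n : Type u)) (hx : ∀ n, (tr I M n).hom (x (n + 1)) = x n) :
    ∃ m : M, ∀ n, (pr I M n).hom m = x n := by
  choose f hf using fun n => Submodule.Quotient.mk_surjective (I ^ n • ⊤ : Submodule A M) (x n)
  have h : ∀ {k n : ℕ}, k ≤ n → f k ≡ f n [SMOD (I ^ k • ⊤ : Submodule A M)] := by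
    intro k n hkn
    induction n, hkn using Nat.le_induction with
    | base => rfl
    | succ n hkn ih =>
      refine ih.trans ?_
      have h₁ : f n ≡ f (n + 1) [SMOD (I ^ n • ⊤ : Submodule A M)] := by
        have := hx n
        rw [← hf (n + 1), ← hf n] at this
        exact this.symm
      exact h₁.mono (Submodule.smul_mono_left (Ideal.pow_le_pow_right hkn))
  obtain ⟨m, hm⟩ := IsPrecomplete.prec (I := I) inferInstance h
  exact ⟨m, fun n => (SModEq.def.1 (hm n)).symm.trans (hf n)⟩

variable [IsNoetherianRing A] (I : Ideal A) (M : Type u) [AddCommGroup M] [Module A M] [Module.Finite A M]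
  (fs : List A)

theorem exists_preimage [IsAdicComplete I A] [DRing.HasDerivedCompletion I]
    [DRing.HasRgammaI (Ideal.span {x : A | x ∈ fs})]
    (hb : Function.Surjective ((DerivedCategory.homologyFunctor (ModuleCat.{u} A) 1).map
      (DRing.toDerivedCompletion I ((DRing.RgammaI (Ideal.span {x : A | x ∈ fs})).obj (Dual.inD A M)))).hom)
    (z : ∀ n, ((K fs).X 1 : Type u) ⊗[A] (lvl I M n))
    (hz : ∀ n, ((K fs).d 1 2).hom.rTensor (lvl I M n) (z n) = 0)
    (hc : ∀ n, (tr I M n).hom.lTensor ((K fs).X 1) (z (n + 1)) = z n) :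
    ∃ z' : ((K fs).X 1 : Type u) ⊗[A] M, ((K fs).d 1 2).hom.rTensor M z' = 0 ∧
      ∀ n, (pr I M n).hom.lTensor ((K fs).X 1) z' = z n := by
  let J : Ideal A := Ideal.span {x : A | x ∈ fs}
  let E := K fs
  let C := (Groth.L10.CompletionAdic.tC (ModuleCat.of A M)).obj E
  let G := Groth.L10.AdicTowerRlim.G I M E
  let κ : C ⟶ G := (NatTrans.mapHomologicalComplex (kappa I M) (ComplexShape.up ℤ)).app E
  obtain ⟨gM, -⟩ := Groth.L10.GammaTensor.exists_gamma_iso J (ModuleCat.of A M) fs rfl
  obtain ⟨e, he⟩ := Groth.L10.CompletionFormula.exists_iso I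
    (Groth.L10.CompletionFormula.cbij_toDerivedCompletion I ((DRing.RgammaI J).obj (Dual.inD A M)))
    (Groth.L10.CompletionFormula.Cbij.comp I (Groth.L10.CompletionFormula.cbij_iso I gM.inv)
      (Groth.L10.AdicTowerRlim.cbij_kappa I M fs))
    ((DRing.derivedCompletion I).obj _).property (Groth.L10.AdicTowerRlim.isComplete_G I M E)
  let H := DerivedCategory.homologyFunctor (ModuleCat.{u} A) 1
  have hs : Function.Surjective (HomologicalComplex.homologyMap κ 1).hom := by
    have h2 : DerivedCategory.Q.map κ = gM.hom ≫ DRing.toDerivedCompletion I ((DRing.RgammaI J).obj (Dual.inD A M)) ≫ e.hom := by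
      rw [he, Iso.hom_inv_id_assoc]
    haveI : Epi (H.map (DRing.toDerivedCompletion I ((DRing.RgammaI J).obj (Dual.inD A M)))) :=
      (ModuleCat.epi_iff_surjective _).2 hb
    haveI : Epi (H.map (DerivedCategory.Q.map κ)) := by
      rw [h2, H.map_comp, H.map_comp]
      exact epi_comp' inferInstance (epi_comp' inferInstance inferInstance)
    have h3 := (DerivedCategory.homologyFunctorFactors (ModuleCat.{u} A) 1).hom.naturality κ
    haveI : Epi ((DerivedCategory.homologyFunctorFactors (ModuleCat.{u} A) 1).hom.app C ≫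
        HomologicalComplex.homologyMap κ 1) := by
      change Epi (_ ≫ (HomologicalComplex.homologyFunctor (ModuleCat.{u} A) (ComplexShape.up ℤ) 1).map κ)
      rw [← h3]
      exact epi_comp' ‹_› inferInstance
    exact (ModuleCat.epi_iff_surjective _).1 (epi_of_epi ((DerivedCategory.homologyFunctorFactors
      (ModuleCat.{u} A) 1).hom.app C) _)
  let w : (G.X 1 : Type u) := ⟨z, LinearMap.mem_ker.2 (funext fun n => by
    rw [deltaMap_apply, hc]; exact sub_self (z n))⟩
  have hw : (G.d 1 2).hom w = 0 := Subtype.ext (funext fun n => hz n)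
  obtain ⟨c, hcw⟩ := hs (Groth.L28.Kun.cl G 1 ⟨w, hw⟩)
  obtain ⟨⟨y, hy⟩, rfl⟩ := Groth.L28.Kun.cl_surjective C 1 c
  rw [Groth.L28.Kun.homologyMap_cl, ← sub_eq_zero, ← map_sub,
    Groth.L28.Kun.cl_eq_zero_iff G (show (0 : ℤ) + 1 = 1 from rfl)] at hcw
  obtain ⟨g, hg⟩ := hcw
  haveI := Groth.L05.Krasner.isAdicComplete_of_finite I M
  have hgc : ∀ n, (tr I M n).hom.lTensor ((K fs).X 0) (g.1 (n + 1)) = g.1 n := fun n =>
    (sub_eq_zero.1 (congrFun (LinearMap.mem_ker.1 g.2) n)).symm
  obtain ⟨m, hm⟩ := exists_lim I M (fun n => augN (lvl I M n) fs (g.1 n)) fun n => by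
    rw [← augN_lTensor, hgc]
  obtain ⟨e₀, he₀⟩ := (bijective_augN M fs).2 m
  let y' : ((K fs).X 1 : Type u) ⊗[A] M := y
  refine ⟨y' - ((K fs).d 0 1).hom.rTensor M e₀, ?_, fun n => ?_⟩
  · rw [map_sub, show ((K fs).d 1 2).hom.rTensor M y' = 0 from hy, ← LinearMap.rTensor_comp_apply,
      ← ModuleCat.hom_comp, HomologicalComplex.d_comp_d, ModuleCat.hom_zero, LinearMap.rTensor_zero,
      LinearMap.zero_apply, sub_zero]
  · have h1 : ((K fs).d 0 1).hom.rTensor (lvl I M n) (g.1 n) =
        (pr I M n).hom.lTensor ((K fs).X 1) y' - z n := congrFun (congrArg Subtype.val hg) n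
    have h2 : (pr I M n).hom.lTensor ((K fs).X 0) e₀ = g.1 n :=
      (bijective_augN (lvl I M n) fs).1 (by rw [augN_lTensor, he₀]; exact hm n)
    rw [map_sub, show (pr I M n).hom.lTensor ((K fs).X 1) (((K fs).d 0 1).hom.rTensor M e₀) =
        ((K fs).d 0 1).hom.rTensor (lvl I M n) ((pr I M n).hom.lTensor ((K fs).X 0) e₀) from
      (LinearMap.congr_fun (LinearMap.lTensor_comp_rTensor _ _ _) e₀).trans
        (LinearMap.congr_fun (LinearMap.rTensor_comp_lTensor _ _ _) e₀).symm, h2, h1, sub_sub_cancel]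

omit [Module.Finite A M] in
theorem mem_associatedPrimes_of_dep_eq_zero [Module.Finite A M] (p : PrimeSpectrum A)
    (h : Groth.L04.AlgKill.dep M p = 0) : p.asIdeal ∈ associatedPrimes A M := by
  haveI : IsNoetherianRing (Localization.AtPrime p.asIdeal) :=
    IsLocalization.isNoetherianRing p.asIdeal.primeCompl _ inferInstance
  haveI : Module.Finite (Localization.AtPrime p.asIdeal) (LocalizedModule p.asIdeal.primeCompl M) :=
    Module.Finite.of_isLocalizedModule p.asIdeal.primeCompl (LocalizedModule.mkLinearMap p.asIdeal.primeCompl M)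
  have h2 := Module.associatedPrimes.comap_mem_associatedPrimes_of_mem_associatedPrimes_of_isLocalizedModule_of_fg
    p.asIdeal.primeCompl (LocalizedModule.mkLinearMap p.asIdeal.primeCompl M) _
    ((Groth.Agent.S5752.result _ _).1 h) (IsNoetherian.noetherian _)
  rwa [← Ideal.under_def, Localization.AtPrime.comap_maximalIdeal] at h2

/-- The main input: an ideal with the same trace on `V(I)`, with lifting of compatible cocycles. -/
theorem exists_list (𝔞 : Ideal A) [IsAdicComplete I A] (hω : ∃ ω : Dual.D A, Dual.IsDualizing A ω)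
    (d : ℕ) (hd : LocCoh.CdLE A I d)
    (h₂ : ∀ p ∈ associatedPrimes A M, ¬ 𝔞 ≤ p → ¬ I ≤ p →
      (∃ r : Ideal A, r.IsPrime ∧ p ≤ r ∧ I ≤ r ∧ ¬ 𝔞 ≤ r) →
        ∀ (q : Ideal A) [q.IsPrime], p ≤ q → 𝔞 ≤ q → ((d + 1 : ℕ) : WithBot ℕ∞) < Formal2.dimBetween A p q) :
    ∃ fs : List A, (∀ g ∈ fs, g ∈ 𝔞) ∧
      (∀ q : PrimeSpectrum A, I ≤ q.asIdeal → (∀ g ∈ fs, g ∈ q.asIdeal) → 𝔞 ≤ q.asIdeal) ∧
      ∀ z : ∀ n, ((K fs).X 1 : Type u) ⊗[A] (lvl I M n),
        (∀ n, ((K fs).d 1 2).hom.rTensor (lvl I M n) (z n) = 0) →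
        (∀ n, (tr I M n).hom.lTensor ((K fs).X 1) (z (n + 1)) = z n) →
        ∃ z' : ((K fs).X 1 : Type u) ⊗[A] M, ((K fs).d 1 2).hom.rTensor M z' = 0 ∧
          ∀ n, (pr I M n).hom.lTensor ((K fs).X 1) z' = z n := by
  obtain ⟨ω, hω⟩ := hω
  obtain ⟨W, hinj, hK, hW⟩ := Groth.L04.ComplTors.exists_dualizing_rep hω
  haveI := hinj
  haveI := hK
  haveI := Groth.L10.DualUnbounded.hasRgammaI 𝔞
  haveI := Groth.Agent.S7096.result I ((isNoetherianRing_iff_ideal_fg A).1 inferInstance I)
  obtain ⟨J₀, hle, hV, htors⟩ := Groth.L04.ComplTors.exists_torsion I 𝔞 hW M 1 d hd (fun p hI hq m hm => by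
    rcases Nat.eq_zero_or_pos m with rfl | hpos
    swap
    · exact Or.inl hpos
    refine Or.inr fun q hpq hqJ _ => ?_
    obtain ⟨r, hpr, hIr, hra⟩ := hq
    have hass := mem_associatedPrimes_of_dep_eq_zero M p (by exact_mod_cast hm)
    have h := h₂ p.asIdeal hass (fun h => hra (h.trans hpr)) hI ⟨r.asIdeal, r.2, hpr, hIr, hra⟩ q.asIdeal hpq hqJ
    exact Groth.L04.ComplTors.lt_of_lt_dimBetween hW hpq (d + 1) 0 (by simpa using h) |>.trans_le' (by push_cast; rfl))
  obtain ⟨s, hs⟩ := (isNoetherianRing_iff_ideal_fg A).1 inferInstance J₀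
  have hJ : Ideal.span {x : A | x ∈ s.toList} = J₀ := by rw [← hs]; congr 1; ext; simp
  refine ⟨s.toList, fun g hg => hle (hJ ▸ Ideal.subset_span hg), fun q hI hq =>
    hV q (hJ ▸ Ideal.span_le.2 hq) hI, fun z hz hc => ?_⟩
  haveI := Groth.L10.DualUnbounded.hasRgammaI (Ideal.span {x : A | x ∈ s.toList})
  refine exists_preimage I M s.toList ?_ z hz hc
  refine (Groth.L04.ComplTors.bijective_of_torsion I 𝔞 M 1 J₀ htors _ hJ.le ?_ 1 (by norm_num)).2
  rw [hJ]
  exact Set.Subset.antisymm (fun q hq => ⟨hV q hq.1 hq.2, hq.2⟩) fun q hq => ⟨hle.trans hq.1, hq.2⟩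

end Groth.L29.CechCompl
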