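import Groth.Agent.L29.Formal.CechSect
import Groth.Agent.L29.Formal.CechCompl
import Groth.Agent.L04.Koszul.Affine

/-!
Sections near `V(I)` of the punctured open versus the limit along the powers of `I`.
-/

set_option autoImplicit false
set_option backward.isDefEq.respectTransparency false
set_option backward.isDefEq.respectTransparency.types false
set_option linter.style.haveILetI false

universe u

open CategoryTheory CategoryTheory.Limits AlgebraicGeometry TopologicalSpace Opposite
open scoped TensorProduct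

attribute [local instance] HasDerivedCategory.standard

noncomputable section

namespace Groth.L29.ColimZero

open Groth.L29.CechTerms Groth.L29.CechSect Groth.L29.Formal Groth.L10.AdicTower

variable {A : Type u} [CommRing A]

theorem h0_res {V V' : (Spec (CommRingCat.of A)).Opens} (h : V' ≤ V) (M : Type u) [AddCommGroup M] [Module A M]
    (x : Formal2.HV A M 0 V) :
    h0 V' (ModuleCat.of A M) (Formal2.HVres A M 0 h x) = res h (ModuleCat.of A M) (h0 V (ModuleCat.of A M) x) :=
  Groth.L04.Koszul.Cech.hu₀_res h _ x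

theorem h0_map {V : (Spec (CommRingCat.of A)).Opens} {M M' : Type u} [AddCommGroup M] [Module A M]
    [AddCommGroup M'] [Module A M'] (φ : M →ₗ[A] M') (x : Formal2.HV A M 0 V) :
    h0 V (ModuleCat.of A M') (Formal2.HVmap A φ 0 V x) =
      (secMap V (ModuleCat.ofHom φ)).hom (h0 V (ModuleCat.of A M) x) := by
  rw [hm_HVmap, h0_hm]

variable [IsNoetherianRing A] (I : Ideal A) (M : Type u) [AddCommGroup M] [Module A M] [Module.Finite A M]

/-- A section vanishing modulo all powers of `I` vanishes near `V(I)`. -/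
theorem exists_nbhd_eq_zero {V : (Spec (CommRingCat.of A)).Opens} (s : sec V (ModuleCat.of A M))
    (hs : ∀ n, (secMap V (ModuleCat.ofHom (Formal2.quotPowπ A I M n))).hom s = 0)
    (r : PrimeSpectrum A) (hr : r ∈ V) (hI : I ≤ r.asIdeal) :
    ∃ (W : (Spec (CommRingCat.of A)).Opens) (hW : W ≤ V), r ∈ W ∧ res hW (ModuleCat.of A M) s = 0 := by
  obtain ⟨_, ⟨g, rfl⟩, hrg, hgV⟩ := (PrimeSpectrum.isTopologicalBasis_basic_opens (R := A)).exists_subset_of_mem_open
    (u := {p : PrimeSpectrum A | p ∈ V}) hr V.isOpen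
  have hg : D g ≤ V := hgV
  obtain ⟨k, m, hm⟩ := exists_toOpen g (ModuleCat.of A M) (res hg (ModuleCat.of A M) s)
  have hgr : g ∉ r.asIdeal := hrg
  let ι := LocalizedModule.mkLinearMap r.asIdeal.primeCompl M
  let J : Ideal (Localization.AtPrime r.asIdeal) := I.map (algebraMap A (Localization.AtPrime r.asIdeal))
  have hmem : ∀ n, ι m ∈ J ^ (n + 1) • (⊤ : Submodule (Localization.AtPrime r.asIdeal) (LocalizedModule r.asIdeal.primeCompl M)) := by
    intro n
    have h0 : (tilde.toOpen (R := CommRingCat.of A) (ModuleCat.of A (Formal2.quotPow A I M n)) (D g)).hom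
        (Submodule.Quotient.mk m) = 0 := by
      rw [show (Submodule.Quotient.mk m : Formal2.quotPow A I M n) =
        (ModuleCat.ofHom (Formal2.quotPowπ A I M n)).hom m from rfl, ← secMap_toOpen, ← hm, map_smul,
        ← secMap_res, hs, map_zero, smul_zero]
    obtain ⟨l, hl⟩ := exists_pow_toOpen g _ h0
    rw [← Submodule.Quotient.mk_smul, Submodule.Quotient.mk_eq_zero] at hl
    have h1 : ι (g ^ l • m) ∈ J ^ (n + 1) • (⊤ : Submodule (Localization.AtPrime r.asIdeal) (LocalizedModule r.asIdeal.primeCompl M)) := by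
      refine Submodule.smul_induction_on hl (fun a ha x _ => ?_) fun x y hx hy => by rw [map_add]; exact add_mem hx hy
      rw [map_smul, ← algebraMap_smul (Localization.AtPrime r.asIdeal) a (ι x)]
      exact Submodule.smul_mem_smul (by rw [← Ideal.map_pow]; exact Ideal.mem_map_of_mem _ ha) trivial
    have hu : IsUnit (algebraMap A (Localization.AtPrime r.asIdeal) (g ^ l)) :=
      IsLocalization.map_units _ (⟨g ^ l, fun h => hgr (r.2.mem_of_pow_mem l h)⟩ : r.asIdeal.primeCompl)
    obtain ⟨v, hv⟩ := hu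
    rw [map_smul, ← algebraMap_smul (Localization.AtPrime r.asIdeal) (g ^ l) (ι m), ← hv] at h1
    simpa [← mul_smul] using Submodule.smul_mem _ (↑v⁻¹ : Localization.AtPrime r.asIdeal) h1
  haveI : IsNoetherianRing (Localization.AtPrime r.asIdeal) :=
    IsLocalization.isNoetherianRing r.asIdeal.primeCompl _ inferInstance
  haveI : Module.Finite (Localization.AtPrime r.asIdeal) (LocalizedModule r.asIdeal.primeCompl M) :=
    Module.Finite.of_isLocalizedModule r.asIdeal.primeCompl ι
  have hJ : J ≠ ⊤ := fun h => (IsLocalRing.maximalIdeal.isMaximal _).ne_top (top_le_iff.1 (h.ge.trans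
    ((Ideal.map_mono hI).trans (Localization.AtPrime.map_eq_maximalIdeal (I := r.asIdeal)).le)))
  have hz : ι m = 0 := by
    have := Ideal.iInf_pow_smul_eq_bot_of_isLocalRing (M := LocalizedModule r.asIdeal.primeCompl M) J hJ
    refine (Submodule.mem_bot (Localization.AtPrime r.asIdeal)).1 (this.le (Submodule.mem_iInf _ |>.2 fun n => ?_))
    exact Submodule.smul_mono_left (Ideal.pow_le_pow_right n.le_succ) (hmem n)
  obtain ⟨⟨t, ht⟩, htm⟩ := (IsLocalizedModule.eq_zero_iff r.asIdeal.primeCompl ι).1 hz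
  have hle : D (g * t) ≤ D g := PrimeSpectrum.basicOpen_mul_le_left _ _
  refine ⟨D (g * t), hle.trans hg, fun h => (r.2.mem_or_mem h).elim hgr ht, (smul_bij_D (g * t) g ⟨t, rfl⟩ _ k).1 ?_⟩
  change g ^ k • _ = g ^ k • _
  rw [smul_zero, ← res_res hg hle, ← map_smul, hm, res_toOpen]
  haveI := isLocalized_D (g * t) (ModuleCat.of A M)
  exact (IsLocalizedModule.eq_zero_iff (Submonoid.powers (g * t))
    (tilde.toOpen (R := CommRingCat.of A) (ModuleCat.of A M) (D (g * t))).hom).2
    ⟨⟨g * t, Submonoid.mem_powers _⟩, by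
      change (g * t) • m = 0
      rw [mul_smul, show t • m = 0 from htm, smul_zero]⟩

/-- The injectivity half. -/
theorem colim_injective (U : (Spec (CommRingCat.of A)).Opens)
    (V : (Spec (CommRingCat.of A)).Opens) (hV : Formal2.Admissible A I U V) (x : Formal2.HV A M 0 V)
    (hx : ∀ n, Formal2.HVmap A (Formal2.quotPowπ A I M n) 0 V x = 0) :
    ∃ (V' : (Spec (CommRingCat.of A)).Opens) (h : Formal2.Admissible A I U V' ∧ V' ≤ V),
      Formal2.HVres A M 0 h.2 x = 0 := by
  let s := h0 V (ModuleCat.of A M) x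
  let ι := {W : (Spec (CommRingCat.of A)).Opens // ∃ hW : W ≤ V, res hW (ModuleCat.of A M) s = 0}
  let V' : (Spec (CommRingCat.of A)).Opens := ⨆ W : ι, W.1
  have hle : V' ≤ V := iSup_le fun W => W.2.1
  refine ⟨V', ⟨⟨hle.trans hV.1, fun p hpU hpI => ?_⟩, hle⟩, (h0 V' (ModuleCat.of A M)).injective ?_⟩
  · obtain ⟨W, hW, hpW, h0'⟩ := exists_nbhd_eq_zero I M s (fun n => by rw [← h0_map, hx, map_zero]) p
      (hV.2 p hpU hpI) hpI
    exact Opens.mem_iSup.2 ⟨⟨W, hW, h0'⟩, hpW⟩
  · rw [h0_res, map_zero]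
    refine (modulesSpecToSheaf.obj (tilde (R := CommRingCat.of A) (ModuleCat.of A M))).eq_of_locally_eq'
      (fun W : ι => W.1) V' (fun W => homOfLE (le_iSup (fun W : ι => W.1) W)) le_rfl _ _ fun W => ?_
    change res _ _ (res hle _ s) = res (le_iSup (fun W : ι => W.1) W) _ 0
    rw [res_res, map_zero]
    exact W.2.2

/-- Colimit of sections near `V(I)` is the limit of sections modulo powers of `I`. -/
theorem colimBijective (𝔞 : Ideal A) [IsAdicComplete I A] (hω : ∃ ω : Dual.D A, Dual.IsDualizing A ω)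
    (d : ℕ) (hd : LocCoh.CdLE A I d)
    (h₂ : ∀ p ∈ associatedPrimes A M, ¬ 𝔞 ≤ p → ¬ I ≤ p →
      (∃ r : Ideal A, r.IsPrime ∧ p ≤ r ∧ I ≤ r ∧ ¬ 𝔞 ≤ r) →
        ∀ (q : Ideal A) [q.IsPrime], p ≤ q → 𝔞 ≤ q → ((d + 1 : ℕ) : WithBot ℕ∞) < Formal2.dimBetween A p q) :
    Formal2.FormalCohColimBijective A I M 0 (LocCoh.puncturedOpen A 𝔞) := by
  refine ⟨colim_injective I M _, fun y hy => ?_⟩
  obtain ⟨fs, hfa, hfV, hlift⟩ := Groth.L29.CechCompl.exists_list I M 𝔞 hω d hd h₂
  let U := LocCoh.puncturedOpen A 𝔞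
  let V : (Spec (CommRingCat.of A)).Opens := ⨆ j : Fin fs.length, D fs[j]
  have hle : ∀ j : Fin fs.length, D fs[j] ≤ V := fun j => le_iSup (fun j : Fin fs.length => D fs[j]) j
  have hVU : V ≤ U := iSup_le fun j p hp hpa => hp (hpa (hfa _ (List.getElem_mem j.2)))
  have hV : Formal2.Admissible A I U V := by
    refine ⟨hVU, fun p hpU hpI => ?_⟩
    by_contra hpV
    refine hpU fun a ha => hfV p hpI (fun g hg => ?_) ha
    obtain ⟨i, hi, rfl⟩ := List.getElem_of_mem hg
    by_contra hn
    exact hpV (hle ⟨i, hi⟩ hn)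
  refine ⟨V, hV, ?_⟩
  let sy : ∀ n, sec V (lvl I M (n + 1)) := fun n =>
    res hVU (lvl I M (n + 1)) (h0 U (lvl I M (n + 1)) (y n))
  choose w hw hw' using fun n => exists_cocycle fs (lvl I M (n + 1)) hle (sy n)
  let z : ∀ n, ((K fs).X 1 : Type u) ⊗[A] (lvl I M n) := fun n => Nat.casesOn n 0 w
  have hz : ∀ n, ((K fs).d 1 2).hom.rTensor (lvl I M n) (z n) = 0
    | 0 => map_zero _
    | n + 1 => hw n
  have hc : ∀ n, (tr I M n).hom.lTensor ((K fs).X 1) (z (n + 1)) = z n
    | 0 => by
      haveI : Subsingleton (lvl I M 0) := Submodule.Quotient.subsingleton_iff.2 (by simp)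
      haveI : Subsingleton (((K fs).X 1 : Type u) ⊗[A] (lvl I M 0)) := inferInstance
      exact Subsingleton.elim _ _
    | n + 1 => (bijective_cmp fs (lvl I M (n + 1))).1 (funext fun j => by
        change cmp fs _ j ((tr I M (n + 1)).hom.lTensor _ (w (n + 1))) = cmp fs _ j (w n)
        rw [cmp_natural, hw', hw', ← secMap_res, ← secMap_res]
        refine congrArg (res (hle j) _) (congrArg (res hVU _) ?_)
        rw [← hy n, h0_map]
        rfl)
  obtain ⟨z', hz', hzl⟩ := hlift z hz hc
  obtain ⟨s, hs⟩ := exists_section fs (ModuleCat.of A M) hle le_rfl z' hz'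
  refine ⟨(h0 V (ModuleCat.of A M)).symm s, fun n => (h0 V (lvl I M (n + 1))).injective ?_⟩
  refine (h0_res hV.1 _ (y n)).trans (Eq.trans ?_ (h0_map (Formal2.quotPowπ A I M n) _).symm)
  rw [AddEquiv.apply_symm_apply]
  refine eq_of_res fs _ hle le_rfl _ _ fun j => ?_
  rw [secMap_res, hs, ← cmp_natural]
  refine (hw' n j).symm.trans (congrArg (cmp fs _ j) ?_)
  exact (hzl (n + 1)).symm

end Groth.L29.ColimZero
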