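import Groth.Agent.L29.Formal.Killed
import Groth.Agent.L04.LC.InverseSystem
import Groth.Agent.L04.Formal.QuotientLimit
import Groth.Agent.S9405

/-!
Pro-vanishing of local cohomology along `IⁿM` gives the limit statement on the punctured open.
-/

set_option autoImplicit false
set_option backward.isDefEq.respectTransparency false
set_option backward.isDefEq.respectTransparency.types false
set_option linter.style.haveILetI false

universe u

open CategoryTheory CategoryTheory.Limits TopologicalSpace Opposite AlgebraicGeometry Abelian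

noncomputable section

namespace Groth.L29.ProZeroPunct

open Groth.L29.Formal Groth.L04.LC Groth.L04.ProZero

variable {A : Type u} [CommRing A]

theorem hm_injective_zero {M N : ModuleCat.{u} A} (g : M ⟶ N) [Mono g] (U : (Spec (CommRingCat.of A)).Opens) :
    Function.Injective (hm g U 0) := by
  haveI : Mono ((T A).map g) := (T_shortExact (S := ShortComplex.mk g (cokernel.π g) (cokernel.condition g))
    { exact := ShortComplex.exact_cokernel g }).mono_f
  intro x y h
  obtain ⟨x, rfl⟩ := Ext.homEquiv₀.symm.surjective x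
  obtain ⟨y, rfl⟩ := Ext.homEquiv₀.symm.surjective y
  rw [hm_apply, hm_apply] at h
  change (Ext.mk₀ x).comp _ _ = (Ext.mk₀ y).comp _ _ at h
  rw [Ext.mk₀_comp_mk₀, Ext.mk₀_comp_mk₀] at h
  exact congrArg Ext.homEquiv₀.symm ((cancel_mono _).1 (Ext.homEquiv₀.symm.injective h))

theorem secMap_secMap {M N P : ModuleCat.{u} A} (g : M ⟶ N) (h : N ⟶ P) (U : (Spec (CommRingCat.of A)).Opens)
    (y : sec U M) : (secMap U h).hom ((secMap U g).hom y) = (secMap U (g ≫ h)).hom y := by
  obtain ⟨x, rfl⟩ := (h0 U M).surjective y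
  rw [← h0_hm, ← h0_hm, ← h0_hm, hm_comp]

theorem secMap_eq_zero {M N : ModuleCat.{u} A} {g : M ⟶ N} (hg : g = 0) (U : (Spec (CommRingCat.of A)).Opens)
    (y : sec U M) : (secMap U g).hom y = 0 := by
  obtain ⟨x, rfl⟩ := (h0 U M).surjective y
  rw [← h0_hm, hg, hm_zero, map_zero]

theorem secMap_injective {M N : ModuleCat.{u} A} (g : M ⟶ N) [Mono g] (U : (Spec (CommRingCat.of A)).Opens) :
    Function.Injective (secMap U g).hom := by
  intro y y' h
  obtain ⟨x, rfl⟩ := (h0 U M).surjective y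
  obtain ⟨x', rfl⟩ := (h0 U M).surjective y'
  rw [← h0_hm, ← h0_hm] at h
  rw [hm_injective_zero g U ((h0 U N).injective h)]

/-- the injective embedding sequence -/
abbrev emb (M : ModuleCat.{u} A) : ShortComplex (ModuleCat.{u} A) :=
  ShortComplex.mk (Injective.ι M) (cokernel.π (Injective.ι M)) (cokernel.condition _)

theorem emb_shortExact (M : ModuleCat.{u} A) : (emb M).ShortExact := { exact := ShortComplex.exact_cokernel _ }

/-- extension of a morphism -/
def embMap {M N : ModuleCat.{u} A} (φ : M ⟶ N) : emb M ⟶ emb N :=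
  ShortComplex.homMk φ (Injective.factorThru (φ ≫ Injective.ι N) (Injective.ι M))
    (cokernel.map _ _ φ (Injective.factorThru (φ ≫ Injective.ι N) (Injective.ι M)) (Injective.comp_factorThru _ _))
    (Injective.comp_factorThru _ _).symm (cokernel.π_desc _ _ _).symm

variable [IsNoetherianRing A] (𝔞 : Ideal A)

local notation "Uo" => LocCoh.puncturedOpen A 𝔞

theorem secMap_mem_range {M N : ModuleCat.{u} A} (φ : M ⟶ N)
    (h : ∀ z : (localCohomology 𝔞 1).obj M, ((localCohomology 𝔞 1).map φ).hom z = 0) (y : sec Uo M) :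
    ∃ n : N, (tilde.toOpen (R := CommRingCat.of A) N Uo).hom n = (secMap Uo φ).hom y := by
  let S := emb M
  let S' := emb N
  have hS : S.ShortExact := emb_shortExact M
  have hS' : S'.ShortExact := emb_shortExact N
  let Φ : S ⟶ S' := embMap φ
  haveI : Mono S'.f := hS'.mono_f
  obtain ⟨e, he⟩ := Groth.L04.PunctLin.surjective_toOpen_of_injective 𝔞 S.X₂ ((secMap Uo S.f).hom y)
  have hq : S.g.hom e ∈ DRing.torsionSub 𝔞 S.X₃ := by
    rw [← ker_toOpen, LinearMap.mem_ker, ← secMap_toOpen, he, secMap_secMap]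
    exact secMap_eq_zero S.zero _ _
  let z := (H0Equiv 𝔞 S.X₃).symm ⟨_, hq⟩
  have hz : evalZero 𝔞 S.X₃ z = S.g.hom e := by
    rw [← H0Equiv_apply, LinearEquiv.apply_symm_apply]
  obtain ⟨t, ht⟩ := (H_exact₃ 𝔞 hS' 0 (((localCohomology 𝔞 0).map Φ.τ₃).hom z)).1
    ((LinearMap.congr_fun (Hδ_naturality 𝔞 hS hS' Φ 0) z).symm.trans (h _))
  have h1 : S'.g.hom (Φ.τ₂.hom e - evalZero 𝔞 S'.X₂ t) = 0 := by
    rw [map_sub, ← evalZero_natural, ht, evalZero_natural, hz]
    exact sub_eq_zero.2 (ConcreteCategory.congr_hom Φ.comm₂₃ e)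
  obtain ⟨n, hn⟩ := (ShortComplex.moduleCat_exact_iff _).1 hS'.exact _ h1
  refine ⟨n, secMap_injective S'.f Uo ?_⟩
  rw [secMap_secMap, show φ ≫ S'.f = S.f ≫ Φ.τ₂ from Φ.comm₁₂, ← secMap_secMap, ← he, secMap_toOpen, secMap_toOpen]
  refine (congrArg _ hn).trans ?_
  rw [map_sub, sub_eq_self, ← LinearMap.mem_ker, ker_toOpen, ← range_evalZero]
  exact LinearMap.mem_range_self _ _

theorem hm_eq_zero : ∀ (p : ℕ) {M N : ModuleCat.{u} A} (φ : M ⟶ N),
    (∀ z : (localCohomology 𝔞 (p + 2)).obj M, ((localCohomology 𝔞 (p + 2)).map φ).hom z = 0) →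
      ∀ x : H Uo M (p + 1), hm φ Uo (p + 1) x = 0 := by
  intro p
  induction p with
  | zero =>
    intro M N φ hφ x
    have hS := emb_shortExact M
    have hS' := emb_shortExact N
    let Φ : emb M ⟶ emb N := embMap φ
    haveI := subsingleton_H_injective 𝔞 (Injective.under M) 0
    obtain ⟨y, rfl⟩ := exists_dl_of_hm_f_eq_zero Uo hS 0 x (Subsingleton.elim (α := H Uo (Injective.under M) 1) _ _)
    obtain ⟨q, hq⟩ := secMap_mem_range 𝔞 Φ.τ₃ (fun z => by
      haveI := subsingleton_H_succ_of_injective 𝔞 0 (Injective.under N)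
      obtain ⟨w, hw⟩ := (H_exact₃ 𝔞 hS' 1 (((localCohomology 𝔞 1).map Φ.τ₃).hom z)).1
        ((LinearMap.congr_fun (Hδ_naturality 𝔞 hS hS' Φ 1) z).symm.trans (hφ _))
      rw [← hw, Subsingleton.elim (α := (localCohomology 𝔞 1).obj (Injective.under N)) w 0, map_zero])
      (h0 Uo (emb M).X₃ y)
    obtain ⟨e, rfl⟩ := (ModuleCat.epi_iff_surjective (emb N).g).1 hS'.epi_g q
    refine (dl_natural Uo hS hS' Φ 0 y).trans ?_
    have : hm Φ.τ₃ Uo 0 y = hm (emb N).g Uo 0 ((h0 Uo (emb N).X₂).symm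
        ((tilde.toOpen (R := CommRingCat.of A) (emb N).X₂ Uo).hom e)) := by
      refine (h0 Uo (emb N).X₃).injective ?_
      rw [h0_hm Uo (emb N).g, AddEquiv.apply_symm_apply, secMap_toOpen, h0_hm]
      exact hq.symm
    rw [this, hm_g_dl_eq_zero]
  | succ p ih =>
    intro M N φ hφ x
    have hS := emb_shortExact M
    have hS' := emb_shortExact N
    let Φ : emb M ⟶ emb N := embMap φ
    haveI := subsingleton_H_injective 𝔞 (Injective.under M) (p + 1)
    obtain ⟨y, rfl⟩ := exists_dl_of_hm_f_eq_zero Uo hS (p + 1) x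
      (Subsingleton.elim (α := H Uo (Injective.under M) (p + 2)) _ _)
    refine (dl_natural Uo hS hS' Φ (p + 1) y).trans ?_
    rw [ih Φ.τ₃ (fun z => by
      haveI := subsingleton_H_succ_of_injective 𝔞 (p + 1) (Injective.under N)
      obtain ⟨w, hw⟩ := (H_exact₃ 𝔞 hS' (p + 2) (((localCohomology 𝔞 (p + 2)).map Φ.τ₃).hom z)).1
        ((LinearMap.congr_fun (Hδ_naturality 𝔞 hS hS' Φ (p + 2)) z).symm.trans (hφ _))
      rw [← hw, Subsingleton.elim (α := (localCohomology 𝔞 (p + 2)).obj (Injective.under N)) w 0, map_zero]) y,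
      map_zero]

variable (I : Ideal A) (M : Type u) [AddCommGroup M] [Module A M]

/-- the transition maps of `H^i_𝔞(IⁿM)` are eventually zero -/
def PZ (i : ℕ) : Prop :=
  ∀ n : ℕ, ∃ m : ℕ, n ≤ m ∧ ∀ (k : ℕ) (h : n ≤ k), m ≤ k →
    ∀ z : LocCoh.H 𝔞 i ↥(sub M I k), ((localCohomology 𝔞 i).map (ModuleCat.ofHom (inc M I h))).hom z = 0

variable {I M} in
theorem pz_of_HT {i : ℕ} (h : Groth.L04.QuotLim.PZ M I (PrimeSpectrum.zeroLocus (𝔞 : Set A)) i) : PZ 𝔞 I M i := by
  intro n
  obtain ⟨m, hnm, hm'⟩ := h n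
  refine ⟨m, hnm, fun k hk hmk z => ?_⟩
  let K : Dual2.IdealsIn (PrimeSpectrum.zeroLocus (𝔞 : Set A)) := ⟨𝔞, fun q hq => hq⟩
  obtain ⟨K', hle, hK'⟩ := Groth.L04.HTsys.exists_Hmap_eq_zero _ K i _
    (((localCohomology 𝔞 i).map (ModuleCat.ofHom (inc M I hk))).hom z)
    ((Groth.L04.HTsys.θ_natural _ K i _ z).symm.trans (LinearMap.congr_fun (hm' k hk hmk) _))
  exact (Hmap_surjective_injective ↥(sub M I n) 𝔞 K'.obj hle i).2
    (fun p hp hpa => absurd (K'.property hp) hpa) (hK'.trans (map_zero _).symm)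

/-- the sequence of a level -/
abbrev lev (k : ℕ) : ShortComplex (ModuleCat.{u} A) :=
  ShortComplex.mk (ModuleCat.ofHom (sub M I k).subtype) (ModuleCat.ofHom (sub M I k).mkQ)
    (ModuleCat.hom_ext (LinearMap.ext fun x => (Submodule.Quotient.mk_eq_zero _).2 x.2))

theorem lev_shortExact (k : ℕ) : (lev I M k).ShortExact := Groth.L04.QuotLim.ses M I k

/-- successive levels -/
def levTr (n : ℕ) : lev I M (n + 1 + 1) ⟶ lev I M (n + 1) :=
  ShortComplex.homMk (ModuleCat.ofHom (inc M I (Nat.le_succ (n + 1)))) (𝟙 _)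
    (ModuleCat.ofHom (Formal2.quotPowTrans A I M n))
    (ModuleCat.hom_ext (LinearMap.ext fun _ => rfl)) (ModuleCat.hom_ext (LinearMap.ext fun _ => rfl))

variable (y : ∀ n, H Uo (ModuleCat.of A (Formal2.quotPow A I M n)) 0)

theorem compat_down {U : (Spec (CommRingCat.of A)).Opens} {i : ℕ}
    (y : ∀ n, H U (ModuleCat.of A (Formal2.quotPow A I M n)) i)
    (hy : ∀ n, hm (ModuleCat.ofHom (Formal2.quotPowTrans A I M n)) U i (y (n + 1)) = y n)
    (x : H U (ModuleCat.of A M) i) {n l : ℕ} (hnl : n ≤ l) :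
    hm (ModuleCat.ofHom (Formal2.quotPowπ A I M l)) U i x = y l →
      hm (ModuleCat.ofHom (Formal2.quotPowπ A I M n)) U i x = y n := by
  induction l, hnl using Nat.le_induction with
  | base => exact id
  | succ l hl ih =>
    intro h
    refine ih ?_
    rw [show ModuleCat.ofHom (Formal2.quotPowπ A I M l) = ModuleCat.ofHom (Formal2.quotPowπ A I M (l + 1)) ≫
      ModuleCat.ofHom (Formal2.quotPowTrans A I M l) from ModuleCat.hom_ext (LinearMap.ext fun _ => rfl), hm_comp]
    exact (congrArg _ h).trans (hy l)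

omit y

variable {I M} in
theorem dl_step {i : ℕ} (y : ∀ n, H Uo (ModuleCat.of A (Formal2.quotPow A I M n)) i)
    (hy : ∀ n, hm (ModuleCat.ofHom (Formal2.quotPowTrans A I M n)) Uo i (y (n + 1)) = y n) (a : ℕ) :
    dl Uo (lev_shortExact I M (a + 1)) i (y a) =
      hm (levTr I M a).τ₁ Uo (i + 1) (dl Uo (lev_shortExact I M (a + 1 + 1)) i (y (a + 1))) := by
  refine Eq.trans ?_ (dl_natural Uo (lev_shortExact I M (a + 1 + 1)) (lev_shortExact I M (a + 1)) (levTr I M a) i
    (y (a + 1))).symm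
  exact congrArg _ (hy a).symm

variable {I M} in
theorem inc_comp {k l m : ℕ} (h : k ≤ l) (h' : l ≤ m) :
    ModuleCat.ofHom (inc M I h') ≫ ModuleCat.ofHom (inc M I h) = ModuleCat.ofHom (inc M I (h.trans h')) :=
  ModuleCat.hom_ext (LinearMap.ext fun _ => rfl)

variable {I M} in
theorem inc_refl (k : ℕ) : ModuleCat.ofHom (inc M I (le_refl k)) = 𝟙 (ModuleCat.of A ↥(sub M I k)) :=
  ModuleCat.hom_ext (LinearMap.ext fun _ => rfl)

variable {I M} in
theorem exists_lift {i : ℕ} (h₁ : PZ 𝔞 I M (i + 2))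
    (y : ∀ n, H Uo (ModuleCat.of A (Formal2.quotPow A I M n)) i)
    (hy : ∀ n, hm (ModuleCat.ofHom (Formal2.quotPowTrans A I M n)) Uo i (y (n + 1)) = y n) (n : ℕ) :
    ∃ x : H Uo (ModuleCat.of A M) i, hm (ModuleCat.ofHom (Formal2.quotPowπ A I M n)) Uo i x = y n := by
  refine exists_of_dl_eq_zero Uo (lev_shortExact I M (n + 1)) i (y n) ?_
  have key : ∀ (l : ℕ) (hl : n ≤ l), dl Uo (lev_shortExact I M (n + 1)) i (y n) =
      hm (ModuleCat.ofHom (inc M I (Nat.succ_le_succ hl))) Uo (i + 1) (dl Uo (lev_shortExact I M (l + 1)) i (y l)) := by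
    intro l hl
    induction l, hl using Nat.le_induction with
    | base => rw [inc_refl, hm_apply, CategoryTheory.Functor.map_id, Ext.comp_mk₀_id]
    | succ l hl ih =>
      rw [ih, dl_step 𝔞 y hy l, ← hm_comp]
      exact congrArg (fun g => hm g Uo (i + 1) _) (inc_comp _ _)
  obtain ⟨m, hm₁, hm₂⟩ := h₁ (n + 1)
  rw [key m ((Nat.le_succ n).trans hm₁)]
  exact hm_eq_zero 𝔞 i _ (fun z => hm₂ _ _ (Nat.le_succ m) z) _

variable {I M} in
/-- On the punctured open, degree `i` cohomology is the limit along the powers of `I`. -/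
theorem formalCohBijective [IsAdicComplete I A] [Module.Finite A M] {i : ℕ} (h₀ : PZ 𝔞 I M (i + 1))
    (h₁ : PZ 𝔞 I M (i + 2)) : Formal2.FormalCohBijective A I M i Uo := by
  suffices hinj : ∀ x : H Uo (ModuleCat.of A M) i,
      (∀ n, hm (ModuleCat.ofHom (Formal2.quotPowπ A I M n)) Uo i x = 0) → x = 0 by
    refine ⟨fun x x' h => sub_eq_zero.1 (hinj _ fun n => by
      rw [map_sub, sub_eq_zero]; exact h n), fun y hy => ?_⟩
    choose x hx using exists_lift 𝔞 h₁ y hy
    haveI : IsAdicComplete I M := Groth.Agent.S9405.isAdicComplete_of_finite _ M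
    cases i with
    | succ i =>
      obtain ⟨m, -, hm'⟩ := h₀ 0
      refine ⟨x m, fun n => ?_⟩
      have : x (max n m) = x m := by
        refine sub_eq_zero.1 ?_
        obtain ⟨w, hw⟩ := exists_of_hm_g_eq_zero Uo (lev_shortExact I M (m + 1)) (i + 1) (x (max n m) - x m)
          ((map_sub (hm (ModuleCat.ofHom (Formal2.quotPowπ A I M m)) Uo (i + 1)) _ _).trans
            (sub_eq_zero.2 ((compat_down I M y hy _ (le_max_right n m) (hx _)).trans (hx m).symm)))
        rw [← hw, show (lev I M (m + 1)).f = ModuleCat.ofHom (inc M I (Nat.zero_le (m + 1))) ≫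
          ModuleCat.ofHom (sub M I 0).subtype from rfl, hm_comp,
          hm_eq_zero 𝔞 i _ (fun z => hm' _ (Nat.zero_le _) (Nat.le_succ m) z) w, map_zero]
      rw [← this]
      exact compat_down I M y hy _ (le_max_left n m) (hx _)
    | zero =>
      choose φ hφ hφ' using h₀
      let ψ : ℕ → ℕ := fun n => Nat.rec (φ 0) (fun j r => max r (φ (j + 1))) n
      have hψ : ∀ n, φ n ≤ ψ n := fun n => by cases n with
        | zero => exact le_rfl
        | succ j => exact le_max_right _ _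
      have hψ' : ∀ n, ψ n ≤ ψ (n + 1) := fun n => le_max_left _ _
      have hd : ∀ n, ∃ z : M, z ∈ sub M I n ∧ (tilde.toOpen (R := CommRingCat.of A) (ModuleCat.of A M) Uo).hom z =
          h0 Uo _ (x (ψ (n + 1)) - x (ψ n)) := fun n => by
        obtain ⟨w, hw⟩ := exists_of_hm_g_eq_zero Uo (lev_shortExact I M (ψ n + 1)) 0 (x (ψ (n + 1)) - x (ψ n))
          ((map_sub (hm (ModuleCat.ofHom (Formal2.quotPowπ A I M (ψ n))) Uo 0) _ _).trans
            (sub_eq_zero.2 ((compat_down I M y hy _ (hψ' n) (hx _)).trans (hx _).symm)))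
        have hle : n ≤ ψ n + 1 := (hφ n).trans ((hψ n).trans (Nat.le_succ _))
        obtain ⟨z, hz⟩ := secMap_mem_range 𝔞 (ModuleCat.ofHom (inc M I hle))
          (fun z => hφ' n _ hle ((hψ n).trans (Nat.le_succ _)) z) (h0 Uo _ w)
        refine ⟨z.1, z.2, ?_⟩
        rw [← hw, h0_hm, show (lev I M (ψ n + 1)).f = ModuleCat.ofHom (inc M I hle) ≫
          ModuleCat.ofHom (sub M I n).subtype from rfl, ← secMap_secMap, ← hz, secMap_toOpen]
        rfl
      choose z hzm hz using hd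
      have hcauchy : ∀ {a b : ℕ}, a ≤ b → ∑ j ∈ Finset.range a, z j ≡ ∑ j ∈ Finset.range b, z j
          [SMOD (I ^ a • ⊤ : Submodule A M)] := fun {a b} hab => by
        rw [SModEq.sub_mem, ← neg_mem_iff, neg_sub, ← Finset.sum_Ico_eq_sub _ hab]
        exact Submodule.sum_mem _ fun j hj =>
          Submodule.smul_mono_left (Ideal.pow_le_pow_right (Finset.mem_Ico.1 hj).1) (hzm j)
      obtain ⟨L, hL⟩ := IsPrecomplete.prec (I := I) inferInstance hcauchy
      refine ⟨x (ψ 0) + (h0 Uo (ModuleCat.of A M)).symm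
        ((tilde.toOpen (R := CommRingCat.of A) (ModuleCat.of A M) Uo).hom L), fun n => ?_⟩
      have hsum : h0 Uo _ (x (ψ (n + 1))) = h0 Uo _ (x (ψ 0)) +
          (tilde.toOpen (R := CommRingCat.of A) (ModuleCat.of A M) Uo).hom (∑ j ∈ Finset.range (n + 1), z j) := by
        rw [map_sum, Finset.sum_congr rfl fun j _ => hz j]
        simp only [map_sub]
        rw [Finset.sum_range_sub (fun j => h0 Uo _ (x (ψ j))), add_sub_cancel]
      refine Eq.trans ((h0 Uo _).injective ?_) (compat_down I M y hy (x (ψ (n + 1)))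
        (((Nat.le_succ n).trans (hφ _)).trans (hψ _)) (hx _))
      rw [hm_HVmap, h0_hm, h0_hm, map_add, AddEquiv.apply_symm_apply, hsum, map_add, map_add, secMap_toOpen,
        secMap_toOpen]
      refine congrArg₂ _ rfl (congrArg _ ?_)
      exact ((Submodule.Quotient.eq _).2 ((SModEq.sub_mem).1 (hL (n + 1)))).symm
  intro x hx
  cases i with
  | succ i =>
    obtain ⟨m, -, hm'⟩ := h₀ 0
    obtain ⟨w, hw⟩ := exists_of_hm_g_eq_zero Uo (lev_shortExact I M (m + 1)) (i + 1) x (hx m)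
    rw [← hw, show (lev I M (m + 1)).f = ModuleCat.ofHom (inc M I (Nat.zero_le (m + 1))) ≫
      ModuleCat.ofHom (sub M I 0).subtype from rfl, hm_comp,
      hm_eq_zero 𝔞 i _ (fun z => hm' _ (Nat.zero_le _) (Nat.le_succ m) z) w, map_zero]
  | zero =>
    haveI : IsAdicComplete I M := Groth.Agent.S9405.isAdicComplete_of_finite _ M
    have hd : ∀ n, ∃ z : M, z ∈ sub M I n ∧
        (tilde.toOpen (R := CommRingCat.of A) (ModuleCat.of A M) Uo).hom z = h0 Uo _ x := fun n => by
      obtain ⟨m, hnm, hm'⟩ := h₀ n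
      obtain ⟨w, hw⟩ := exists_of_hm_g_eq_zero Uo (lev_shortExact I M (m + 1)) 0 x (hx m)
      have hle : n ≤ m + 1 := hnm.trans (Nat.le_succ _)
      obtain ⟨z, hz⟩ := secMap_mem_range 𝔞 (ModuleCat.ofHom (inc M I hle))
        (fun z => hm' _ hle (Nat.le_succ m) z) (h0 Uo _ w)
      refine ⟨z.1, z.2, ?_⟩
      rw [← hw, h0_hm, show (lev I M (m + 1)).f = ModuleCat.ofHom (inc M I hle) ≫
        ModuleCat.ofHom (sub M I n).subtype from rfl, ← secMap_secMap, ← hz, secMap_toOpen]
      rfl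
    choose z hzm hz using hd
    let T := LinearMap.ker (tilde.toOpen (R := CommRingCat.of A) (ModuleCat.of A M) Uo).hom
    haveI : IsAdicComplete I (M ⧸ T) := Groth.Agent.S9405.isAdicComplete_of_finite _ _
    have h0' : T.mkQ (z 0) = 0 := IsHausdorff.haus (I := I) inferInstance _ fun n => by
      rw [SModEq.zero, show T.mkQ (z 0) = T.mkQ (z n) from (Submodule.Quotient.eq T).2 (by
        rw [LinearMap.mem_ker, map_sub, hz, hz, sub_self])]
      have := Submodule.mem_map_of_mem (f := T.mkQ) (hzm n)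
      rw [Submodule.map_smul''] at this
      exact Submodule.smul_mono le_rfl le_top this
    refine (h0 Uo _).injective ?_
    rw [map_zero, ← hz 0]
    exact LinearMap.mem_ker.1 ((Submodule.Quotient.mk_eq_zero T).1 h0')

end Groth.L29.ProZeroPunct
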