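import Groth.Agent.L29.Formal.CechLimit
import Groth.Agent.L29.Formal.ColimZero
import Groth.Agent.L29.Formal.ProZeroPunct
import Groth.Agent.L04.InjNoeth

/-!
Cohomology on opens near `V(I)` of the levels, and the limit statements on such opens.
-/

set_option autoImplicit false
set_option backward.isDefEq.respectTransparency false
set_option backward.isDefEq.respectTransparency.types false
set_option linter.style.haveILetI false

universe u

open CategoryTheory CategoryTheory.Limits AlgebraicGeometry TopologicalSpace Opposite Abelian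

attribute [local instance] HasDerivedCategory.standard

noncomputable section

namespace Groth.L29.LevelCoh

open Groth.L29.Formal Groth.L29.CechSect Groth.L29.CechNat Groth.L29.ProZeroPunct Groth.L29.CechTerms Groth.L10.AdicTower

variable {A : Type u} [CommRing A]

/-- restriction -/
def rs {V V' : (Spec (CommRingCat.of A)).Opens} (h : V' ≤ V) (N : ModuleCat.{u} A) (i : ℕ) : H V N i →+ H V' N i :=
  AddMonoidHom.mk' (fun x => (Ext.mk₀ (Groth.L17.zMap (X := Sp A) h)).comp x (zero_add i))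
    fun a b => Ext.comp_add _ _ _ _

theorem rs_eq {V V' : (Spec (CommRingCat.of A)).Opens} (h : V' ≤ V) (M : Type u) [AddCommGroup M] [Module A M] (i : ℕ)
    (x : Formal2.HV A M i V) : Formal2.HVres A M i h x = rs h (ModuleCat.of A M) i x := rfl

theorem rs_hm {V V' : (Spec (CommRingCat.of A)).Opens} (h : V' ≤ V) {M N : ModuleCat.{u} A} (g : M ⟶ N) (i : ℕ)
    (x : H V M i) : rs h N i (hm g V i x) = hm g V' i (rs h M i x) := by
  simp only [rs, hm_apply, AddMonoidHom.mk'_apply, Ext.comp_assoc_of_third_deg_zero]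

theorem rs_dl {V V' : (Spec (CommRingCat.of A)).Opens} (h : V' ≤ V) {S : ShortComplex (ModuleCat.{u} A)}
    (hS : S.ShortExact) (i : ℕ) (x : H V S.X₃ i) : rs h S.X₁ (i + 1) (dl V hS i x) = dl V' hS i (rs h S.X₃ i x) := by
  simp only [rs, dl, AddMonoidHom.mk'_apply]
  exact (Ext.comp_assoc _ _ _ (zero_add i) (rfl : i + 1 = i + 1) (by omega)).symm

theorem h0_rs {V V' : (Spec (CommRingCat.of A)).Opens} (h : V' ≤ V) (N : ModuleCat.{u} A) (x : H V N 0) :
    h0 V' N (rs h N 0 x) = res h N (h0 V N x) :=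
  Groth.L04.Koszul.Cech.hu₀_res h _ x

/-- every open is the complement of a zero locus -/
theorem exists_eq_punctured (V : (Spec (CommRingCat.of A)).Opens) : ∃ J : Ideal A, V = LocCoh.puncturedOpen A J := by
  refine ⟨PrimeSpectrum.vanishingIdeal {p : PrimeSpectrum A | p ∉ V}, ?_⟩
  ext p
  have hcl : IsClosed {p : PrimeSpectrum A | p ∉ V} := V.isOpen.isClosed_compl
  change p ∈ V ↔ ¬ ((PrimeSpectrum.vanishingIdeal {p : PrimeSpectrum A | p ∉ V} : Ideal A) : Set A) ⊆ p.asIdeal
  have h : p ∈ PrimeSpectrum.zeroLocus (PrimeSpectrum.vanishingIdeal {p : PrimeSpectrum A | p ∉ V} : Set A) ↔ p ∉ V := by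
    rw [PrimeSpectrum.zeroLocus_vanishingIdeal_eq_closure, hcl.closure_eq]
    rfl
  exact ⟨fun hp hle => h.1 hle hp, fun hn => by_contra fun hp => hn (h.2 hp)⟩

variable (I : Ideal A)

/-- Sections of an `I`-torsion module near a point outside `V(I)` vanish. -/
theorem eq_zero_of_le_D {f : A} {N : ModuleCat.{u} A} (hN : ∀ m : N, ∃ n : ℕ, f ^ n • m = 0)
    {W : (Spec (CommRingCat.of A)).Opens} (hW : W ≤ D f) (s : sec W N) : s = 0 := by
  let ι := {g : A // D g ≤ W}
  refine (modulesSpecToSheaf.obj (tilde (R := CommRingCat.of A) N)).eq_of_locally_eq' (fun g : ι => D g.1) W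
    (fun g => homOfLE g.2) (fun p hp => ?_) _ _ fun g => ?_
  · obtain ⟨_, ⟨g, rfl⟩, hpg, hgW⟩ := (PrimeSpectrum.isTopologicalBasis_basic_opens (R := A)).exists_subset_of_mem_open
      (u := {p : PrimeSpectrum A | p ∈ W}) hp W.isOpen
    exact Opens.mem_iSup.2 ⟨⟨g, hgW⟩, hpg⟩
  · change res g.2 N s = res g.2 N 0
    rw [map_zero]
    obtain ⟨k, m, hm⟩ := exists_toOpen g.1 N (res g.2 N s)
    obtain ⟨n, hn⟩ := hN m
    obtain ⟨e, he⟩ := PrimeSpectrum.basicOpen_le_basicOpen_iff g.1 f |>.1 (g.2.trans hW)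
    obtain ⟨c, hc⟩ := Ideal.mem_span_singleton'.1 he
    refine (smul_bij_D g.1 g.1 dvd_rfl N (e * n + k)).1 ?_
    change g.1 ^ (e * n + k) • _ = g.1 ^ (e * n + k) • 0
    rw [smul_zero, pow_add, mul_smul, hm, ← map_smul, pow_mul, ← hc, mul_pow, mul_smul, hn, smul_zero, map_zero]

variable {V V' : (Spec (CommRingCat.of A)).Opens}

theorem surjective_res_zero (h : V' ≤ V) (hVI : ∀ r ∈ V, I ≤ r.asIdeal → r ∈ V') {N : ModuleCat.{u} A}
    (hN : LocCoh.IsPowerTorsion I N) : Function.Surjective (rs h N 0) := by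
  intro x
  let s := h0 V' N x
  let F := modulesSpecToSheaf.obj (tilde (R := CommRingCat.of A) N)
  let W : Option ↥I → (Spec (CommRingCat.of A)).Opens := fun o => o.elim V' fun f => V ⊓ D f.1
  have hle : ∀ o, W o ≤ V := fun o => by
    cases o with
    | none => exact h
    | some f => exact inf_le_left
  have hcov : V ≤ ⨆ o, W o := fun r hr => by
    by_cases hI : I ≤ r.asIdeal
    · exact Opens.mem_iSup.2 ⟨none, hVI r hr hI⟩
    · obtain ⟨f, hf, hfr⟩ := SetLike.not_le_iff_exists.1 hI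
      exact Opens.mem_iSup.2 ⟨some ⟨f, hf⟩, ⟨hr, hfr⟩⟩
  have htor : ∀ f ∈ I, ∀ m : N, ∃ n : ℕ, f ^ n • m = 0 := fun f hf m => by
    obtain ⟨n, hn⟩ := hN m
    exact ⟨n, hn _ (Ideal.pow_mem_pow hf n)⟩
  let t : ∀ o, sec (W o) N := fun o => match o with
    | none => s
    | some _ => 0
  have hc : TopCat.Presheaf.IsCompatible F.obj W t := by
    intro o o'
    change res inf_le_left N (t o) = res inf_le_right N (t o')
    cases o with
    | none =>
      cases o' with
      | none => rfl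
      | some g =>
        exact (eq_zero_of_le_D (htor g.1 g.2) (inf_le_right.trans inf_le_right) _).trans
          (eq_zero_of_le_D (htor g.1 g.2) (inf_le_right.trans inf_le_right) _).symm
    | some f =>
      exact (eq_zero_of_le_D (htor f.1 f.2) (inf_le_left.trans inf_le_right) _).trans
        (eq_zero_of_le_D (htor f.1 f.2) (inf_le_left.trans inf_le_right) _).symm
  obtain ⟨u, hu, -⟩ := F.existsUnique_gluing' W V (fun o => homOfLE (hle o)) hcov t hc
  refine ⟨(h0 V N).symm u, (h0 V' N).injective ?_⟩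
  rw [h0_rs, AddEquiv.apply_symm_apply]
  exact hu none

variable [IsNoetherianRing A]

theorem surjective_rs (h : V' ≤ V) (hVI : ∀ r ∈ V, I ≤ r.asIdeal → r ∈ V') : ∀ (i : ℕ) (N : ModuleCat.{u} A),
    LocCoh.IsPowerTorsion I N → Function.Surjective (rs h N i) := by
  intro i
  induction i with
  | zero => exact fun N hN => surjective_res_zero I h hVI hN
  | succ i ih =>
    intro N hN x
    let E : ModuleCat.{u} A := Injective.under N
    haveI : Injective (ModuleCat.of A E) := (inferInstance : Injective (Injective.under N))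
    haveI hE : Module.Injective A E := Module.injective_module_of_injective_object A E
    let T := Groth.L04.powTorsion I (E : Type u)
    haveI : Module.Injective A T := Groth.L04.injective_powTorsion hE I
    let ET : ModuleCat.{u} A := ModuleCat.of A T
    haveI : Injective ET := Module.injective_object_of_injective_module A T
    let ι : N →ₗ[A] T := (Injective.ι N).hom.codRestrict T fun m => Groth.L04.mem_powTorsion.2 (by
      obtain ⟨n, hn⟩ := hN m
      exact ⟨n, fun a ha => by rw [← map_smul, hn a ha, map_zero]⟩)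
    have hinj : Function.Injective ι := fun a b hab =>
      (ModuleCat.mono_iff_injective (Injective.ι N)).1 inferInstance (congrArg Subtype.val hab)
    let S : ShortComplex (ModuleCat.{u} A) := ShortComplex.mk (ModuleCat.ofHom ι : N ⟶ ET)
      (ModuleCat.ofHom (LinearMap.range ι).mkQ)
      (ModuleCat.hom_ext (LinearMap.ext fun m => (Submodule.Quotient.mk_eq_zero _).2 ⟨m, rfl⟩))
    have hS : S.ShortExact :=
      { exact := (ShortComplex.moduleCat_exact_iff _).2 fun z hz => (Submodule.Quotient.mk_eq_zero _).1 hz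
        mono_f := (ModuleCat.mono_iff_injective _).2 hinj
        epi_g := (ModuleCat.epi_iff_surjective _).2 (Submodule.mkQ_surjective _) }
    obtain ⟨J, hJ⟩ := exists_eq_punctured V'
    haveI : Subsingleton (H V' ET (i + 1)) := by rw [hJ]; exact subsingleton_H_injective J ET i
    obtain ⟨y, rfl⟩ := exists_dl_of_hm_f_eq_zero V' hS i x (Subsingleton.elim (α := H V' ET (i + 1)) _ _)
    obtain ⟨y', rfl⟩ := ih S.X₃ (fun z => by
      obtain ⟨⟨e, he⟩, rfl⟩ := Submodule.Quotient.mk_surjective _ z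
      obtain ⟨n, hn⟩ := Groth.L04.mem_powTorsion.1 he
      exact ⟨n, fun a ha => by
        rw [← Submodule.Quotient.mk_smul, show a • (⟨e, he⟩ : T) = 0 from Subtype.ext (hn a ha)]
        rfl⟩) y
    exact ⟨dl V hS i y', rs_dl h hS i y'⟩

variable (M : Type u) [AddCommGroup M] [Module A M]

omit [IsNoetherianRing A] in
theorem isPowerTorsion_lvl (n : ℕ) : LocCoh.IsPowerTorsion I (lvl I M n) := fun z => ⟨n, fun a ha => by
  obtain ⟨m, rfl⟩ := Submodule.Quotient.mk_surjective _ z
  rw [← Submodule.Quotient.mk_smul, Submodule.Quotient.mk_eq_zero]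
  exact Submodule.smul_mem_smul ha Submodule.mem_top⟩

/-- every class of a high level is, on a lower level, the image of a class of the module -/
def Lifts (V : (Spec (CommRingCat.of A)).Opens) (p : ℕ) : Prop :=
  ∀ n, ∃ (k : ℕ) (h : n ≤ k), ∀ y : H V (lvl I M k) p, ∃ x : H V (ModuleCat.of A M) p,
    hm (pr I M n) V p x = hm (Groth.L29.CechLimit.fm I M h) V p y

theorem lifts_of_PZ (𝔞 : Ideal A) (p : ℕ) (h : PZ 𝔞 I M (p + 2)) : Lifts I M (LocCoh.puncturedOpen A 𝔞) p := by
  intro n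
  obtain ⟨m, hnm, hm'⟩ := h n
  refine ⟨m, hnm, fun y => exists_of_dl_eq_zero _ (lev_shortExact I M n) p _ ?_⟩
  let φ : lev I M m ⟶ lev I M n :=
    ShortComplex.homMk (ModuleCat.ofHom (Groth.L04.ProZero.inc M I hnm)) (𝟙 _) (Groth.L29.CechLimit.fm I M hnm)
      (ModuleCat.hom_ext (LinearMap.ext fun _ => rfl)) (ModuleCat.hom_ext (LinearMap.ext fun _ => rfl))
  exact (dl_natural _ (lev_shortExact I M m) (lev_shortExact I M n) φ p y).symm.trans
    (hm_eq_zero 𝔞 p φ.τ₁ (fun z => hm' m hnm le_rfl z) _)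

theorem Lifts.restrict (h : V' ≤ V) (hVI : ∀ r ∈ V, I ≤ r.asIdeal → r ∈ V') {p : ℕ} (hl : Lifts I M V p) :
    Lifts I M V' p := fun n => by
  obtain ⟨k, hk, hl⟩ := hl n
  refine ⟨k, hk, fun y => ?_⟩
  obtain ⟨y', rfl⟩ := surjective_rs I h hVI p (lvl I M k) (isPowerTorsion_lvl I M k) y
  obtain ⟨x, hx⟩ := hl y'
  exact ⟨rs h _ p x, by rw [← rs_hm, hx, rs_hm]⟩

variable (fs : List A) (hV : V = ⨆ j : Fin fs.length, D fs[j])

omit [IsNoetherianRing A] in
theorem ML_of_lifts {p : ℕ} {q : ℤ} {Φ : ∀ N : ModuleCat.{u} A, H V N p →+ ((C fs N).homology q : Type u)}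
    (hΦ : Good fs p q Φ) (hl : Lifts I M V p) : Groth.L29.CechLimit.ML I M fs q := fun n => by
  obtain ⟨k, hk, hl⟩ := hl n
  refine ⟨k, hk, fun l hl' c => ?_⟩
  obtain ⟨y, rfl⟩ := hΦ.1 _ c
  obtain ⟨x, hx⟩ := hl y
  refine ⟨(cmap fs (pr I M l) q).hom (Φ _ x), ?_⟩
  rw [← cmap_comp, ← hΦ.2.1, ← hΦ.2.1, ← hx]
  refine congrArg (fun g => Φ _ (hm g V p x)) ?_
  exact ModuleCat.hom_ext (LinearMap.ext fun _ => rfl)

include hV in
/-- Mittag-Leffler from lifting, all degrees. -/
theorem ML_of_lifts' (p : ℕ) (q : ℤ) (hq : q = p + 1) (hl : Lifts I M V p) : Groth.L29.CechLimit.ML I M fs q := by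
  subst hq
  cases p with
  | zero =>
    obtain ⟨Φ, hΦ⟩ := exists_zero fs hV
    exact ML_of_lifts I M fs hΦ hl
  | succ p =>
    obtain ⟨Ψ, hΨ⟩ := exists_equiv fs hV p (((p + 1 : ℕ) : ℤ) + 1) (by omega)
    exact ML_of_lifts I M fs (good_of_equiv fs Ψ hΨ) hl

include hV in
theorem exists_of_compat (p : ℕ) (q : ℤ) (hq : q = p + 2)
    (hs : Function.Surjective (HomologicalComplex.homologyMap (Groth.L29.CechLimit.kap I M fs) q).hom)
    (y : ∀ n, H V (ModuleCat.of A (Formal2.quotPow A I M n)) (p + 1))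
    (hy : ∀ n, hm (ModuleCat.ofHom (Formal2.quotPowTrans A I M n)) V (p + 1) (y (n + 1)) = y n) :
    ∃ x : H V (ModuleCat.of A M) (p + 1), ∀ n, hm (ModuleCat.ofHom (Formal2.quotPowπ A I M n)) V (p + 1) x = y n := by
  obtain ⟨Ψ, hΨ⟩ := exists_equiv fs hV p q hq
  let c : ∀ n, ((C fs (lvl I M n)).homology q : Type u) := fun n => Nat.casesOn n
    ((cmap fs (tr I M 0) q).hom (Ψ (lvl I M 1) (y 0))) fun j => Ψ (lvl I M (j + 1)) (y j)
  obtain ⟨x, hx⟩ := Groth.L29.CechLimit.surjective_lim I M fs q hs c fun n => by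
    cases n with
    | zero => rfl
    | succ j =>
      change (cmap fs (tr I M (j + 1)) q).hom (Ψ (lvl I M (j + 1 + 1)) (y (j + 1))) = Ψ (lvl I M (j + 1)) (y j)
      rw [← hΨ]
      exact congrArg _ (hy j)
  refine ⟨(Ψ _).symm x, fun n => (Ψ _).injective ?_⟩
  rw [hΨ, AddEquiv.apply_symm_apply]
  exact hx (n + 1)

include hV in
theorem eq_zero_of_levels (p : ℕ) (q : ℤ) (hq : q = p + 2)
    (hi : Function.Injective (HomologicalComplex.homologyMap (Groth.L29.CechLimit.kap I M fs) q).hom)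
    (hML : Groth.L29.CechLimit.ML I M fs ((p : ℤ) + 1)) (x : H V (ModuleCat.of A M) (p + 1))
    (hx : ∀ n, hm (ModuleCat.ofHom (Formal2.quotPowπ A I M n)) V (p + 1) x = 0) : x = 0 := by
  obtain ⟨Ψ, hΨ⟩ := exists_equiv fs hV p q hq
  refine (Ψ _).injective (Eq.trans ?_ (map_zero _).symm)
  refine Groth.L29.CechLimit.injective_lim I M fs _ q (by omega) hi hML _ fun n => ?_
  have h1 : ∀ n, (cmap fs (pr I M (n + 1)) q).hom (Ψ _ x) = 0 := fun n => by
    rw [← hΨ]
    exact (congrArg _ (hx n)).trans (map_zero _)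
  rw [show pr I M n = pr I M (n + 1) ≫ tr I M n from ModuleCat.hom_ext (LinearMap.ext fun _ => rfl), cmap_comp, h1,
    map_zero]

end Groth.L29.LevelCoh
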