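import Groth.Agent.L29.Formal.CechLimit
import Groth.Agent.L29.Formal.ProZeroPunct
import Groth.Agent.L04.LC.Nonvanish
import Groth.Agent.L29.Formal.LevelCoh

/-!
Čech cohomology is local cohomology, linearly; Mittag-Leffler for levels near the closed point.
-/

set_option autoImplicit false
set_option backward.isDefEq.respectTransparency false
set_option backward.isDefEq.respectTransparency.types false
set_option backward.defeqAttrib.useBackward true
set_option linter.style.haveILetI false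

universe u

open CategoryTheory CategoryTheory.Limits AlgebraicGeometry TopologicalSpace Opposite
open scoped TensorProduct

attribute [local instance] HasDerivedCategory.standard

noncomputable section

namespace Groth.L29.CechArtinian

open Groth.L29.CechTerms Groth.L29.CechNat Groth.L29.CechSect Groth.L29.Formal Groth.L04.LC Groth.L29.ProZeroPunct
  Groth.L10.AdicTower

variable {A : Type u} [CommRing A] (fs : List A)

theorem subsingleton_X_neg (N : ModuleCat.{u} A) (q : ℤ) (hq : q < 0) : Subsingleton ((C fs N).X q : Type u) :=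
  ModuleCat.subsingleton_of_isZero
    (Functor.map_isZero (MonoidalCategory.tensorRight N) (Groth.L10.CechTorsion.isZero_X _ fs q (Or.inl hq)))

theorem iSup_D (fs : List A) :
    (⨆ j : Fin fs.length, D fs[j]) = LocCoh.puncturedOpen A (Ideal.span {x : A | x ∈ fs}) := by
  ext r
  simp only [SetLike.mem_coe, Opens.mem_iSup]
  refine ⟨fun ⟨j, hj⟩ h => hj (h (Ideal.subset_span (List.getElem_mem j.2))), fun h => ?_⟩
  by_contra hc
  refine h fun a ha => ?_
  refine Ideal.span_le.2 (fun g hg => ?_) ha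
  obtain ⟨i, hi, rfl⟩ := List.getElem_of_mem hg
  by_contra hn
  exact hc ⟨⟨i, hi⟩, hn⟩

variable [IsNoetherianRing A]

/-- degree zero cocycles in the module -/
def zv (N : ModuleCat.{u} A) : Groth.L28.Kun.Z (C fs N) 0 →ₗ[A] N :=
  (augN N fs) ∘ₗ (Groth.L28.Kun.Z (C fs N) 0).subtype

theorem bijective_cl_zero (N : ModuleCat.{u} A) : Function.Bijective (Groth.L28.Kun.cl (C fs N) 0) := by
  refine ⟨(injective_iff_map_eq_zero _).2 fun x hx => ?_, Groth.L28.Kun.cl_surjective _ 0⟩
  obtain ⟨y, hy⟩ := (Groth.L28.Kun.cl_eq_zero_iff (C fs N) (show (-1 : ℤ) + 1 = 0 from rfl) x).1 hx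
  haveI := subsingleton_X_neg fs N (-1) (by norm_num)
  refine Subtype.ext (hy.symm.trans ?_)
  rw [Subsingleton.elim y 0, map_zero]
  rfl

theorem range_zv (N : ModuleCat.{u} A) :
    LinearMap.range (zv fs N) = DRing.torsionSub (Ideal.span {x : A | x ∈ fs}) N := by
  rw [← ker_toOpen, ← iSup_D fs]
  have hle : ∀ j : Fin fs.length, D fs[j] ≤ ⨆ j : Fin fs.length, D fs[j] :=
    fun j => le_iSup (fun j : Fin fs.length => D fs[j]) j
  ext m
  constructor
  · rintro ⟨⟨z, hz⟩, rfl⟩
    refine LinearMap.mem_ker.2 (eq_of_res fs N hle le_rfl _ 0 fun j => ?_)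
    rw [map_zero, res_toOpen]
    change (tilde.toOpen (R := CommRingCat.of A) N (D fs[j])).hom (augN N fs z) = 0
    rw [← cmp_d, show ((K fs).d 0 1).hom.rTensor N z = 0 from hz, map_zero]
  · intro hm
    obtain ⟨e, he⟩ := (bijective_augN N fs).2 m
    refine ⟨⟨e, ?_⟩, he⟩
    change ((K fs).d 0 1).hom.rTensor N e = 0
    refine (bijective_cmp fs N).1 (funext fun j => ?_)
    change cmp fs N j _ = cmp fs N j 0
    rw [cmp_d, he, map_zero, ← res_toOpen (hle j), LinearMap.mem_ker.1 hm, map_zero]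

/-- degree zero is torsion -/
def e0 (N : ModuleCat.{u} A) :
    ((C fs N).homology 0 : Type u) ≃ₗ[A] (localCohomology (Ideal.span {x : A | x ∈ fs}) 0).obj N :=
  (LinearEquiv.ofBijective _ (bijective_cl_zero fs N)).symm ≪≫ₗ
    (LinearEquiv.ofInjective (zv fs N) ((bijective_augN N fs).1.comp Subtype.val_injective) ≪≫ₗ
      LinearEquiv.ofEq _ _ (range_zv fs N)) ≪≫ₗ (H0Equiv (Ideal.span {x : A | x ∈ fs}) N).symm

theorem evalZero_e0_cl (N : ModuleCat.{u} A) (z : Groth.L28.Kun.Z (C fs N) 0) :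
    evalZero _ N (e0 fs N (Groth.L28.Kun.cl (C fs N) 0 z)) = augN N fs z.1 := by
  rw [← H0Equiv_apply]
  simp only [e0, LinearEquiv.trans_apply, LinearEquiv.apply_symm_apply]
  rw [show (LinearEquiv.ofBijective _ (bijective_cl_zero fs N)).symm (Groth.L28.Kun.cl (C fs N) 0 z) = z from
    (LinearEquiv.symm_apply_eq _).2 rfl]
  rfl

theorem e0_natural {N N' : ModuleCat.{u} A} (g : N ⟶ N') (c : ((C fs N).homology 0 : Type u)) :
    e0 fs N' ((cmap fs g 0).hom c) = ((localCohomology (Ideal.span {x : A | x ∈ fs}) 0).map g).hom (e0 fs N c) := by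
  obtain ⟨z, rfl⟩ := Groth.L28.Kun.cl_surjective (C fs N) 0 c
  refine evalZero_injective _ N' ?_
  rw [evalZero_natural, evalZero_e0_cl,
    show (cmap fs g 0).hom (Groth.L28.Kun.cl (C fs N) 0 z) = _ from Groth.L28.Kun.homologyMap_cl (Cm fs g) z, evalZero_e0_cl]
  exact Groth.L29.CechCompl.augN_lTensor fs g.hom z.1

theorem nonempty_equiv : ∀ (r : ℕ) (q : ℤ), q = r → ∀ N : ModuleCat.{u} A,
    Nonempty (((C fs N).homology q : Type u) ≃ₗ[A] (localCohomology (Ideal.span {x : A | x ∈ fs}) r).obj N) := by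
  intro r
  induction r with
  | zero =>
    intro q hq N
    subst hq
    exact ⟨e0 fs N⟩
  | succ r ih =>
    intro q hq N
    have hS := emb_shortExact N
    have hqr : (r : ℤ) + 1 = q := by omega
    haveI := subsingleton_of_injective fs (Injective.under N) q (by omega)
    haveI := subsingleton_H_succ_of_injective (Ideal.span {x : A | x ∈ fs}) r (Injective.under N)
    have hs₁ : Function.Surjective (δC fs hS (r : ℤ) q hqr).hom := fun c =>
      exact₁ fs hS _ q hqr c (Subsingleton.elim (α := ((C fs (Injective.under N)).homology q : Type u)) _ _)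
    have hs₂ : Function.Surjective (Hδ (Ideal.span {x : A | x ∈ fs}) hS r) :=
      Hδ_surjective _ hS r (inferInstanceAs (Subsingleton ((localCohomology _ (r + 1)).obj (Injective.under N))))
    have hk₁ : LinearMap.ker (δC fs hS (r : ℤ) q hqr).hom = LinearMap.range (cmap fs (emb N).g (r : ℤ)).hom := by
      ext c
      exact ⟨fun hc => exact₃ fs hS _ q hqr c hc, by rintro ⟨w, rfl⟩; exact δC_cmap fs hS _ q hqr w⟩
    have hk₂ : LinearMap.ker (Hδ (Ideal.span {x : A | x ∈ fs}) hS r) =
        LinearMap.range ((localCohomology (Ideal.span {x : A | x ∈ fs}) r).map (emb N).g).hom :=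
      LinearMap.exact_iff.1 (H_exact₃ _ hS r)
    suffices h : ∃ e : ((C fs (emb N).X₃).homology (r : ℤ) : Type u) ≃ₗ[A]
        (localCohomology (Ideal.span {x : A | x ∈ fs}) r).obj (emb N).X₃,
        (LinearMap.ker (δC fs hS (r : ℤ) q hqr).hom).map e.toLinearMap =
          LinearMap.ker (Hδ (Ideal.span {x : A | x ∈ fs}) hS r) by
      obtain ⟨e, he⟩ := h
      exact ⟨(LinearMap.quotKerEquivOfSurjective _ hs₁).symm ≪≫ₗ Submodule.Quotient.equiv _ _ e he ≪≫ₗ
        LinearMap.quotKerEquivOfSurjective _ hs₂⟩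
    rw [hk₁, hk₂]
    cases r with
    | zero =>
      refine ⟨e0 fs (emb N).X₃, ?_⟩
      ext x
      constructor
      · rintro ⟨_, ⟨w, rfl⟩, rfl⟩
        exact ⟨e0 fs _ w, (e0_natural fs (emb N).g w).symm⟩
      · rintro ⟨w, rfl⟩
        exact ⟨_, ⟨(e0 fs _).symm w, rfl⟩, (e0_natural fs (emb N).g _).trans (by rw [LinearEquiv.apply_symm_apply])⟩
    | succ r =>
      obtain ⟨e⟩ := ih ((r + 1 : ℕ) : ℤ) rfl (emb N).X₃
      refine ⟨e, ?_⟩
      haveI := subsingleton_of_injective fs (Injective.under N) ((r + 1 : ℕ) : ℤ) (by omega)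
      haveI := subsingleton_H_succ_of_injective (Ideal.span {x : A | x ∈ fs}) r (Injective.under N)
      rw [LinearMap.range_eq_bot.2 (LinearMap.ext fun w => by
          rw [Subsingleton.elim (α := ((C fs (Injective.under N)).homology ((r + 1 : ℕ) : ℤ) : Type u)) w 0]
          exact map_zero _),
        LinearMap.range_eq_bot.2 (LinearMap.ext fun w => by
          rw [Subsingleton.elim (α := (localCohomology (Ideal.span {x : A | x ∈ fs}) (r + 1)).obj (Injective.under N)) w 0]
          exact map_zero _), Submodule.map_bot]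

theorem isArtinian_homology [IsLocalRing A] (I : Ideal A) (hJm : Ideal.span {x : A | x ∈ fs} ≤ IsLocalRing.maximalIdeal A)
    (hV : ∀ q : PrimeSpectrum A, I ≤ q.asIdeal → (∀ g ∈ fs, g ∈ q.asIdeal) → IsLocalRing.maximalIdeal A ≤ q.asIdeal)
    (M : Type u) [AddCommGroup M] [Module A M] [Module.Finite A M] (n r : ℕ) :
    IsArtinian A ((C fs (lvl I M n)).homology (r : ℤ) : Type u) := by
  obtain ⟨e⟩ := nonempty_equiv fs r r rfl (lvl I M n)
  have hsub : ∀ p : PrimeSpectrum A, Ideal.span {x : A | x ∈ fs} ≤ p.asIdeal →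
      ¬ IsLocalRing.maximalIdeal A ≤ p.asIdeal →
      ∀ j : ℕ, Subsingleton (LocCoh.H (IsLocalRing.maximalIdeal (Localization.AtPrime p.asIdeal)) j
        (LocalizedModule p.asIdeal.primeCompl (lvl I M n))) := by
    intro p hp hpm j
    have hIp : ¬ I ≤ p.asIdeal := fun h => hpm (hV p h fun g hg => hp (Ideal.subset_span hg))
    obtain ⟨f, hf, hfp⟩ := SetLike.not_le_iff_exists.1 hIp
    haveI : Subsingleton (LocalizedModule p.asIdeal.primeCompl (lvl I M n)) := by
      refine LocalizedModule.subsingleton_iff.2 fun z => ⟨f ^ n, fun h => hfp (p.2.mem_of_pow_mem n h), ?_⟩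
      obtain ⟨k, hk⟩ := Groth.L29.LevelCoh.isPowerTorsion_lvl I M n z
      obtain ⟨m, rfl⟩ := Submodule.Quotient.mk_surjective _ z
      rw [← Submodule.Quotient.mk_smul, Submodule.Quotient.mk_eq_zero]
      exact Submodule.smul_mem_smul (Ideal.pow_mem_pow hf n) Submodule.mem_top
    refine subsingleton_of_forall_eq 0 fun x => ?_
    obtain ⟨k, a, rfl⟩ := Hι_surjective _ j (ModuleCat.of _ (LocalizedModule p.asIdeal.primeCompl (lvl I M n))) x
    rw [← CategoryTheory.Abelian.Ext.comp_mk₀_id a,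
      show 𝟙 (ModuleCat.of (Localization.AtPrime p.asIdeal) (LocalizedModule p.asIdeal.primeCompl (lvl I M n))) = 0 from
        ModuleCat.hom_ext (LinearMap.ext fun z => Subsingleton.elim _ _),
      CategoryTheory.Abelian.Ext.mk₀_zero, CategoryTheory.Abelian.Ext.comp_zero, map_zero]
  haveI : IsArtinian A (LocCoh.H (IsLocalRing.maximalIdeal A) r (lvl I M n)) :=
    isArtinian_H_maximalIdeal (R := A) r _
  have hs : Function.Surjective (Hmap hJm r (ModuleCat.of A (lvl I M n))) :=
    (Hmap_surjective_injective (lvl I M n) _ _ hJm r).1 fun p hp hpm => hsub p hp hpm r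
  haveI : IsArtinian A ((localCohomology (Ideal.span {x : A | x ∈ fs}) r).obj (lvl I M n) : Type u) :=
    isArtinian_of_surjective _ _ hs
  exact isArtinian_of_injective e.toLinearMap e.injective

theorem ML_of_local [IsLocalRing A] (I : Ideal A) (hJm : Ideal.span {x : A | x ∈ fs} ≤ IsLocalRing.maximalIdeal A)
    (hV : ∀ q : PrimeSpectrum A, I ≤ q.asIdeal → (∀ g ∈ fs, g ∈ q.asIdeal) → IsLocalRing.maximalIdeal A ≤ q.asIdeal)
    (M : Type u) [AddCommGroup M] [Module A M] [Module.Finite A M] (r : ℕ) :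
    Groth.L29.CechLimit.ML I M fs (r : ℤ) := fun n => by
  haveI := isArtinian_homology fs I hJm hV M n r
  let F : ℕ →o (Submodule A ((C fs (lvl I M n)).homology (r : ℤ) : Type u))ᵒᵈ :=
    ⟨fun j => OrderDual.toDual (LinearMap.range
      (cmap fs (Groth.L29.CechLimit.fm I M (Nat.le_add_right n j)) (r : ℤ)).hom), fun a b hab => by
      rintro _ ⟨x, rfl⟩
      refine ⟨(cmap fs (Groth.L29.CechLimit.fm I M (Nat.add_le_add_left hab n)) (r : ℤ)).hom x, ?_⟩
      rw [← cmap_comp, Groth.L29.CechLimit.fm_comp]⟩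
  obtain ⟨j₀, hj₀⟩ := IsArtinian.monotone_stabilizes F
  refine ⟨n + j₀, Nat.le_add_right n j₀, fun l hl x => ?_⟩
  obtain ⟨e, rfl⟩ := Nat.exists_eq_add_of_le hl
  have h1 : (cmap fs (Groth.L29.CechLimit.fm I M (Nat.le_add_right n j₀)) (r : ℤ)).hom x ∈
      OrderDual.ofDual (F (j₀ + e)) := by
    rw [← hj₀ (j₀ + e) (Nat.le_add_right _ _)]
    exact ⟨x, rfl⟩
  obtain ⟨x', hx'⟩ := h1
  have key : ∀ (a b : ℕ) (hab : a = b) (ha : n ≤ a) (hb : n ≤ b)
      (x' : ((C fs (lvl I M a)).homology (r : ℤ) : Type u)),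
      ∃ x'' : ((C fs (lvl I M b)).homology (r : ℤ) : Type u),
        (cmap fs (Groth.L29.CechLimit.fm I M hb) (r : ℤ)).hom x'' =
          (cmap fs (Groth.L29.CechLimit.fm I M ha) (r : ℤ)).hom x' := by
    rintro a b rfl ha hb x'
    exact ⟨x', rfl⟩
  obtain ⟨x'', hx''⟩ := key (n + (j₀ + e)) (n + j₀ + e) (add_assoc _ _ _).symm (Nat.le_add_right _ _)
    ((Nat.le_add_right n j₀).trans hl) x'
  exact ⟨x'', hx''.trans hx'⟩

end Groth.L29.CechArtinian
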