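import Groth.Agent.L16.Rees.FormalFunctions

/-!
Cohomology as a limit along powers of an element regular on the module, from finiteness.
-/

set_option autoImplicit false
set_option linter.style.haveILetI false

universe u

open CategoryTheory CategoryTheory.Limits AlgebraicGeometry TopologicalSpace Opposite

noncomputable section

namespace Groth.L29.FormalReg

open Formal (smulMod smulFamily modPow modPowπ modPowTrans toHHmodPow HHlim toHHlim)
open Groth.L16.CohLinear (hmap hmap_comp)
open Groth.L16.Rees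
open Groth.L16

variable {A : Type u} [CommRing A] {X : Scheme.{u}} [X.Over (Spec (CommRingCat.of A))] (F : X.Modules) (t : A)


theorem pow_mem_span (k : ℕ) : t ^ k ∈ Ideal.span ({t} : Set A) ^ k :=
  Ideal.pow_mem_pow (Ideal.mem_span_singleton_self t) k

theorem smulMod_π (k : ℕ) : smulMod A F (t ^ k) ≫ modPowπ (Ideal.span {t}) k F = 0 :=
  smulMod_modPowπ _ F (pow_mem_span t k)

/-- `F → F → F / t^k F` -/
abbrev seq (k : ℕ) : ShortComplex X.Modules :=
  ShortComplex.mk (smulMod A F (t ^ k)) (modPowπ (Ideal.span {t}) k F) (smulMod_π F t k)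

theorem desc_cond (k : ℕ) {Z : X.Modules} (g : F ⟶ Z) (h : smulMod A F (t ^ k) ≫ g = 0) :
    smulFamily (Ideal.span {t} ^ k) F ≫ g = 0 := by
  refine Sigma.hom_ext _ _ fun a => ?_
  obtain ⟨a, ha⟩ := a
  rw [Ideal.span_singleton_pow] at ha
  obtain ⟨b, rfl⟩ := Ideal.mem_span_singleton'.1 ha
  rw [comp_zero, smulFamily, Sigma.ι_desc_assoc]
  change smulMod A F (b * t ^ k) ≫ g = 0
  rw [mul_comm, smulMod_mul, Category.assoc, h, comp_zero]

theorem mono_pow (hreg : Mono (smulMod A F t)) : ∀ k, Mono (smulMod A F (t ^ k))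
  | 0 => by rw [pow_zero, smulMod_one]; infer_instance
  | k + 1 => by
      haveI := mono_pow hreg k
      rw [pow_succ, smulMod_mul]
      exact mono_comp _ _

theorem seq_shortExact (hreg : Mono (smulMod A F t)) (k : ℕ) : (seq F t k).ShortExact := by
  haveI := mono_pow F t hreg k
  haveI : Epi (modPowπ (Ideal.span {t}) k F) := inferInstanceAs (Epi (cokernel.π _))
  refine ⟨ShortComplex.exact_of_g_is_cokernel _ (CokernelCofork.IsColimit.ofπ _ _
    (fun g hg => cokernel.desc _ g (desc_cond F t k g hg)) (fun g hg => cokernel.π_desc _ _ _)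
    (fun g hg b hb => ?_))⟩
  exact coequalizer.hom_ext (hb.trans (cokernel.π_desc _ _ _).symm)

/-- compatibility of the sequences -/
def seqHom (k : ℕ) : seq F t (k + 1) ⟶ seq F t k :=
  ShortComplex.homMk (smulMod A F t) (𝟙 F) (modPowTrans (Ideal.span {t}) k F)
    (by rw [Category.comp_id, ← smulMod_mul, ← pow_succ])
    (by rw [Category.id_comp]; exact (Formal.modPowπ_trans _ k F).symm)

variable [IsNoetherianRing A] [IsAdicComplete (Ideal.span {t}) A]

theorem eq_zero_of_mem {H : Type u} [AddCommGroup H] [Module A H] [Module.Finite A H] (w : H)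
    (h : ∀ k : ℕ, ∃ z, w = t ^ k • z) : w = 0 := by
  have hw : w ∈ ⨅ k : ℕ, Ideal.span {t} ^ k • (⊤ : Submodule A H) := by
    refine (Submodule.mem_iInf _).2 fun k => ?_
    obtain ⟨z, rfl⟩ := h k
    exact Submodule.smul_mem_smul (pow_mem_span t k) trivial
  rw [Ideal.iInf_pow_smul_eq_bot_of_le_jacobson _ (IsAdicComplete.le_jacobson_bot (Ideal.span {t}))] at hw
  exact (Submodule.mem_bot A).1 hw

variable {F}

theorem ker_toHHmodPow' (hreg : Mono (smulMod A F t)) {i n : ℕ} {x : Coh.HH X F i}
    (hx : toHHmodPow (Ideal.span {t}) F i n x = 0) : ∃ z, x = t ^ (n + 1) • z := by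
  obtain ⟨z, hz⟩ := (CohLinear.exact_hmap_hmap (seq_shortExact F t hreg (n + 1)) i x).1 hx
  exact ⟨z, hz.symm.trans (Groth.L16.Rees.hmap_smulMod A F _ i z)⟩

theorem injective (hreg : Mono (smulMod A F t)) (i : ℕ) [Module.Finite A (Coh.HH X F i)] :
    Function.Injective (toHHlim (Ideal.span {t}) F i) := by
  refine (injective_iff_map_eq_zero _).2 fun x hx => eq_zero_of_mem t x fun k => ?_
  obtain ⟨z, rfl⟩ := ker_toHHmodPow' t hreg (x := x) (n := k) (congrFun (congrArg Subtype.val hx) k)
  exact ⟨t • z, by rw [smul_smul, ← pow_succ]⟩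

theorem bijective (hreg : Mono (smulMod A F t)) (i : ℕ) [Module.Finite A (Coh.HH X F i)]
    [Module.Finite A (Coh.HH X F (i + 1))] : Function.Bijective (toHHlim (Ideal.span {t}) F i) := by
  refine ⟨injective t hreg i, fun y => ?_⟩
  let dl := fun k => CohLinear.delta (seq_shortExact F t hreg (k + 1)) i
  have key : ∀ n e, dl n (y.1 n) = t ^ e • dl (n + e) (y.1 (n + e)) := by
    intro n e
    induction e with
    | zero => rw [pow_zero, one_smul]; rfl
    | succ e ih =>
      rw [ih, pow_succ, mul_smul]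
      refine congrArg _ ?_
      have h1 := delta_naturality (seq_shortExact F t hreg (n + e + 1 + 1)) (seq_shortExact F t hreg (n + e + 1))
        (seqHom F t (n + e + 1)) (y.1 (n + e + 1))
      refine Eq.trans ?_ (h1.trans (Groth.L16.Rees.hmap_smulMod A F t (i + 1) _))
      exact congrArg (dl (n + e)) (y.2 (n + e)).symm
  have hlift : ∀ n, ∃ z, toHHmodPow (Ideal.span {t}) F i n z = y.1 n := fun n =>
    (CohLinear.exact_hmap_delta (seq_shortExact F t hreg (n + 1)) i (y.1 n)).1
      (eq_zero_of_mem t _ fun k => ⟨_, key n k⟩)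
  choose z hz using hlift
  haveI := isAdicComplete_of_finite (Ideal.span {t}) (Coh.HH X F i)
  obtain ⟨L, hL⟩ := IsPrecomplete.prec (I := Ideal.span {t}) (M := Coh.HH X F i) inferInstance (f := z) (by
    intro a b hab
    rw [SModEq.sub_mem]
    obtain ⟨w, hw⟩ := ker_toHHmodPow' t hreg (x := z a - z b) (n := a) (by
      rw [map_sub, hz, ← modPowLE_toHHmodPow _ F i hab, hz, HHlim_compat _ F y hab, sub_self])
    rw [hw]
    exact Submodule.smul_mem_smul (Ideal.pow_le_pow_right (Nat.le_succ a) (pow_mem_span t (a + 1))) trivial)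
  refine ⟨L, Subtype.ext (funext fun n => ?_)⟩
  change toHHmodPow (Ideal.span {t}) F i n L = y.1 n
  have h2 : toHHmodPow (Ideal.span {t}) F i n (z (n + 1) - L) = 0 := by
    have := SModEq.sub_mem.1 (hL (n + 1))
    refine Submodule.smul_induction_on this (fun a ha x _ => smul_mem_ker _ F ha x) fun a b ha hb => ?_
    rw [map_add, ha, hb, add_zero]
  rw [map_sub, sub_eq_zero] at h2
  rw [← h2, ← modPowLE_toHHmodPow _ F i (Nat.le_succ n), hz, HHlim_compat _ F y (Nat.le_succ n)]

end Groth.L29.FormalReg
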