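import Groth.Agent.L29.Formal.OpenDepth
import Groth.Agent.L29.Formal.Regular
import Groth.Agent.L04.LC.PuncturedLinear
import Groth.Agent.L04.LC.Codim
import Groth.Agent.L14.PicSurj.Bundles

/-!
Formal functions on quasi-affine open subschemes of quotients of regular rings.
-/

set_option autoImplicit false
set_option backward.isDefEq.respectTransparency false
set_option backward.isDefEq.respectTransparency.types false
set_option linter.style.haveILetI false

universe u

open CategoryTheory CategoryTheory.Limits AlgebraicGeometry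

noncomputable section

namespace Groth.L29.FormalReg

variable {A : Type u} [CommRing A] [IsNoetherianRing A] (I : Ideal A)

local notation "Uo" => LocCoh.puncturedOpen A I

theorem finite_HH_tilde (M : ModuleCat.{u} A) [Module.Finite A M] (m : ℕ)
    (hm : Module.Finite A (LocCoh.H I (m + 1) M)) :
    Module.Finite A (Coh.HH (Uo : Scheme.{u}) (Groth.L04.PunctLin.tM Uo M) m) := by
  cases m with
  | zero =>
    let tO := (tilde.toOpen (R := CommRingCat.of A) M Uo).hom
    obtain ⟨-, ⟨c⟩⟩ := Groth.L04.Koszul.Cech.exists_toOpen_punctured I M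
    haveI : Module.Finite A ((localCohomology I 1).obj M) := hm
    haveI : Module.Finite A (LinearMap.range tO) := Module.Finite.range tO
    haveI : Module.Finite A (_ ⧸ LinearMap.range tO) := Module.Finite.equiv c.symm
    haveI : Module.Finite A (Groth.L04.PunctLin.sect Uo M) := Module.Finite.of_submodule_quotient (LinearMap.range tO)
    exact Module.Finite.equiv (Groth.L04.PunctLin.gamma Uo M).symm
  | succ m =>
    obtain ⟨e⟩ := Groth.L04.PunctLin.nonempty_equiv I m M
    haveI : Module.Finite A ((localCohomology I (m + 2)).obj M) := hm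
    exact Module.Finite.equiv e.symm

variable {R : Type u} [CommRing R] [IsRegularRing R] {π : R →+* A}

theorem toHHlim_of_relCodim (hπ : Function.Surjective π) (t : A) [IsAdicComplete (Ideal.span {t}) A]
    (U : (Spec (CommRingCat.of A)).Opens) (hU : U = Uo) (F : (U : Scheme.{u}).Modules) (hF : Coh.IsCoh F)
    (hreg : Mono (Formal.smulMod A F t)) (n : ℕ)
    (hdepth : ∀ x : (U : Scheme.{u}), SGA2.relCodim I (U.ι x) = 1 →
      ((n + 1 : ℕ) : ℕ∞) ≤ LocCoh.depth ((U : Scheme.{u}).presheaf.stalk x) (F.presheaf.stalk x)) (i : ℕ) :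
    (i < n → Function.Bijective (Formal.toHHlim (Ideal.span {t}) F i)) ∧
      (i = n → Function.Injective (Formal.toHHlim (Ideal.span {t}) F i)) := by
  subst hU
  haveI : IsNoetherianRing (CommRingCat.of A) := inferInstanceAs (IsNoetherianRing A)
  haveI := hF.1
  obtain ⟨N, hN, ⟨e⟩⟩ := Groth.L14.PicSurj.exists_tilde_extension' Uo F hF.2
  haveI : Module.Finite A N := hN
  have hfin : ∀ j : ℕ, j ≤ n + 1 → Module.Finite A (LocCoh.H I j N) :=
    (Groth.L04.LC.finite_H_below_iff_depth π hπ I N (n + 1)).2 fun p q hp hq hcov => by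
      have hx : p ∈ Uo := fun h => hp h
      have h1 := hdepth ⟨p, hx⟩ (Groth.L04.LC.relCodim_eq_one hp hcov.le hq
        ((Groth.L04.LC.height_quot_eq_one_iff_covBy hcov.le).2 hcov))
      have h2 : LocCoh.depth ((Uo : Scheme.{u}).presheaf.stalk ⟨p, hx⟩) (((tilde N).restrict (Uo).ι).presheaf.stalk ⟨p, hx⟩) =
          LocCoh.depth ((Uo : Scheme.{u}).presheaf.stalk ⟨p, hx⟩) (F.presheaf.stalk ⟨p, hx⟩) :=
        Groth.L04.idealDepth_congr ((Groth.L00.Stk.F (Uo : Scheme.{u}) ⟨p, hx⟩).mapIso e).toLinearEquiv
      exact h1.trans (h2.symm.trans (Groth.L29.OpenDepth.depth_tilde_restrict Uo N ⟨p, hx⟩)).le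
  have hH : ∀ m, m ≤ n → Module.Finite A (Coh.HH (Uo : Scheme.{u}) F m) := fun m hm => by
    haveI := finite_HH_tilde I N m (hfin (m + 1) (by omega))
    exact Groth.L16.CohLinear.finite_of_iso A e m
  refine ⟨fun hi => ?_, fun hi => ?_⟩
  · haveI := hH i hi.le
    haveI := hH (i + 1) hi
    exact bijective t hreg i
  · haveI := hH i hi.le
    exact injective t hreg i

end Groth.L29.FormalReg
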