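import Groth.Agent.L29.Formal.ProZeroPunct
import Groth.Agent.S8797

/-!
Depth conditions give pro-vanishing of `H^i_𝔞(IⁿM)`.
-/

set_option autoImplicit false
set_option backward.isDefEq.respectTransparency false
set_option backward.isDefEq.respectTransparency.types false
set_option linter.style.haveILetI false

universe u

noncomputable section

namespace Groth.L29.ProZeroPunct

variable {A : Type u} [CommRing A] [IsNoetherianRing A]

theorem pz_of_depth (I 𝔞 : Ideal A) (hI : I ≤ 𝔞) (hω : ∃ ω : Dual.D A, Dual.IsDualizing A ω)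
    (d : ℕ) (hd : LocCoh.CdLE A I d) (M : Type u) [AddCommGroup M] [Module A M] [Module.Finite A M] (s : ℕ)
    (h : ∀ (p : Ideal A) [p.IsPrime], ¬ 𝔞 ≤ p → ¬ I ≤ p →
      (s : ℕ∞) < LocCoh.depth (Localization.AtPrime p) (LocalizedModule p.primeCompl M) ∨
        ∀ (q : Ideal A) [q.IsPrime], p ≤ q → 𝔞 ≤ q →
          ((d + s : ℕ) : WithBot ℕ∞) <
            ((LocCoh.depth (Localization.AtPrime p) (LocalizedModule p.primeCompl M) : ℕ∞) : WithBot ℕ∞) +
              Formal2.dimBetween A p q) :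
    ∀ i : ℕ, i ≤ s + 1 → PZ 𝔞 I M i := by
  obtain ⟨ω, hω⟩ := hω
  have H := Groth.L04.ProZero.hyp_mk (M := M) (s := s) hω hd (T := PrimeSpectrum.zeroLocus (𝔞 : Set A))
    (fun q hq => hI.trans hq)
    (fun p r q hpr hrq hp _ _ hq => (h p.asIdeal (fun hp' => hp (hI.trans hp')) hp).imp le_of_lt
      fun h' => h' q.asIdeal (hpr.trans hrq) hq)
    (Groth.Agent.S8797.result A ⟨ω, hω⟩ I 𝔞 hI d hd M s
      (fun p q hpq hp hq => (h p.asIdeal (fun hp' => hp (hI.trans hp')) hp).imp_right fun h' => h' q.asIdeal hpq hq)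
      _ rfl)
  exact fun i hi => pz_of_HT 𝔞 (Groth.L04.QuotLim.pz_of_hyp H i hi)

end Groth.L29.ProZeroPunct
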