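import Groth.Agent.L29.Formal.LevelCoh
import Groth.Agent.L29.Formal.ProZeroHyp

/-!
Colimit near `V(I)` versus limit along powers of `I`, in every degree.
-/

set_option autoImplicit false
set_option backward.isDefEq.respectTransparency false
set_option backward.isDefEq.respectTransparency.types false
set_option linter.style.haveILetI false

universe u

open CategoryTheory CategoryTheory.Limits AlgebraicGeometry TopologicalSpace Opposite Abelian

attribute [local instance] HasDerivedCategory.standard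

noncomputable section

namespace Groth.L29.ColimDeg

open Groth.L29.Formal Groth.L29.CechSect Groth.L29.CechNat Groth.L29.LevelCoh Groth.L29.CechLimit Groth.L10.AdicTower

variable {A : Type u} [CommRing A] [IsNoetherianRing A] (I : Ideal A) (M : Type u) [AddCommGroup M] [Module A M]
  [Module.Finite A M]

/-- a cover of an open by finitely many basic opens from a list -/
theorem iSup_D_eq (fs : List A) :
    (⨆ j : Fin fs.length, D fs[j]) = LocCoh.puncturedOpen A (Ideal.span {x : A | x ∈ fs}) := by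
  ext r
  simp only [SetLike.mem_coe, Opens.mem_iSup]
  refine ⟨fun ⟨j, hj⟩ h => hj (h (Ideal.subset_span (List.getElem_mem j.2))), fun h => ?_⟩
  by_contra hc
  refine h fun a ha => ?_
  refine Ideal.span_le.2 (fun g hg => ?_) ha
  obtain ⟨i, hi, rfl⟩ := List.getElem_of_mem hg
  by_contra hn
  exact hc ⟨⟨i, hi⟩, hn⟩

theorem exists_span_list (J : Ideal A) : ∃ fs : List A, Ideal.span {x : A | x ∈ fs} = J := by
  obtain ⟨s, hs⟩ := (isNoetherianRing_iff_ideal_fg A).1 inferInstance J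
  exact ⟨s.toList, by rw [← hs]; congr 1; ext; simp⟩

/-- the ideal near `V(I)` with bijective completion maps up to degree `t` -/
theorem exists_ideal [IsAdicComplete I A] (𝔞 : Ideal A) (hω : ∃ ω : Dual.D A, Dual.IsDualizing A ω)
    (d : ℕ) (hd : LocCoh.CdLE A I d) (t : ℕ)
    (h : ∀ p : PrimeSpectrum A, ¬ I ≤ p.asIdeal → (∃ r : PrimeSpectrum A, p ≤ r ∧ I ≤ r.asIdeal ∧ ¬ 𝔞 ≤ r.asIdeal) →
      (t : ℕ∞) ≤ Groth.L04.AlgKill.dep M p ∨ ∀ q : PrimeSpectrum A, p ≤ q → 𝔞 ≤ q.asIdeal → I ≤ q.asIdeal →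
        (((d + t : ℕ) : ℕ∞) : WithBot ℕ∞) <
          ((Groth.L04.AlgKill.dep M p : ℕ∞) : WithBot ℕ∞) + Formal2.dimBetween A p.asIdeal q.asIdeal) :
    ∃ J₀ : Ideal A, J₀ ≤ 𝔞 ∧ (∀ q : PrimeSpectrum A, J₀ ≤ q.asIdeal → I ≤ q.asIdeal → 𝔞 ≤ q.asIdeal) ∧
      ∀ fs : List A, Ideal.span {x : A | x ∈ fs} ≤ J₀ →
        (∀ q : PrimeSpectrum A, I ≤ q.asIdeal → (∀ g ∈ fs, g ∈ q.asIdeal) → 𝔞 ≤ q.asIdeal) →
        ∀ q : ℤ, q ≤ t → Function.Bijective (HomologicalComplex.homologyMap (kap I M fs) q).hom := by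
  obtain ⟨ω, hω⟩ := hω
  obtain ⟨W, hinj, hK, hW⟩ := Groth.L04.ComplTors.exists_dualizing_rep hω
  haveI := hinj
  haveI := hK
  haveI := Groth.L10.DualUnbounded.hasRgammaI 𝔞
  haveI := Groth.Agent.S7096.result I ((isNoetherianRing_iff_ideal_fg A).1 inferInstance I)
  obtain ⟨J₀, hle, hV, htors⟩ := Groth.L04.ComplTors.exists_torsion I 𝔞 hW M t d hd (fun p hI hq m hm => by
    rcases h p hI hq with h' | h'
    · rw [hm] at h'
      exact Or.inl (by exact_mod_cast h')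
    · refine Or.inr fun q hpq hqJ hqI => ?_
      have h'' := h' q hpq hqJ hqI
      rw [hm] at h''
      have := Groth.L04.ComplTors.lt_of_lt_dimBetween hW hpq (d + t) m h''
      lia)
  refine ⟨J₀, hle, hV, fun fs hfs hfV q hq => ?_⟩
  haveI := Groth.L10.DualUnbounded.hasRgammaI (Ideal.span {x : A | x ∈ fs})
  refine bijective_kap I M fs q ?_
  refine Groth.L04.ComplTors.bijective_of_torsion I 𝔞 M t J₀ htors _ hfs ?_ q hq
  exact Set.Subset.antisymm (fun r hr => ⟨hfV r hr.2 fun g hg => hr.1 (Ideal.subset_span hg), hr.2⟩)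
    fun r hr => ⟨(hfs.trans hle).trans hr.1, hr.2⟩

/-- degree `p + 1` -/
theorem colimBijective [IsAdicComplete I A] (𝔞 : Ideal A) (hI : I ≤ 𝔞) (hω : ∃ ω : Dual.D A, Dual.IsDualizing A ω)
    (d : ℕ) (hd : LocCoh.CdLE A I d) (p : ℕ)
    (h : ∀ r : PrimeSpectrum A, ¬ I ≤ r.asIdeal → (∃ r' : PrimeSpectrum A, r ≤ r' ∧ I ≤ r'.asIdeal ∧ ¬ 𝔞 ≤ r'.asIdeal) →
      ((p + 2 : ℕ) : ℕ∞) ≤ Groth.L04.AlgKill.dep M r ∨ ∀ q : PrimeSpectrum A, r ≤ q → 𝔞 ≤ q.asIdeal → I ≤ q.asIdeal →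
        (((d + (p + 2) : ℕ) : ℕ∞) : WithBot ℕ∞) <
          ((Groth.L04.AlgKill.dep M r : ℕ∞) : WithBot ℕ∞) + Formal2.dimBetween A r.asIdeal q.asIdeal)
    (hPZ : Groth.L29.ProZeroPunct.PZ 𝔞 I M (p + 2)) :
    Formal2.FormalCohColimBijective A I M (p + 1) (LocCoh.puncturedOpen A 𝔞) := by
  obtain ⟨J₀, hle, hJV, hbij⟩ := exists_ideal I M 𝔞 hω d hd (p + 2) h
  refine ⟨fun V hV x hx => ?_, fun y hy => ?_⟩
  · obtain ⟨J₁, rfl⟩ := exists_eq_punctured V
    obtain ⟨fs, hfs⟩ := exists_span_list (J₀ * J₁)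
    have hfs₀ : Ideal.span {x : A | x ∈ fs} ≤ J₀ := hfs.le.trans Ideal.mul_le_left
    have hfV : ∀ q : PrimeSpectrum A, I ≤ q.asIdeal → (∀ g ∈ fs, g ∈ q.asIdeal) → 𝔞 ≤ q.asIdeal := fun q hqI hq => by
      have h1 : J₀ * J₁ ≤ q.asIdeal := hfs ▸ Ideal.span_le.2 hq
      rcases q.2.mul_le.1 h1 with h2 | h2
      · exact hJV q h2 hqI
      · by_contra hqa
        exact hV.2 q hqa hqI h2
    let V' : (Spec (CommRingCat.of A)).Opens := ⨆ j : Fin fs.length, D fs[j]
    have hV' : V' = LocCoh.puncturedOpen A (Ideal.span {x : A | x ∈ fs}) := iSup_D_eq fs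
    have hle₁ : V' ≤ LocCoh.puncturedOpen A J₁ := by
      rw [hV', hfs]
      exact fun r hr hr' => hr (Ideal.mul_le_right.trans hr')
    have hadm : Formal2.Admissible A I (LocCoh.puncturedOpen A 𝔞) V' := by
      refine ⟨hle₁.trans hV.1, fun r hrU hrI => ?_⟩
      rw [hV']
      exact fun hr => hrU (hfV r hrI fun g hg => hr (Ideal.subset_span hg))
    refine ⟨V', ⟨hadm, hle₁⟩, ?_⟩
    refine (rs_eq hle₁ M (p + 1) x).trans (eq_zero_of_levels I M fs rfl p ((p : ℤ) + 2) rfl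
      (hbij fs hfs₀ hfV _ (by omega)).1
      (ML_of_lifts' I M fs rfl p _ rfl
        ((lifts_of_PZ I M 𝔞 p hPZ).restrict I M hadm.1 fun r hr hrI => hadm.2 r hr hrI)) _ fun n => ?_)
    rw [← rs_hm]
    exact (congrArg _ (hx n)).trans (map_zero _)
  · obtain ⟨fs, hfs⟩ := exists_span_list J₀
    have hfV : ∀ q : PrimeSpectrum A, I ≤ q.asIdeal → (∀ g ∈ fs, g ∈ q.asIdeal) → 𝔞 ≤ q.asIdeal := fun q hqI hq =>
      hJV q (hfs ▸ Ideal.span_le.2 hq) hqI
    let V : (Spec (CommRingCat.of A)).Opens := ⨆ j : Fin fs.length, D fs[j]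
    have hV' : V = LocCoh.puncturedOpen A (Ideal.span {x : A | x ∈ fs}) := iSup_D_eq fs
    have hadm : Formal2.Admissible A I (LocCoh.puncturedOpen A 𝔞) V := by
      refine ⟨?_, fun r hrU hrI => ?_⟩
      · rw [hV', hfs]
        exact fun r hr hr' => hr (hle.trans hr')
      · rw [hV']
        exact fun hr => hrU (hfV r hrI fun g hg => hr (Ideal.subset_span hg))
    obtain ⟨x, hx⟩ := exists_of_compat I M fs (V := V) rfl p ((p : ℤ) + 2) rfl (hbij fs hfs.le hfV _ (by omega)).2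
      (fun n => rs hadm.1 _ (p + 1) (y n)) (fun n => by
        rw [← rs_hm]
        exact congrArg _ (hy n))
    exact ⟨V, hadm, x, fun n => (hx n).symm⟩

theorem depth_eq_zero_of_mem (P : Ideal A) [P.IsPrime] (hP : P ∈ associatedPrimes A M) :
    LocCoh.depth (Localization.AtPrime P) (LocalizedModule P.primeCompl M) = 0 := by
  haveI : IsNoetherianRing (Localization.AtPrime P) := IsLocalization.isNoetherianRing P.primeCompl _ inferInstance
  haveI : Module.Finite (Localization.AtPrime P) (LocalizedModule P.primeCompl M) :=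
    Module.Finite.of_isLocalizedModule P.primeCompl (LocalizedModule.mkLinearMap P.primeCompl M)
  exact (Groth.Agent.S5752.result _ _).2
    (Module.associatedPrimes.mem_associatedPrimes_atPrime_of_mem_associatedPrimes hP)

end Groth.L29.ColimDeg
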