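import Groth.Agent.L04.LC.AnnihDuality
import Groth.Agent.L04.LC.LowestDegree
import Groth.Agent.L04.LC.Annihilate
import Groth.Agent.L29.Dual.LocalDualityCor
import Groth.Agent.L29.Formal.ColimDeg

/-!
Local cohomology of `A/fᵐ` at the maximal ideal, from depth conditions, through local duality.
-/

set_option autoImplicit false
set_option backward.isDefEq.respectTransparency false
set_option backward.isDefEq.respectTransparency.types false
set_option linter.style.haveILetI false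

universe u w

open CategoryTheory IsLocalRing

attribute [local instance] HasDerivedCategory.standard

noncomputable section

namespace Groth.L29.DualKill

open Groth.L29 Groth.L29.HomD Groth.L04.AnnihDual

variable {A : Type u} [CommRing A] [IsNoetherianRing A] [IsLocalRing A]

/-- normalized dualizing complex -/
theorem exists_normalized (hω : ∃ ω : Dual.D A, Dual.IsDualizing A ω) :
    ∃ ω : Dual.D A, Dual.IsDualizing A ω ∧ Dual.IsNormalized A ω := by
  obtain ⟨ω, hω⟩ := hω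
  exact ⟨ω⟦-dimFun hω (closedPoint A)⟧, isDualizing_shift hω _,
    Groth.L04.Lowest.isNormalized_shift hω _ (neg_neg _).symm⟩

/-- `Hom(M, ω[-i])` and `Hⁱ_𝔪(M)` have the same annihilator -/
theorem annihilator_H_eq {ω : Dual.D A} (hω : Dual.IsDualizing A ω) (hn : Dual.IsNormalized A ω) (M : Type u)
    [AddCommGroup M] [Module A M] [Module.Finite A M] (i : ℕ) :
    Module.annihilator A (LocCoh.H (maximalIdeal A) i M) = Module.annihilator A (Dual.inD A M ⟶ ω⟦(-(i : ℤ))⟧) := by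
  obtain ⟨E, _, _, f, hf⟩ := Groth.L04.exists_injectiveHull (R := A) (ResidueField A)
  obtain ⟨e⟩ := Groth.L29.LocDual.nonempty_H_equiv hω hn f hf M i
  haveI := finite_hom ω (good_of_isDualizing hω) M (-(i : ℤ))
  exact (Groth.L29.LocDual.annihilator_eq_of_equiv hf e).symm

/-- a finite module killed at every nonmaximal prime is killed by a power of the maximal ideal -/
theorem exists_pow_of_local (X : Type w) [AddCommGroup X] [Module A X] (c : A)
    (h : ∀ p : PrimeSpectrum A, p.asIdeal ≠ maximalIdeal A → ∃ s, s ∉ p.asIdeal ∧ ∀ x : X, s • c • x = 0) :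
    ∃ e : ℕ, ∀ a ∈ maximalIdeal A ^ e, a * c ∈ Module.annihilator A X := by
  let K : Ideal A := (Module.annihilator A X).colon ({c} : Set A)
  have hK : maximalIdeal A ≤ K.radical := by
    rw [Ideal.radical_eq_sInf]
    refine le_sInf fun q ⟨hq, hq'⟩ => ?_
    by_contra hc
    obtain ⟨s, hs, hsx⟩ := h ⟨q, hq'⟩ fun heq => hc (le_of_eq heq.symm)
    refine hs (hq (Submodule.mem_colon.2 fun b hb => ?_))
    rw [Set.mem_singleton_iff.1 hb, smul_eq_mul]
    exact Module.mem_annihilator.2 fun x => by rw [mul_smul]; exact hsx x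
  obtain ⟨e, he⟩ := Ideal.exists_pow_le_of_le_radical_of_fg hK (IsNoetherian.noetherian _)
  exact ⟨e, fun a ha => Submodule.mem_colon.1 (he ha) c rfl⟩

variable {ω : Dual.D A} (hω : Dual.IsDualizing A ω) (hn : Dual.IsNormalized A ω)

include hω hn in
/-- the support of `Hom(M, ω[-j])` -/
theorem depth_add_dim_le (M : Type u) [AddCommGroup M] [Module A M] [Module.Finite A M] (j : ℕ) (p : PrimeSpectrum A)
    (h : p ∈ Module.support A (Dual.inD A M ⟶ ω⟦(-(j : ℤ))⟧)) :
    ((LocCoh.depth (Localization.AtPrime p.asIdeal) (LocalizedModule p.asIdeal.primeCompl M) : ℕ∞) : WithBot ℕ∞) +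
      ringKrullDim (A ⧸ p.asIdeal) ≤ (j : WithBot ℕ∞) := by
  obtain ⟨m, hm, hle⟩ := depth_of_mem_support hω p M _ h
  obtain ⟨e, he⟩ := Groth.L01.exists_dim_eq_nat (R := A ⧸ p.asIdeal)
  rw [dimFun_eq_dim hω hn p e he] at hle
  rw [he, hm]
  exact_mod_cast (show m + e ≤ j by omega)

include hω hn in
/-- `Hⁱ_𝔪(M)` is killed by a power of the maximal ideal if depth + dim exceeds `i` off the maximal ideal -/
theorem exists_pow_kills (M : Type u) [AddCommGroup M] [Module A M] [Module.Finite A M] (i : ℕ)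
    (h : ∀ p : PrimeSpectrum A, p ∈ Module.support A M → p.asIdeal ≠ maximalIdeal A → (i : WithBot ℕ∞) <
      ((LocCoh.depth (Localization.AtPrime p.asIdeal) (LocalizedModule p.asIdeal.primeCompl M) : ℕ∞) : WithBot ℕ∞) +
        ringKrullDim (A ⧸ p.asIdeal)) :
    ∃ e : ℕ, ∀ a ∈ maximalIdeal A ^ e, ∀ x : LocCoh.H (maximalIdeal A) i M, a • x = 0 := by
  haveI := finite_hom ω (good_of_isDualizing hω) M (-(i : ℤ))
  obtain ⟨e, he⟩ := exists_pow_of_local (Dual.inD A M ⟶ ω⟦(-(i : ℤ))⟧) (1 : A) fun (p : PrimeSpectrum A) hp => by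
    have hns : p ∉ Module.support A (Dual.inD A M ⟶ ω⟦(-(i : ℤ))⟧) := fun hs => by
      by_cases hM : p ∈ Module.support A M
      · exact absurd (h p hM hp) (not_lt.2 (depth_add_dim_le hω hn M i p hs))
      · obtain ⟨m, hm, -⟩ := depth_of_mem_support hω p M _ hs
        haveI : Subsingleton (LocalizedModule p.asIdeal.primeCompl M) :=
          Module.notMem_support_iff.1 hM
        rw [LocCoh.depth, Groth.L04.idealDepth_eq_top (Subsingleton.elim _ _)] at hm
        exact ENat.top_ne_coe m hm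
    rw [Module.support_eq_zeroLocus] at hns
    obtain ⟨s, hs, hsp⟩ := Set.not_subset.1 hns
    exact ⟨s, hsp, fun x => by rw [one_smul]; exact Module.mem_annihilator.1 hs x⟩
  exact ⟨e, fun a ha x => Module.mem_annihilator.1 (annihilator_H_eq hω hn M i ▸ mul_one a ▸ he a ha) x⟩

include hω hn in
/-- the torsion of `Hom(A, ω[-j])` near `V(f)` -/
theorem exists_torsion_near (f : A) (j : ℕ) (hj : j ≤ 3)
    (h₆ : ∀ (p : Ideal A) [p.IsPrime], f ∉ p →
      (∃ r : Ideal A, r.IsPrime ∧ p ≤ r ∧ f ∈ r ∧ r ≠ maximalIdeal A) →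
      (3 : WithBot ℕ∞) < ((LocCoh.depth (Localization.AtPrime p) (Localization.AtPrime p) : ℕ∞) : WithBot ℕ∞) +
        ringKrullDim (A ⧸ p)) :
    ∃ c : ℕ, ∀ r : PrimeSpectrum A, f ∈ r.asIdeal → r.asIdeal ≠ maximalIdeal A →
      ∃ s, s ∉ r.asIdeal ∧ ∀ x : Dual.inD A A ⟶ ω⟦(-(j : ℤ))⟧, s • f ^ c • x = 0 := by
  haveI := finite_hom ω (good_of_isDualizing hω) A (-(j : ℤ))
  haveI := isNoetherian_of_isNoetherianRing_of_finite A (Dual.inD A A ⟶ ω⟦(-(j : ℤ))⟧)
  obtain ⟨c, hc⟩ := monotone_stabilizes_iff_noetherian.2 this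
    ⟨fun k => LinearMap.ker (f ^ k • (LinearMap.id : (Dual.inD A A ⟶ ω⟦(-(j : ℤ))⟧) →ₗ[A] _)),
      monotone_nat_of_le_succ fun k x hx => by
        change f ^ k • x = 0 at hx
        change f ^ (k + 1) • x = 0
        rw [pow_succ', mul_smul, hx, smul_zero]⟩
  refine ⟨c, fun r hfr hr => ?_⟩
  by_contra hne
  push Not at hne
  let S : Submonoid A := r.asIdeal.primeCompl ⊔ Submonoid.powers f
  have hdisj : Disjoint ((Module.annihilator A (Dual.inD A A ⟶ ω⟦(-(j : ℤ))⟧) : Ideal A) : Set A) (S : Set A) := by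
    rw [Set.disjoint_left]
    intro a ha haS
    obtain ⟨s, hs, _, ⟨k, rfl⟩, rfl⟩ := Submonoid.mem_sup.1 haS
    obtain ⟨x, hx⟩ := hne s hs
    have h0 : f ^ k • s • x = 0 := by rw [← mul_smul, mul_comm]; exact Module.mem_annihilator.1 ha x
    refine hx ?_
    rw [smul_comm]
    rcases le_total k c with h | h
    · obtain ⟨d, rfl⟩ := Nat.exists_eq_add_of_le h
      rw [add_comm, pow_add, mul_smul, h0, smul_zero]
    · exact (SetLike.ext_iff.1 (hc k h) (s • x)).2 h0
  obtain ⟨p, hp, hannp, hpS⟩ := Ideal.exists_le_prime_disjoint _ S hdisj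
  have hpr : p ≤ r.asIdeal := fun a ha => by_contra fun har =>
    Set.disjoint_left.1 hpS ha (Submonoid.mem_sup_left (show a ∈ r.asIdeal.primeCompl from har))
  have hfp : f ∉ p := fun hfp =>
    Set.disjoint_left.1 hpS hfp (Submonoid.mem_sup_right (Submonoid.mem_powers f))
  have hs : (⟨p, hp⟩ : PrimeSpectrum A) ∈ Module.support A (Dual.inD A A ⟶ ω⟦(-(j : ℤ))⟧) := by
    rw [Module.support_eq_zeroLocus]
    exact hannp
  have h1 := depth_add_dim_le hω hn A j ⟨p, hp⟩ hs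
  have h2 := h₆ p hfp ⟨r.asIdeal, r.2, hpr, hfr, hr⟩
  have h3 : ((j : ℕ) : WithBot ℕ∞) ≤ (3 : WithBot ℕ∞) := by exact_mod_cast hj
  exact absurd ((h2.trans_le h1).trans_le h3) (lt_irrefl _)

include hω hn in
/-- `f^(2c) H²_𝔪(A/f^(2c+1))` is killed by a power of the maximal ideal -/
theorem exists_kills_level (f : A) (hf : f ∈ nonZeroDivisors A)
    (h₆ : ∀ (p : Ideal A) [p.IsPrime], f ∉ p →
      (∃ r : Ideal A, r.IsPrime ∧ p ≤ r ∧ f ∈ r ∧ r ≠ maximalIdeal A) →
      (3 : WithBot ℕ∞) < ((LocCoh.depth (Localization.AtPrime p) (Localization.AtPrime p) : ℕ∞) : WithBot ℕ∞) +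
        ringKrullDim (A ⧸ p)) :
    ∃ M e : ℕ, 0 < M ∧ ∀ a ∈ maximalIdeal A ^ e, ∀ x : LocCoh.H (maximalIdeal A) 2 (A ⧸ Ideal.span {f ^ (M + 1)}),
      a • f ^ M • x = 0 := by
  obtain ⟨c₂, hc₂⟩ := exists_torsion_near hω hn f 2 (by omega) h₆
  obtain ⟨c₃, hc₃⟩ := exists_torsion_near hω hn f 3 le_rfl h₆
  let M := c₂ + c₃ + 1
  let I : Ideal A := Ideal.span {f ^ (M + 1)}
  let μ : A →ₗ[A] A := f ^ (M + 1) • LinearMap.id
  have hμ : Function.Injective μ := (injective_iff_map_eq_zero _).2 fun x hx =>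
    (mul_right_mem_nonZeroDivisors_eq_zero_iff (pow_mem hf (M + 1))).1 (by rw [mul_comm]; exact hx)
  have hex : Function.Exact μ (Ideal.Quotient.mkₐ A I).toLinearMap := fun x => by
    refine ⟨fun hx => ?_, ?_⟩
    · obtain ⟨b, hb⟩ := Ideal.mem_span_singleton'.1 (Ideal.Quotient.eq_zero_iff_mem.1 hx)
      exact ⟨b, by rw [← hb]; exact mul_comm _ _⟩
    · rintro ⟨b, rfl⟩
      exact Ideal.Quotient.eq_zero_iff_mem.2 (Ideal.mem_span_singleton'.2 ⟨b, mul_comm _ _⟩)
  have hg : Function.Surjective (Ideal.Quotient.mkₐ A I).toLinearMap := Ideal.Quotient.mk_surjective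
  have hloc : ∀ p : PrimeSpectrum A, p.asIdeal ≠ maximalIdeal A → ∃ s, s ∉ p.asIdeal ∧
      ∀ x : Dual.inD A (A ⧸ I) ⟶ ω⟦(-((3 : ℕ) : ℤ)) + 1⟧, s • f ^ M • x = 0 := by
    intro p hp
    by_cases hfp : f ∈ p.asIdeal
    · obtain ⟨s₂, hs₂, h2⟩ := hc₂ p hfp hp
      obtain ⟨s₃, hs₃, h3⟩ := hc₃ p hfp hp
      refine ⟨s₂ * s₃, fun h => (p.2.mem_or_mem h).elim hs₂ hs₃, fun x => ?_⟩
      have h0 : pre ω (Ideal.Quotient.mkₐ A I).toLinearMap (-((3 : ℕ) : ℤ) + 1) ((s₂ * f ^ c₂) • x) = 0 := by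
        rw [map_smul, mul_smul]
        exact h2 _
      obtain ⟨y, hy⟩ := (exact_right ω μ _ hμ hg hex (-((3 : ℕ) : ℤ)) _).1 h0
      have h4 : (s₃ * f ^ c₃) • (s₂ * f ^ c₂) • x = 0 := by
        rw [← hy, ← map_smul, mul_smul, h3, map_zero]
      have h5 := congrArg (f • ·) h4
      simp only [smul_smul, smul_zero] at h5
      rw [smul_smul, show s₂ * s₃ * f ^ M = f * (s₃ * f ^ c₃ * (s₂ * f ^ c₂)) by
        rw [show M = c₂ + c₃ + 1 from rfl, pow_succ, pow_add]; ring]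
      simpa [mul_assoc] using h5
    · refine ⟨f, hfp, fun x => ?_⟩
      rw [smul_smul, ← pow_succ']
      have : (f ^ (M + 1) • (LinearMap.id : (A ⧸ I) →ₗ[A] A ⧸ I)) = 0 := LinearMap.ext fun z => by
        obtain ⟨b, rfl⟩ := Ideal.Quotient.mk_surjective z
        exact Ideal.Quotient.eq_zero_iff_mem.2 (Ideal.mul_mem_right b I (Ideal.mem_span_singleton_self _))
      calc f ^ (M + 1) • x = pre ω (f ^ (M + 1) • (LinearMap.id : (A ⧸ I) →ₗ[A] A ⧸ I)) _ x := by
            rw [pre_smul, pre_id]; rfl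
        _ = 0 := by rw [this, pre_zero]; rfl
  obtain ⟨e, he⟩ := exists_pow_of_local _ (f ^ M) hloc
  refine ⟨M, e, Nat.succ_pos _, fun a ha x => ?_⟩
  have h : a * f ^ M ∈ Module.annihilator A (Dual.inD A (A ⧸ I) ⟶ ω⟦(-((2 : ℕ) : ℤ))⟧) := by
    rw [show (-((2 : ℕ) : ℤ)) = -((3 : ℕ) : ℤ) + 1 by norm_num]
    exact he a ha
  rw [← annihilator_H_eq hω hn (A ⧸ I) 2] at h
  rw [← mul_smul]
  exact Module.mem_annihilator.1 h x

end Groth.L29.DualKill
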