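import Groth.Agent.L29.Formal.Regular
import Groth.Agent.L29.Formal.PuncLocFree
import Groth.Agent.L12.DefoSh.Trivial
import Groth.Agent.L17.IdealMulExtend
import Groth.Agent.L16.Exist.Systems
import Groth.Agent.L05.OmegaRank.Free
import Mathlib.CategoryTheory.Abelian.Refinements

/-!
Formal modules along a nonzerodivisor, locally free over the thickenings: the multiplication maps between levels.
-/

set_option autoImplicit false
set_option backward.isDefEq.respectTransparency false
set_option backward.isDefEq.respectTransparency.types false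
set_option linter.style.haveILetI false

universe u

open CategoryTheory CategoryTheory.Limits AlgebraicGeometry TopologicalSpace Opposite

noncomputable section

namespace Groth.L29.FreeLevels

open _root_.Formal (smulMod smulFamily modPow modPowπ)
open Groth.L16 Groth.L16.Rees
open Groth.L16.Existence (tr)

section Gen

variable {A : Type u} [CommRing A] {X : Scheme.{u}} [X.Over (Spec (CommRingCat.of A))] (f : A)


/-- on `P/f^(k+l)P` with `f` regular on `P`: the kernel of `f^l` is the image of `f^k` -/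
theorem exists_refine_free (P : X.Modules) [Mono (smulMod A P f)] (k l : ℕ) {T : X.Modules}
    (z : T ⟶ modPow (Ideal.span {f}) (k + l) P) (hz : z ≫ smulMod A _ (f ^ l) = 0) :
    ∃ (T' : X.Modules) (p : T' ⟶ T) (_ : Epi p) (w : T' ⟶ modPow (Ideal.span {f}) (k + l) P),
      p ≫ z = w ≫ smulMod A _ (f ^ k) := by
  haveI : Epi (modPowπ (Ideal.span {f}) (k + l) P) := Existence.epi_modPowπ _ _ _
  obtain ⟨T₁, p, hp, y, hy⟩ := surjective_up_to_refinements_of_epi (modPowπ (Ideal.span {f}) (k + l) P) z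
  have h0 : (y ≫ smulMod A P (f ^ l)) ≫ modPowπ (Ideal.span {f}) (k + l) P = 0 := by
    rw [Category.assoc, smulMod_naturality, ← reassoc_of% hy, hz, comp_zero]
  obtain ⟨T₂, q, hq, w, hw⟩ :=
    (FormalReg.seq_shortExact P f inferInstance (k + l)).exact.exact_up_to_refinements _ h0
  haveI := FormalReg.mono_pow P f inferInstance l
  have h1 : q ≫ y = w ≫ smulMod A P (f ^ k) := by
    rw [← cancel_mono (smulMod A P (f ^ l)), Category.assoc, Category.assoc, hw]
    change w ≫ smulMod A P (f ^ (k + l)) = _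
    rw [← smulMod_mul, ← pow_add, add_comm l k]
  refine ⟨T₂, q ≫ p, epi_comp _ _, w ≫ modPowπ (Ideal.span {f}) (k + l) P, ?_⟩
  rw [Category.assoc, hy, reassoc_of% h1, smulMod_naturality, Category.assoc]

variable {G : ℕᵒᵖ ⥤ X.Modules} (hG : _root_.Formal.IsCohFormal (Ideal.span {f}) G)

include hG in
theorem exists_e (n : ℕ) : ∃ e : G.obj (op n) ⟶ G.obj (op (n + 1)),
    tr G n (n + 1) (Nat.le_succ n) ≫ e = smulMod A (G.obj (op (n + 1))) f := by
  exact Existence.exists_desc hG (Nat.le_succ n) (smulMod A (G.obj (op (n + 1))) f) fun b hb => by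
    rw [← smulMod_mul]
    exact hG.2.1 (n + 1) (f * b) (by
      rw [pow_succ']
      exact Ideal.mul_mem_mul (Ideal.mem_span_singleton_self f) hb)

include hG in
/-- `f` regularity of the system, reduced to the kernel statement -/
theorem mono_e (n : ℕ) (h : kernel.ι (smulMod A (G.obj (op (n + 1))) f) ≫ tr G n (n + 1) (Nat.le_succ n) = 0)
    (e : G.obj (op n) ⟶ G.obj (op (n + 1))) (he : tr G n (n + 1) (Nat.le_succ n) ≫ e = smulMod A (G.obj (op (n + 1))) f) :
    Mono e := by
  haveI := Existence.epi_tr hG (Nat.le_succ n)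
  refine Preadditive.mono_of_cancel_zero _ fun {T} z hz => ?_
  obtain ⟨T', p, hp, y, hy⟩ := surjective_up_to_refinements_of_epi (tr G n (n + 1) (Nat.le_succ n)) z
  have h1 : y ≫ smulMod A (G.obj (op (n + 1))) f = 0 := by rw [← he, ← reassoc_of% hy, hz, comp_zero]
  rw [← cancel_epi p, comp_zero, hy, ← kernel.lift_ι _ y h1, Category.assoc, h, comp_zero]

end Gen

section Open

variable {A : Type u} [CommRing A] [IsNoetherianRing A] (U : (Spec (CommRingCat.of A)).Opens) (f : A)


omit [IsNoetherianRing A] in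
theorem mono_smul_free (hf : f ∈ nonZeroDivisors A) (r : ℕ) :
    Mono (smulMod A (FlatMod.freeMod (U : Scheme.{u}) r) f) := by
  let N := ModuleCat.of A (ULift.{u} (Fin r) →₀ A)
  haveI : PreservesFiniteLimits (tilde.functor (CommRingCat.of A)) := Groth.L18.TildeF.tilde_preservesFiniteLimits
  haveI : Mono (Groth.L29.Formal.sc f N) := (ModuleCat.mono_iff_injective _).2 ((injective_iff_map_eq_zero _).2
    fun z hz => Finsupp.ext fun i => (mul_right_mem_nonZeroDivisors_eq_zero_iff hf).1
      (by rw [mul_comm]; exact DFunLike.congr_fun hz i))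
  let e : Groth.L04.PunctLin.tM U N ≅ FlatMod.freeMod (U : Scheme.{u}) r :=
    (Scheme.Modules.restrictFunctor U.ι).mapIso (Groth.L05.OmegaRank.tildeFreeIso (R := CommRingCat.of A) r) ≪≫
      Groth.L16.NegPow.freeRestrictIso U r
  haveI : Mono (smulMod A (Groth.L04.PunctLin.tM U N) f) := by
    rw [Groth.L29.Formal.smulMod_tM]
    change Mono ((Scheme.Modules.restrictFunctor U.ι).map ((tilde.functor (CommRingCat.of A)).map (Groth.L29.Formal.sc f N)))
    infer_instance
  have : smulMod A (FlatMod.freeMod (U : Scheme.{u}) r) f = e.inv ≫ smulMod A (Groth.L04.PunctLin.tM U N) f ≫ e.hom := by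
    rw [smulMod_naturality, e.inv_hom_id_assoc]
  rw [this]
  infer_instance

variable {G : ℕᵒᵖ ⥤ (U : Scheme.{u}).Modules} (hG : _root_.Formal.IsCohFormal (Ideal.span {f}) G)
  (hfree : ∀ n : ℕ, Formal2.IsFinLocFreeMod (Ideal.span {f}) (n + 1) (G.obj (op n))) (hf : f ∈ nonZeroDivisors A)

include hG hfree hf in
theorem ker_tr (n : ℕ) :
    kernel.ι (smulMod A (G.obj (op (n + 1))) f) ≫ tr G n (n + 1) (Nat.le_succ n) = 0 := by
  let M := G.obj (op (n + 1))
  have hh : ∀ x, ∃ (V : (U : Scheme.{u}).Opens) (r : ℕ), x ∈ V ∧ Nonempty _ := hfree (n + 1)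
  choose V r hxV e using hh
  obtain ⟨h0, hiso⟩ := hG.2.2 n
  suffices h : kernel.ι (smulMod A M f) ≫ modPowπ (Ideal.span {f}) (n + 1) M = 0 by
    rw [show tr G n (n + 1) (Nat.le_succ n) = modPowπ (Ideal.span {f}) (n + 1) _ ≫ cokernel.desc _ _ h0 from
      (cokernel.π_desc _ _ h0).symm, reassoc_of% h, zero_comp]
  refine Exist.hom_eq_zero_of_cover _ V (fun x => ⟨x, hxV x⟩) fun x W _ hW m => ?_
  refine Groth.L17.IdealMulExtend.app_eq_zero_of_restrict _ ?_ hW m
  obtain ⟨φ⟩ := e x
  let R := Scheme.Modules.restrictFunctor (V x).ι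
  haveI : PreservesFiniteLimits R :=
    haveI := Groth.L17.CxTools.preservesFiniteLimits_pullback (V x).ι
    preservesFiniteLimits_of_natIso (Scheme.Modules.restrictFunctorIsoPullback (V x).ι).symm
  haveI : R.IsLeftAdjoint := (Scheme.Modules.restrictAdjunction (V x).ι).isLeftAdjoint
  haveI := mono_smul_free U f hf (r x)
  let Q := modPow (Ideal.span {f}) (n + 1 + 1) (FlatMod.freeMod (U : Scheme.{u}) (r x))
  have hc : smulMod A Q (f ^ (n + 1)) ≫ smulMod A Q (f ^ 1) = 0 := by
    rw [← smulMod_mul]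
    refine Existence.smulMod_modPow_eq_zero _ _ ?_
    rw [← pow_add, show 1 + (n + 1) = n + 1 + 1 by omega]
    exact Ideal.pow_mem_pow (Ideal.mem_span_singleton_self f) _
  let S := ShortComplex.mk _ _ hc
  have hS : S.Exact := (ShortComplex.exact_iff_exact_up_to_refinements S).2 fun T z hz =>
    exists_refine_free f (FlatMod.freeMod (U : Scheme.{u}) (r x)) (n + 1) 1 z hz
  haveI : R.Additive := (Scheme.Modules.restrictAdjunction (V x).ι).left_adjoint_additive
  have hc' : R.map (smulMod A M f) ≫ φ.hom = φ.hom ≫ R.map (smulMod A Q (f ^ 1)) := by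
    rw [pow_one]
    exact (Groth.L12.DefoSh.restrict_comp_smulModΓ φ.hom _).symm
  have hc'' : R.map (smulMod A M (f ^ (n + 1))) ≫ φ.hom = φ.hom ≫ R.map (smulMod A Q (f ^ (n + 1))) :=
    (Groth.L12.DefoSh.restrict_comp_smulModΓ φ.hom _).symm
  have hu : (R.map (kernel.ι (smulMod A M f)) ≫ φ.hom) ≫ R.map (smulMod A Q (f ^ 1)) = 0 := by
    rw [Category.assoc, ← hc', ← R.map_comp_assoc, kernel.condition, Functor.map_zero, zero_comp]
  obtain ⟨T, p, hp, w, hw⟩ := (hS.map R).exact_up_to_refinements _ hu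
  change p ≫ _ = w ≫ R.map (smulMod A Q (f ^ (n + 1))) at hw
  have h2 : p ≫ R.map (kernel.ι (smulMod A M f)) = (w ≫ φ.inv) ≫ R.map (smulMod A M (f ^ (n + 1))) := by
    rw [← cancel_mono φ.hom, Category.assoc, hw, Category.assoc, Category.assoc, hc'', φ.inv_hom_id_assoc]
  rw [← cancel_epi p, comp_zero, R.map_comp, reassoc_of% h2, ← R.map_comp, FormalReg.smulMod_π, R.map_zero]
  simp

end Open

end Groth.L29.FreeLevels
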