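import Groth.Agent.L29.Formal.Bridge
import Groth.Agent.L29.Formal.FreeLevels
import Groth.Agent.L12.ZarPair.Sheaf
import Groth.Agent.L16.Exist.Kernel
import Groth.Agent.L04.LC.Annihilate

/-!
Finiteness of `H⁰` and `H¹` of a finite locally free sheaf on the thickening of a punctured open.
-/

set_option autoImplicit false
set_option backward.isDefEq.respectTransparency false
set_option backward.isDefEq.respectTransparency.types false
set_option linter.style.haveILetI false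

universe u

open CategoryTheory CategoryTheory.Limits AlgebraicGeometry TopologicalSpace Opposite

noncomputable section

namespace Groth.L29.FreeLevels

open _root_.Formal (modPow modPowπ)
open Groth.L12.ZarPair (modOn adjOn exists_pow_smul_mem_range exists_pow_smul_eq_zero_of_map exists_uniform_pow mono_modOn epi_modOn)
open Groth.L04.PunctLin (tM)

variable {A : Type u} [CommRing A] [IsNoetherianRing A]

/-- the free module -/
abbrev FreeM (A : Type u) [CommRing A] (r : ℕ) : Type u := ULift.{u} (Fin r) →₀ A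

theorem compl_D (g : A) :
    ((((Groth.L29.CechSect.D g : (Spec (CommRingCat.of A)).Opens) : Set (Spec (CommRingCat.of A))))ᶜ : Set (PrimeSpectrum A)) =
      PrimeSpectrum.zeroLocus ((Ideal.span {g} : Ideal A) : Set A) := by
  rw [PrimeSpectrum.zeroLocus_span]
  ext x
  change ¬ (x ∈ PrimeSpectrum.basicOpen g) ↔ _
  simp [PrimeSpectrum.mem_zeroLocus]

/-- powers of `g` are invertible on `D g` -/
theorem isIso_sc (g : A) (e : ℕ) (Q : ModuleCat.{u} A) :
    IsIso ((modOn (Groth.L29.CechSect.D g)).map (Groth.L29.Formal.sc (g ^ e) Q)) := by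
  haveI : Mono ((modOn (Groth.L29.CechSect.D g)).map (Groth.L29.Formal.sc (g ^ e) Q)) :=
    mono_modOn (compl_D g) _ fun x hx => ⟨e, fun a ha => by
      rw [Ideal.span_singleton_pow, Ideal.mem_span_singleton'] at ha
      obtain ⟨d, rfl⟩ := ha
      rw [mul_smul, show g ^ e • x = 0 from hx, smul_zero]⟩
  haveI : Epi ((modOn (Groth.L29.CechSect.D g)).map (Groth.L29.Formal.sc (g ^ e) Q)) :=
    epi_modOn (compl_D g) _ fun y => ⟨e, fun a ha => by
      rw [Ideal.span_singleton_pow, Ideal.mem_span_singleton'] at ha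
      obtain ⟨d, rfl⟩ := ha
      exact ⟨d • y, by rw [mul_comm, mul_smul]; rfl⟩⟩
  exact isIso_of_mono_of_epi _

/-- a map which is invertible on `D g` has an inverse up to a power of `g` -/
theorem exists_inverse (g : A) {Q N : ModuleCat.{u} A} [Module.Finite A Q] [Module.Finite A N] (v : Q ⟶ N)
    [IsIso ((modOn (Groth.L29.CechSect.D g)).map v)] :
    ∃ (K : ℕ) (u : N →ₗ[A] Q), ∀ m, v.hom (u m) = g ^ K • m := by
  classical
  have h𝔞 := compl_D g
  have hmem : ∀ {c : ℕ}, g ^ c ∈ Ideal.span ({g} : Set A) ^ c := fun {c} =>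
    Ideal.pow_mem_pow (Ideal.mem_span_singleton_self g) c
  haveI : IsNoetherian A Q := isNoetherian_of_isNoetherianRing_of_finite A Q
  haveI : Module.Finite A (LinearMap.ker v.hom) := Module.IsNoetherian.finite _ _
  obtain ⟨k₁, hk₁⟩ := exists_uniform_pow (⊥ : Submodule A (LinearMap.ker v.hom)) fun x => by
    obtain ⟨d, hd⟩ := exists_pow_smul_eq_zero_of_map h𝔞 v x.1 x.2
    exact ⟨d, fun a ha => (Submodule.mem_bot A).2 (Subtype.ext (hd a ha))⟩
  obtain ⟨k₂, hk₂⟩ := exists_uniform_pow (LinearMap.range v.hom) fun y => exists_pow_smul_mem_range h𝔞 v y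
  have hker : ∀ x, v.hom x = 0 → g ^ k₁ • x = 0 := fun x hx =>
    congrArg Subtype.val ((Submodule.mem_bot A).1 (hk₁ (Submodule.smul_mem_smul hmem
      (trivial : (⟨x, hx⟩ : LinearMap.ker v.hom) ∈ ⊤))))
  choose p hp using fun m : N => hk₂ (Submodule.smul_mem_smul (hmem (c := k₂)) (trivial : m ∈ ⊤))
  have huniq : ∀ m x, v.hom x = g ^ k₂ • m → g ^ k₁ • x = g ^ k₁ • p m := fun m x hx =>
    sub_eq_zero.1 (by rw [← smul_sub]; exact hker _ (by rw [map_sub, hx, hp, sub_self]))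
  let u : N →ₗ[A] Q :=
    { toFun := fun m => g ^ k₁ • p m
      map_add' := fun m m' => by
        rw [← smul_add]
        exact (huniq _ _ (by rw [map_add, hp, hp, smul_add])).symm
      map_smul' := fun a m => by
        rw [RingHom.id_apply, smul_comm a]
        exact (huniq _ _ (by rw [map_smul, hp, smul_comm])).symm }
  refine ⟨k₁ + k₂, u, fun m => ?_⟩
  change v.hom (g ^ k₁ • p m) = _
  rw [map_smul, hp, pow_add, mul_smul]

omit [IsNoetherianRing A] in
/-- lift a map out of `(A/I)^r`, after multiplying by a power of `g` -/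
theorem exists_lift_quot {r : ℕ} (S : Finset A) (g : A) {N P : ModuleCat.{u} A} (η : N ⟶ P)
    (ε' : ModuleCat.of A (Formal2.quotPow A (Ideal.span (S : Set A)) (FreeM A r) 0) ⟶ P) (n : ULift.{u} (Fin r) → N)
    (B C : ℕ) (hn : ∀ i, η.hom (n i) = g ^ B • ε'.hom (Submodule.Quotient.mk (Finsupp.single i (1 : A))))
    (hc : ∀ a ∈ S, ∀ i, g ^ C • a • n i = 0) :
    ∃ v : ModuleCat.of A (Formal2.quotPow A (Ideal.span (S : Set A)) (FreeM A r) 0) ⟶ N,
      v ≫ η = Groth.L29.Formal.sc (g ^ (C + B)) _ ≫ ε' := by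
  let L : FreeM A r →ₗ[A] N := g ^ C • Finsupp.linearCombination A n
  have hgen : ∀ a ∈ S, ∀ m, a • L m = 0 := fun a ha m => by
    induction m using Finsupp.induction_linear with
    | zero => simp
    | add p q hp hq => rw [map_add, smul_add, hp, hq, add_zero]
    | single i x =>
      rw [LinearMap.smul_apply, Finsupp.linearCombination_single, smul_comm a, smul_comm a, smul_comm (g ^ C),
        hc a ha i, smul_zero]
  have hL : Ideal.span (S : Set A) ^ (0 + 1) • (⊤ : Submodule A (FreeM A r)) ≤ LinearMap.ker L := by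
    rw [zero_add, pow_one]
    refine Submodule.smul_le.2 fun a ha m _ => ?_
    rw [LinearMap.mem_ker, map_smul]
    induction ha using Submodule.span_induction with
    | mem a ha => exact hgen a ha m
    | zero => simp
    | add p q _ _ hp hq => rw [add_smul, hp, hq, add_zero]
    | smul p q _ hq => rw [smul_eq_mul, mul_smul, hq, smul_zero]
  refine ⟨ModuleCat.ofHom ((Ideal.span (S : Set A) ^ (0 + 1) • (⊤ : Submodule A (FreeM A r))).liftQ L hL),
    ModuleCat.hom_ext (Submodule.linearMap_qext _ (Finsupp.lhom_ext' fun i => LinearMap.ext_ring ?_))⟩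
  change η.hom (g ^ C • Finsupp.linearCombination A n (Finsupp.single i (1 : A))) =
    ε'.hom (g ^ (C + B) • Submodule.Quotient.mk (Finsupp.single i (1 : A)))
  rw [Finsupp.linearCombination_single, one_smul, map_smul, hn, map_smul, smul_smul, ← pow_add]

/-- an isomorphism on a basic open, up to powers, through `(A/I)^r` -/
theorem exists_factor (g : A) (I : Ideal A) (N : ModuleCat.{u} A) [Module.Finite A N] (r : ℕ)
    (hIn : ∀ a ∈ I, ∀ m : N, ∃ c : ℕ, ∀ x ∈ Ideal.span ({g} : Set A) ^ c, x • a • m = 0)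
    (ε : (modOn (Groth.L29.CechSect.D g)).obj (ModuleCat.of A (Formal2.quotPow A I (FreeM A r) 0)) ≅
      (modOn (Groth.L29.CechSect.D g)).obj N) :
    ∃ (K : ℕ) (u : N →ₗ[A] Formal2.quotPow A I (FreeM A r) 0) (v : Formal2.quotPow A I (FreeM A r) 0 →ₗ[A] N),
      ∀ m, v (u m) = g ^ K • m := by
  classical
  let O := Groth.L29.CechSect.D g
  let T := modOn O
  let Q := ModuleCat.of A (Formal2.quotPow A I (FreeM A r) 0)
  have h𝔞 := compl_D g
  haveI hqc : ∀ M : ModuleCat.{u} A, IsIso ((adjOn O).counit.app (T.obj M)) := fun M => by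
    have hQ : Coh.IsQCoh (T.obj M) := Groth.L03.QcOpenExtend.isQCoh_restrict_tilde (A := CommRingCat.of A) O M
    have h1 := Groth.L12.Algz.isIso_fromTildeΓ_push O (T.obj M) hQ
    haveI h2 : IsIso ((Groth.L12.Algz.tilAdj A).counit.app ((Scheme.Modules.pushforward O.ι).obj (T.obj M))) := h1
    rw [Adjunction.comp_counit_app]
    infer_instance
  let η := (adjOn O).unit.app N
  haveI : IsIso (T.map η) := IsIso.of_isIso_fac_right ((adjOn O).left_triangle_components N)
  let ε' := (adjOn O).homEquiv Q (T.obj N) ε.hom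
  haveI : IsIso (T.map ε') := by
    have he : T.map ε' ≫ (adjOn O).counit.app (T.obj N) = ε.hom :=
      ((adjOn O).homEquiv_counit Q (T.obj N) ε').symm.trans (((adjOn O).homEquiv Q (T.obj N)).symm_apply_apply ε.hom)
    haveI : IsIso (T.map ε' ≫ (adjOn O).counit.app (T.obj N)) := he ▸ inferInstanceAs (IsIso ε.hom)
    exact IsIso.of_isIso_comp_right _ ((adjOn O).counit.app (T.obj N))
  have hmem : ∀ {c : ℕ}, g ^ c ∈ Ideal.span ({g} : Set A) ^ c := fun {c} =>
    Ideal.pow_mem_pow (Ideal.mem_span_singleton_self g) c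
  choose b hb using fun i : ULift.{u} (Fin r) =>
    exists_pow_smul_mem_range h𝔞 η (ε'.hom (Submodule.Quotient.mk (Finsupp.single i (1 : A))))
  let B := Finset.univ.sup b
  have hn : ∀ i, ∃ m : N, η.hom m = g ^ B • ε'.hom (Submodule.Quotient.mk (Finsupp.single i (1 : A))) := fun i => by
    obtain ⟨m, hm⟩ := hb i _ (Ideal.pow_le_pow_right (Finset.le_sup (f := b) (Finset.mem_univ i)) hmem)
    exact ⟨m, hm⟩
  choose n hn using hn
  obtain ⟨S, hS⟩ := (isNoetherianRing_iff_ideal_fg A).1 inferInstance I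
  subst hS
  choose c hc using fun p : S × ULift.{u} (Fin r) => hIn p.1 (Ideal.subset_span p.1.2) (n p.2)
  let C := Finset.univ.sup c
  obtain ⟨v, hv⟩ := exists_lift_quot S g η ε' n B C hn fun a ha i =>
    hc (⟨a, ha⟩, i) _ (Ideal.pow_le_pow_right (Finset.le_sup (f := c) (Finset.mem_univ _)) hmem)
  haveI : IsIso (T.map (Groth.L29.Formal.sc (g ^ (C + B)) Q)) := isIso_sc g (C + B) Q
  haveI : IsIso (T.map v) := by
    haveI : IsIso (T.map v ≫ T.map η) := by
      rw [← T.map_comp, hv, T.map_comp]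
      infer_instance
    exact IsIso.of_isIso_comp_right _ (T.map η)
  obtain ⟨K, u, hu⟩ := exists_inverse (N := N) g v
  exact ⟨K, u, v.hom, hu⟩

open Groth.L04.LC in
/-- annihilation through the local factorisations -/
theorem exists_killed_set (𝔞 I : Ideal A) (N : ModuleCat.{u} A) (i : ℕ) (S : Set A)
    (hA : ∀ a ∈ S, ∀ x : LocCoh.H 𝔞 i (Formal2.quotPow A I A 0), a • x = 0)
    (hloc : ∀ p : PrimeSpectrum A, ¬ 𝔞 ≤ p.asIdeal → ∃ g : A, g ∉ p.asIdeal ∧
      ∃ (r K : ℕ) (u : N →ₗ[A] Formal2.quotPow A I (FreeM A r) 0) (v : Formal2.quotPow A I (FreeM A r) 0 →ₗ[A] N),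
        ∀ m, v (u m) = g ^ K • m) :
    ∃ m : ℕ, ∀ b ∈ 𝔞 ^ m, ∀ a ∈ S, ∀ x : LocCoh.H 𝔞 i N, (b * a) • x = 0 := by
  classical
  let K : Ideal A := (Module.annihilator A (LocCoh.H 𝔞 i N)).colon S
  have hQ : ∀ r, ∀ a ∈ S, ∀ x : LocCoh.H 𝔞 i (Formal2.quotPow A I (FreeM A r) 0), a • x = 0 := by
    intro r a ha x
    have hle : ∀ j : ULift.{u} (Fin r), I ^ (0 + 1) • (⊤ : Submodule A (FreeM A r)) ≤
        (I ^ (0 + 1) • (⊤ : Submodule A A)).comap (Finsupp.lapply j) := fun j =>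
      Submodule.smul_le.2 fun b hb y _ => by
        rw [Submodule.mem_comap, map_smul]
        exact Submodule.smul_mem_smul hb trivial
    have hle' : ∀ j : ULift.{u} (Fin r), I ^ (0 + 1) • (⊤ : Submodule A A) ≤
        (I ^ (0 + 1) • (⊤ : Submodule A (FreeM A r))).comap (Finsupp.lsingle j) := fun j =>
      Submodule.smul_le.2 fun b hb y _ => by
        rw [Submodule.mem_comap, map_smul]
        exact Submodule.smul_mem_smul hb trivial
    have hid : (LinearMap.id : Formal2.quotPow A I (FreeM A r) 0 →ₗ[A] _) =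
        ∑ j, (Submodule.mapQ _ _ (Finsupp.lsingle j) (hle' j)).comp (Submodule.mapQ _ _ (Finsupp.lapply j) (hle j)) := by
      refine Submodule.linearMap_qext _ (LinearMap.ext fun v => ?_)
      simp only [LinearMap.comp_apply, LinearMap.coe_sum, Finset.sum_apply, LinearMap.id_apply, Submodule.mkQ_apply,
        Submodule.mapQ_apply, Finsupp.lapply_apply, Finsupp.lsingle_apply]
      exact (congrArg (Submodule.mkQ _) (Finsupp.univ_sum_single v).symm).trans (map_sum _ _ _)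
    have hx : ((localCohomology 𝔞 i).map (ModuleCat.ofHom
        (LinearMap.id : Formal2.quotPow A I (FreeM A r) 0 →ₗ[A] _))).hom x = x := by
      rw [ModuleCat.ofHom_id, CategoryTheory.Functor.map_id]
      rfl
    rw [← hx, hid, H_map_sum, Finset.smul_sum]
    refine Finset.sum_eq_zero fun j _ => ?_
    rw [← map_comp_apply, ← map_smul, hA a ha, map_zero]
  have hK : 𝔞 ≤ K.radical := by
    rw [Ideal.radical_eq_sInf]
    refine le_sInf fun q ⟨hq, hq'⟩ => ?_
    by_contra hc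
    obtain ⟨g, hg, r, k, u, v, huv⟩ := hloc ⟨q, hq'⟩ hc
    refine hg (hq'.mem_of_pow_mem k (hq (Submodule.mem_colon.2 fun a ha => Module.mem_annihilator.2 fun x => ?_)))
    rw [smul_eq_mul, mul_comm]
    exact smul_H_eq_zero_of_factor 𝔞 i u v (LinearMap.ext huv) (hQ r a ha) x
  obtain ⟨l, hl⟩ := Ideal.exists_pow_le_of_le_radical_of_fg hK (IsNoetherian.noetherian _)
  exact ⟨l, fun b hb a ha => Module.mem_annihilator.1 (Submodule.mem_colon.1 (hl hb) a ha)⟩

open Groth.L04.LC in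
/-- annihilation by a power of the ideal -/
theorem exists_killed (𝔞 I : Ideal A) (N : ModuleCat.{u} A) (i n : ℕ)
    (hA : ∀ a ∈ 𝔞 ^ n, ∀ x : LocCoh.H 𝔞 i (Formal2.quotPow A I A 0), a • x = 0)
    (hloc : ∀ p : PrimeSpectrum A, ¬ 𝔞 ≤ p.asIdeal → ∃ g : A, g ∉ p.asIdeal ∧
      ∃ (r K : ℕ) (u : N →ₗ[A] Formal2.quotPow A I (FreeM A r) 0) (v : Formal2.quotPow A I (FreeM A r) 0 →ₗ[A] N),
        ∀ m, v (u m) = g ^ K • m) :
    ∃ m : ℕ, ∀ a ∈ 𝔞 ^ m, ∀ x : LocCoh.H 𝔞 i N, a • x = 0 := by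
  obtain ⟨l, hl⟩ := exists_killed_set 𝔞 I N i ((𝔞 ^ n : Ideal A) : Set A) hA hloc
  refine ⟨l + n, fun a ha x => ?_⟩
  rw [pow_add] at ha
  exact Submodule.mul_induction_on ha (fun b hb c hc => hl b hb c hc x) fun p q hp hq => by
    rw [add_smul, hp, hq, add_zero]

/-- vanishing on the open gives torsion on smaller basic opens -/
theorem exists_pow_smul_smul_eq_zero (𝔞 : Ideal A) (N : ModuleCat.{u} A) (a : A)
    (h : (modOn (LocCoh.puncturedOpen A 𝔞)).map (Groth.L29.Formal.sc a N) = 0) (g : A)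
    (hg : Groth.L29.CechSect.D g ≤ LocCoh.puncturedOpen A 𝔞) (m : N) :
    ∃ c : ℕ, ∀ x ∈ Ideal.span ({g} : Set A) ^ c, x • a • m = 0 := by
  let U := LocCoh.puncturedOpen A 𝔞
  have h𝔞 : ((U : Set (Spec (CommRingCat.of A)))ᶜ : Set (PrimeSpectrum A)) = PrimeSpectrum.zeroLocus (𝔞 : Set A) :=
    compl_compl _
  let η := (adjOn U).unit.app N
  haveI : Mono ((modOn U).map η) :=
    haveI : IsSplitMono ((modOn U).map η) := ⟨⟨⟨(adjOn U).counit.app ((modOn U).obj N), (adjOn U).left_triangle_components N⟩⟩⟩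
    inferInstance
  have h0 : Groth.L29.Formal.sc a N ≫ η = 0 := by
    refine ((adjOn U).unit.naturality (Groth.L29.Formal.sc a N)).trans ?_
    change η ≫ (Scheme.Modules.pushforward U.ι ⋙ Groth.L12.Algz.Gam A).map ((modOn U).map (Groth.L29.Formal.sc a N)) = 0
    rw [h]
    haveI : (Scheme.Modules.pushforward U.ι).Additive :=
      (Scheme.Modules.pullbackPushforwardAdjunction U.ι).right_adjoint_additive
    haveI : (Groth.L12.Algz.Gam A).Additive := (tilde.adjunction (R := CommRingCat.of A)).right_adjoint_additive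
    rw [Functor.map_zero, comp_zero]
  obtain ⟨c, hc⟩ := exists_pow_smul_eq_zero_of_map h𝔞 η (a • m) (ConcreteCategory.congr_hom h0 m)
  have hrad : g ∈ 𝔞.radical := by
    rw [Ideal.radical_eq_sInf, Submodule.mem_sInf]
    intro q hq
    by_contra hgq
    exact hg (show (⟨q, hq.2⟩ : PrimeSpectrum A) ∈ Groth.L29.CechSect.D g from hgq)
      (fun x hx => hq.1 hx)
  obtain ⟨k, hk⟩ := hrad
  refine ⟨k * c, fun x hx => ?_⟩
  rw [Ideal.span_singleton_pow, Ideal.mem_span_singleton'] at hx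
  obtain ⟨d, rfl⟩ := hx
  rw [mul_smul, hc _ (by rw [pow_mul]; exact Ideal.pow_mem_pow hk c), smul_zero]

variable (𝔞 I : Ideal A)

local notation "Uo" => LocCoh.puncturedOpen A 𝔞

/-- the restriction of `tM` to a smaller open, along a factorisation of the inclusion -/
theorem nonempty_modOn_iso {U : (Spec (CommRingCat.of A)).Opens} {V : (U : Scheme.{u}).Opens}
    {O : (Spec (CommRingCat.of A)).Opens} (l : (O : Scheme.{u}) ⟶ (V : Scheme.{u})) (hl : l ≫ V.ι ≫ U.ι = O.ι)
    {M M' : ModuleCat.{u} A}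
    (φ : (Scheme.Modules.restrictFunctor V.ι).obj (tM U M) ≅ (Scheme.Modules.restrictFunctor V.ι).obj (tM U M')) :
    Nonempty ((modOn O).obj M ≅ (modOn O).obj M') := by
  let c : ∀ P : ModuleCat.{u} A, (modOn O).obj P ≅
      (Scheme.Modules.pullback l).obj ((Scheme.Modules.restrictFunctor V.ι).obj (tM U P)) := fun P =>
    (Scheme.Modules.restrictFunctorIsoPullback O.ι).app _ ≪≫
      (Scheme.Modules.pullbackCongr hl.symm).app _ ≪≫
      ((Scheme.Modules.pullbackComp l (V.ι ≫ U.ι)).app _).symm ≪≫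
      (Scheme.Modules.pullback l).mapIso (((Scheme.Modules.pullbackComp V.ι U.ι).app _).symm ≪≫
        (Scheme.Modules.pullback V.ι).mapIso ((Scheme.Modules.restrictFunctorIsoPullback U.ι).app _).symm ≪≫
        ((Scheme.Modules.restrictFunctorIsoPullback V.ι).app _).symm)
  exact ⟨c M ≪≫ (Scheme.Modules.pullback l).mapIso φ ≪≫ (c M').symm⟩

/-- the bottom level is locally `(A/I)^r` on a tilde model -/
theorem exists_local_factor (N : ModuleCat.{u} A) [Module.Finite A N]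
    (G₀ : (Uo : Scheme.{u}).Modules) (e : tM Uo N ≅ G₀) (hk : _root_.Formal.KilledBy I G₀)
    (hfree : Formal2.IsFinLocFreeMod I (0 + 1) G₀) (p : PrimeSpectrum A) (hp : ¬ 𝔞 ≤ p.asIdeal) :
    ∃ g : A, g ∉ p.asIdeal ∧
      ∃ (r K : ℕ) (u : N →ₗ[A] Formal2.quotPow A I (FreeM A r) 0) (v : Formal2.quotPow A I (FreeM A r) 0 →ₗ[A] N),
        ∀ m, v (u m) = g ^ K • m := by
  obtain ⟨V, r, hxV, ⟨φ⟩⟩ := hfree ⟨p, hp⟩
  obtain ⟨_, ⟨g, rfl⟩, hpg, hgV⟩ := (PrimeSpectrum.isTopologicalBasis_basic_opens (R := A)).exists_subset_of_mem_open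
    (u := {q : PrimeSpectrum A | q ∈ (Uo).ι ''ᵁ V}) (show p ∈ (Uo).ι ''ᵁ V from ⟨⟨p, hp⟩, hxV, rfl⟩) ((Uo).ι ''ᵁ V).isOpen
  let O := Groth.L29.CechSect.D g
  have hOU : O ≤ Uo := fun q hq => by
    obtain ⟨q', -, hqq⟩ := hgV hq
    exact hqq ▸ q'.2
  have hrange : Set.range O.ι ⊆ Set.range (V.ι ≫ (Uo).ι) := by
    rintro _ ⟨q, rfl⟩
    obtain ⟨q', hq', hqq⟩ := hgV q.2
    exact ⟨⟨q', hq'⟩, hqq⟩
  let l : (O : Scheme.{u}) ⟶ (V : Scheme.{u}) := IsOpenImmersion.lift (V.ι ≫ (Uo).ι) O.ι hrange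
  have hl : l ≫ V.ι ≫ (Uo).ι = O.ι := IsOpenImmersion.lift_fac _ _ _
  let eF : tM Uo (ModuleCat.of A (FreeM A r)) ≅ FlatMod.freeMod (Uo : Scheme.{u}) r :=
    (Scheme.Modules.restrictFunctor (Uo).ι).mapIso (Groth.L05.OmegaRank.tildeFreeIso (R := CommRingCat.of A) r) ≪≫
      Groth.L16.NegPow.freeRestrictIso Uo r
  let eP : modPow I (0 + 1) (FlatMod.freeMod (Uo : Scheme.{u}) r) ≅ modPow I (0 + 1) (tM Uo (ModuleCat.of A (FreeM A r))) :=
    { hom := Groth.L16.Exist.redMap I (0 + 1) eF.inv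
      inv := Groth.L16.Exist.redMap I (0 + 1) eF.hom
      hom_inv_id := by rw [Groth.L16.Exist.redMap_comp, eF.inv_hom_id, Groth.L16.Exist.redMap_id]
      inv_hom_id := by rw [Groth.L16.Exist.redMap_comp, eF.hom_inv_id, Groth.L16.Exist.redMap_id] }
  obtain ⟨eQ, -⟩ := Groth.L29.Bridge.exists_modPowIso Uo I (FreeM A r) 0
  let R := Scheme.Modules.restrictFunctor V.ι
  obtain ⟨ε⟩ := nonempty_modOn_iso l hl (M := ModuleCat.of A (Formal2.quotPow A I (FreeM A r) 0)) (M' := N)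
    (R.mapIso eQ.symm ≪≫ R.mapIso eP.symm ≪≫ φ.symm ≪≫ R.mapIso e.symm)
  have h0 : ∀ a ∈ I, (modOn Uo).map (Groth.L29.Formal.sc a N) = 0 := fun a ha => by
    change Groth.L04.PunctLin.tg Uo (Groth.L29.Formal.sc a N) = 0
    rw [← Groth.L29.Formal.smulMod_tM, ← cancel_mono e.hom, zero_comp, Groth.L16.Rees.smulMod_naturality, hk a ha,
      comp_zero]
  exact ⟨g, hpg, r, exists_factor g I N r (fun a ha m => exists_pow_smul_smul_eq_zero 𝔞 N a (h0 a ha) g hOU m) ε⟩

open Groth.L04.LC in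
/-- `H⁰` and `H¹` of the bottom level are finite -/
theorem finite_bottom (G₀ : (Uo : Scheme.{u}).Modules) (hc : Coh.IsCoh G₀) (hk : _root_.Formal.KilledBy I G₀)
    (hfree : Formal2.IsFinLocFreeMod I (0 + 1) G₀)
    (h₁ : Module.Finite A (LocCoh.H 𝔞 1 (Formal2.quotPow A I A 0)))
    (h₂ : Module.Finite A (LocCoh.H 𝔞 2 (Formal2.quotPow A I A 0))) :
    Module.Finite A (Coh.HH (Uo : Scheme.{u}) G₀ 0) ∧ Module.Finite A (Coh.HH (Uo : Scheme.{u}) G₀ 1) := by
  haveI : IsNoetherianRing (CommRingCat.of A) := ‹IsNoetherianRing A›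
  haveI : Coh.IsQCoh G₀ := hc.1
  obtain ⟨N, hN, ⟨e⟩⟩ := Groth.L14.PicSurj.exists_tilde_extension' Uo G₀ hc.2
  haveI : Module.Finite A N := hN
  have hkill : ∀ i ≤ 2, ∃ m, ∀ a ∈ 𝔞 ^ m, ∀ x : LocCoh.H 𝔞 i N, a • x = 0 := fun i hi => by
    haveI : Module.Finite A (LocCoh.H 𝔞 i (Formal2.quotPow A I A 0)) := by
      obtain rfl | rfl | rfl : i = 0 ∨ i = 1 ∨ i = 2 := by omega
      exacts [H_finite_zero 𝔞 _, h₁, h₂]
    obtain ⟨k, hk'⟩ := exists_pow_smul_eq_zero_of_finite 𝔞 (H := LocCoh.H 𝔞 i (Formal2.quotPow A I A 0))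
      (isPowerTorsion_H 𝔞 i (ModuleCat.of A (Formal2.quotPow A I A 0)))
    exact exists_killed 𝔞 I N i k hk' (exists_local_factor 𝔞 I N G₀ e hk hfree)
  obtain ⟨m₀, hm₀⟩ := hkill 0 (by omega)
  obtain ⟨m₁, hm₁⟩ := hkill 1 (by omega)
  obtain ⟨m₂, hm₂⟩ := hkill 2 (by omega)
  have hfin : ∀ i ≤ 2, Module.Finite A (LocCoh.H 𝔞 i N) := finite_H_of_killed 𝔞 2 N (m₀ + m₁ + m₂) fun i hi a ha => by
    obtain rfl | rfl | rfl : i = 0 ∨ i = 1 ∨ i = 2 := by omega
    exacts [hm₀ a (Ideal.pow_le_pow_right (by omega) ha), hm₁ a (Ideal.pow_le_pow_right (by omega) ha),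
      hm₂ a (Ideal.pow_le_pow_right (by omega) ha)]
  haveI : Module.Finite A ((localCohomology 𝔞 1).obj N) := hfin 1 (by omega)
  haveI : Module.Finite A ((localCohomology 𝔞 2).obj N) := hfin 2 le_rfl
  haveI : Module.Finite A (Coh.HH (Uo : Scheme.{u}) (tM Uo N) 1) := by
    obtain ⟨ee⟩ := Groth.L04.PunctLin.nonempty_equiv 𝔞 0 N
    exact Module.Finite.equiv ee.symm
  haveI : Module.Finite A (Coh.HH (Uo : Scheme.{u}) (tM Uo N) 0) := by
    obtain ⟨-, ⟨c⟩⟩ := Groth.L04.Koszul.Cech.exists_toOpen_punctured 𝔞 N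
    let t := (tilde.toOpen (R := CommRingCat.of A) N Uo).hom
    haveI : Module.Finite A ((Groth.L04.PunctLin.sect Uo N : Type u) ⧸ LinearMap.range t) := Module.Finite.equiv c.symm
    haveI : Module.Finite A (LinearMap.range t) := Module.Finite.range t
    haveI : Module.Finite A (Groth.L04.PunctLin.sect Uo N : Type u) :=
      Module.Finite.of_submodule_quotient (LinearMap.range t)
    exact Module.Finite.equiv (Groth.L04.PunctLin.gamma Uo N).symm
  exact ⟨Groth.L16.CohLinear.finite_of_iso A e 0, Groth.L16.CohLinear.finite_of_iso A e 1⟩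

end Groth.L29.FreeLevels
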