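import Groth.Agent.L29.Formal.FreeLevelsCrit

/-!
Canonical extension of a formal module along a nonzerodivisor when only a multiple of `H¹` of a higher level is finite:
the sequences `0 → G_M → G_{M+n+1} → G_n → 0`.
-/

set_option autoImplicit false
set_option backward.isDefEq.respectTransparency false
set_option backward.isDefEq.respectTransparency.types false
set_option linter.style.haveILetI false

universe u

open CategoryTheory CategoryTheory.Limits AlgebraicGeometry TopologicalSpace Opposite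

noncomputable section

namespace Groth.L29.FreeLevels

open _root_.Formal (smulMod)
open Groth.L16 Groth.L16.Rees
open Groth.L16.CohLinear (hmap delta)
open Groth.L16.Existence (tr)

variable {A : Type u} [CommRing A] [IsNoetherianRing A] {U : (Spec (CommRingCat.of A)).Opens} {f : A}
  {G : ℕᵒᵖ ⥤ (U : Scheme.{u}).Modules} (hG : _root_.Formal.IsCohFormal (Ideal.span {f}) G)
  (hfree : ∀ n : ℕ, Formal2.IsFinLocFreeMod (Ideal.span {f}) (n + 1) (G.obj (op n))) (hf : f ∈ nonZeroDivisors A)

theorem eMap_comm_tr {a b : ℕ} (h : a ≤ b) :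
    eMap hG b ≫ tr G (a + 1) (b + 1) (Nat.succ_le_succ h) = tr G a b h ≫ eMap hG a := by
  haveI := Existence.epi_tr hG (Nat.le_succ b)
  rw [← cancel_epi (tr G b (b + 1) (Nat.le_succ b)), ← Category.assoc, tr_eMap, ← Category.assoc,
    Existence.tr_comp, ← Existence.tr_comp G (Nat.le_succ a) (Nat.succ_le_succ h), Category.assoc, tr_eMap,
    smulMod_naturality]

/-- `f^(n+1)` between the levels `M` and `M+n+1` -/
def lMap (M : ℕ) : ∀ n, G.obj (op M) ⟶ G.obj (op (M + n + 1))
  | 0 => eMap hG M
  | n + 1 => lMap M n ≫ eMap hG (M + n + 1)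

theorem lMap_comm (M : ℕ) : ∀ n, lMap hG M n ≫ tr G (n + 1) (M + n + 1) (by omega) =
    tr G 0 M (Nat.zero_le M) ≫ jMap hG n
  | 0 => eMap_comm_tr hG (Nat.zero_le M)
  | n + 1 => by
    change (lMap hG M n ≫ eMap hG (M + n + 1)) ≫ _ = _ ≫ jMap hG n ≫ eMap hG (n + 1)
    rw [Category.assoc, eMap_comm_tr hG (show n + 1 ≤ M + n + 1 by omega), reassoc_of% (lMap_comm M n)]

theorem lMap_tr (M n : ℕ) : lMap hG M n ≫ tr G n (M + n + 1) (by omega) = 0 := by
  rw [← Existence.tr_comp G (Nat.le_succ n) (show n + 1 ≤ M + n + 1 by omega), reassoc_of% (lMap_comm hG M n),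
    jMap_tr, comp_zero]

/-- the long sequences -/
abbrev long (M n : ℕ) : ShortComplex (U : Scheme.{u}).Modules := ShortComplex.mk _ _ (lMap_tr hG M n)

include hfree hf in
theorem long_shortExact (M : ℕ) : ∀ n, (long hG M n).ShortExact
  | 0 => bot_shortExact hG hfree hf M
  | n + 1 => by
    haveI hm : Mono (lMap hG M n) := (long_shortExact M n).mono_f
    haveI := mono_eMap hG hfree hf (M + n + 1)
    haveI : Mono (long hG M (n + 1)).f := mono_comp (lMap hG M n) (eMap hG (M + n + 1))
    haveI : Epi (long hG M (n + 1)).g := Existence.epi_tr hG _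
    haveI := mono_eMap hG hfree hf n
    refine ⟨(ShortComplex.exact_iff_exact_up_to_refinements _).2 fun T z hz => ?_⟩
    change z ≫ tr G (n + 1) (M + n + 1 + 1) _ = 0 at hz
    obtain ⟨T₁, p, hp, w, hw⟩ := (bot_shortExact hG hfree hf (M + n + 1)).exact.exact_up_to_refinements z (by
      change z ≫ tr G 0 (M + n + 1 + 1) _ = 0
      rw [← Existence.tr_comp G (Nat.zero_le (n + 1)) (show n + 1 ≤ M + n + 1 + 1 by omega), reassoc_of% hz, zero_comp])
    change p ≫ z = w ≫ eMap hG (M + n + 1) at hw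
    have h1 : w ≫ tr G n (M + n + 1) (by omega) = 0 := by
      rw [← cancel_mono (eMap hG n), Category.assoc, ← eMap_comm_tr hG (show n ≤ M + n + 1 by omega), ← reassoc_of% hw,
        hz, comp_zero, zero_comp]
    obtain ⟨T₂, q, hq, v, hv⟩ := (long_shortExact M n).exact.exact_up_to_refinements w h1
    refine ⟨T₂, q ≫ p, epi_comp _ _, v, ?_⟩
    change (q ≫ p) ≫ z = v ≫ lMap hG M n ≫ eMap hG (M + n + 1)
    rw [Category.assoc, hw, reassoc_of% hv]

/-- towards the step sequences -/
def longHom (M n : ℕ) : long hG M n ⟶ step hG n :=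
  ShortComplex.homMk (tr G 0 M (Nat.zero_le M)) (tr G (n + 1) (M + n + 1) (by omega)) (𝟙 _)
    (lMap_comm hG M n).symm (by rw [Category.comp_id]; exact Existence.tr_comp G _ _)

theorem tr_jMap : ∀ n, tr G 0 (n + 1) (Nat.zero_le _) ≫ jMap hG n = smulMod A (G.obj (op (n + 1))) (f ^ (n + 1))
  | 0 => (tr_eMap hG 0).trans (congrArg (smulMod A _) (pow_one f).symm)
  | n + 1 => by
    rw [← Existence.tr_comp G (Nat.zero_le (n + 1)) (Nat.le_succ (n + 1)), jMap, Category.assoc,
      reassoc_of% (tr_jMap n), smulMod_naturality, ← Category.assoc, tr_eMap, ← smulMod_mul, ← pow_succ]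

theorem hmap_tr_jMap (M : ℕ) (x : Coh.HH (U : Scheme.{u}) (G.obj (op (M + 1))) 1) :
    hmap (jMap hG M) 1 (hmap (tr G 0 (M + 1) (Nat.zero_le _)) 1 x) = f ^ (M + 1) • x := by
  rw [← CohLinear.hmap_comp, tr_jMap]
  exact Rees.hmap_smulMod A _ _ 1 x

include hfree hf in
/-- the image in `H¹` of level `M+1` of an obstruction is a multiple of `f^(M+1)` -/
theorem hmap_obs_mem (M n : ℕ) (y : (Sec U).obj (G.obj (op n))) :
    hmap (jMap hG M) 1 (obs hG (step_shortExact hG hfree hf) n y) ∈
      LinearMap.range (f ^ (M + 1) • (LinearMap.id : Coh.HH (U : Scheme.{u}) (G.obj (op (M + 1))) 1 →ₗ[A] _)) := by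
  have h := obsOf_natural U (S := long hG (M + 1) n) (S' := step hG n) (long_shortExact hG hfree hf (M + 1) n)
    (step_shortExact hG hfree hf n) (longHom hG (M + 1) n) y
  have h' : ((Sec U).map (longHom hG (M + 1) n).τ₃).hom y = y := by
    change ((Sec U).map (𝟙 (G.obj (op n)))).hom y = y
    rw [CategoryTheory.Functor.map_id]
    rfl
  rw [h'] at h
  refine ⟨obsOf U (long_shortExact hG hfree hf (M + 1) n) y, ?_⟩
  rw [show obs hG (step_shortExact hG hfree hf) n y = _ from h]
  exact (hmap_tr_jMap hG M _).symm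

include hfree hf in
theorem ker_hmap_le (M : ℕ) (x : Coh.HH (U : Scheme.{u}) (G.obj (op 0)) 1) (hx : hmap (jMap hG M) 1 x = 0) :
    x ∈ LinearMap.range (obs hG (step_shortExact hG hfree hf) M) := by
  obtain ⟨z, hz⟩ := (CohLinear.exact_delta_hmap (step_shortExact hG hfree hf M) 0 x).1 hx
  exact ⟨Φ U _ z, (obsOf_Φ U (step_shortExact hG hfree hf M) z).trans hz⟩

include hG hfree hf in
/-- Formal modules along a nonzerodivisor canonically extend if `H⁰` of the bottom level is finite and a multiple of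
`H¹` of some level is Noetherian. -/
theorem canonicallyExtends_of_multiple [Module.Finite A ((Sec U).obj (G.obj (op 0)))] (M : ℕ)
    [IsNoetherian A (LinearMap.range
      (f ^ (M + 1) • (LinearMap.id : Coh.HH (U : Scheme.{u}) (G.obj (op (M + 1))) 1 →ₗ[A] _)))] :
    _root_.Algz.CanonicallyExtends A (Ideal.span {f}) U G := by
  let L := levels hG hfree hf
  haveI : Module.Finite A ((_root_.Algz.sectMod A U G).obj (op 0)) := ‹Module.Finite A ((Sec U).obj (G.obj (op 0)))›
  let ψ : Coh.HH (U : Scheme.{u}) (G.obj (op 0)) 1 →ₗ[A] Coh.HH (U : Scheme.{u}) (G.obj (op (M + 1))) 1 :=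
    { toFun := hmap (jMap hG M) 1
      map_add' := map_add _
      map_smul' := fun a x => by
        rw [RingHom.id_apply, ← Rees.hmap_smulMod A _ a 1 x, ← CohLinear.hmap_comp, smulMod_naturality,
          CohLinear.hmap_comp, Rees.hmap_smulMod] }
  have hst := L.exists_stable_of_map ψ (LinearMap.range
      (f ^ (M + 1) • (LinearMap.id : Coh.HH (U : Scheme.{u}) (G.obj (op (M + 1))) 1 →ₗ[A] _))) M
    (fun x hx => ker_hmap_le hG hfree hf M x hx) (fun n y => hmap_obs_mem hG hfree hf M n y)
  refine Groth.L12.Algz.canonicallyExtends_of U G hG (L.isML_of_stable hst)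
    (fun k => ⟨k, (L.ker_π_le k).trans ?_⟩) fun n => ?_
  · exact Submodule.smul_mono_left (Ideal.pow_le_pow_right (Nat.le_succ k))
  · haveI := L.finite_obj n
    haveI := isNoetherian_of_isNoetherianRing_of_finite A ((_root_.Algz.sectMod A U G).obj (op n))
    exact Module.IsNoetherian.finite _ _

end Groth.L29.FreeLevels
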