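import Groth.Agent.L29.Formal.FreeLevelsFinite
import Groth.Agent.L29.Formal.FreeLevelsLong
import Groth.Agent.L04.LC.Nonvanish

/-!
The finiteness inputs for formal modules on the punctured spectrum of a local ring, from annihilation of local cohomology.
-/

set_option autoImplicit false
set_option backward.isDefEq.respectTransparency false
set_option backward.isDefEq.respectTransparency.types false
set_option linter.style.haveILetI false

universe u

open CategoryTheory CategoryTheory.Limits AlgebraicGeometry TopologicalSpace Opposite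

noncomputable section

namespace Groth.L29.FreeLevels

open Groth.L04.PunctLin (tM)
open IsLocalRing (maximalIdeal)

variable {A : Type u} [CommRing A] [IsNoetherianRing A]

open Groth.L04.LC in
/-- `H⁰` of the bottom level is finite -/
theorem finite_bottom_zero (𝔞 I : Ideal A) (G₀ : (LocCoh.puncturedOpen A 𝔞 : Scheme.{u}).Modules)
    (hc : Coh.IsCoh G₀) (hk : _root_.Formal.KilledBy I G₀) (hfree : Formal2.IsFinLocFreeMod I (0 + 1) G₀)
    (h₁ : ∃ k, ∀ a ∈ 𝔞 ^ k, ∀ x : LocCoh.H 𝔞 1 (Formal2.quotPow A I A 0), a • x = 0) :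
    Module.Finite A (Coh.HH (LocCoh.puncturedOpen A 𝔞 : Scheme.{u}) G₀ 0) := by
  haveI : IsNoetherianRing (CommRingCat.of A) := ‹IsNoetherianRing A›
  haveI : Coh.IsQCoh G₀ := hc.1
  let U := LocCoh.puncturedOpen A 𝔞
  obtain ⟨N, hN, ⟨e⟩⟩ := Groth.L14.PicSurj.exists_tilde_extension' U G₀ hc.2
  haveI : Module.Finite A N := hN
  have hloc := exists_local_factor 𝔞 I N G₀ e hk hfree
  obtain ⟨k₁, hk₁⟩ := h₁
  haveI : Module.Finite A (LocCoh.H 𝔞 0 (Formal2.quotPow A I A 0)) := H_finite_zero 𝔞 _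
  obtain ⟨k₀, hk₀⟩ := exists_pow_smul_eq_zero_of_finite 𝔞 (H := LocCoh.H 𝔞 0 (Formal2.quotPow A I A 0))
    (isPowerTorsion_H 𝔞 0 (ModuleCat.of A (Formal2.quotPow A I A 0)))
  obtain ⟨m₀, hm₀⟩ := exists_killed 𝔞 I N 0 k₀ hk₀ hloc
  obtain ⟨m₁, hm₁⟩ := exists_killed 𝔞 I N 1 k₁ hk₁ hloc
  have hfin : ∀ i ≤ 1, Module.Finite A (LocCoh.H 𝔞 i N) := finite_H_of_killed 𝔞 1 N (m₀ + m₁) fun i hi a ha => by
    obtain rfl | rfl : i = 0 ∨ i = 1 := by omega
    exacts [hm₀ a (Ideal.pow_le_pow_right (by omega) ha), hm₁ a (Ideal.pow_le_pow_right (by omega) ha)]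
  haveI : Module.Finite A ((localCohomology 𝔞 1).obj N) := hfin 1 le_rfl
  haveI : Module.Finite A (Coh.HH (U : Scheme.{u}) (tM U N) 0) := by
    obtain ⟨-, ⟨c⟩⟩ := Groth.L04.Koszul.Cech.exists_toOpen_punctured 𝔞 N
    let t := (tilde.toOpen (R := CommRingCat.of A) N U).hom
    haveI : Module.Finite A ((Groth.L04.PunctLin.sect U N : Type u) ⧸ LinearMap.range t) := Module.Finite.equiv c.symm
    haveI : Module.Finite A (LinearMap.range t) := Module.Finite.range t
    haveI : Module.Finite A (Groth.L04.PunctLin.sect U N : Type u) :=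
      Module.Finite.of_submodule_quotient (LinearMap.range t)
    exact Module.Finite.equiv (Groth.L04.PunctLin.gamma U N).symm
  exact Groth.L16.CohLinear.finite_of_iso A e 0

/-- an Artinian module killed by a power of the maximal ideal is Noetherian -/
theorem isNoetherian_of_artinian_of_killed [IsLocalRing A] {X : Type u} [AddCommGroup X] [Module A X] [IsArtinian A X]
    (k : ℕ) (h : ∀ a ∈ maximalIdeal A ^ k, ∀ x : X, a • x = 0) : IsNoetherian A X := by
  let J : Ideal A := maximalIdeal A ^ k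
  haveI : IsArtinian A (A ⧸ J) := Groth.L04.LC.isArtinian_of_support_subset (A ⧸ J) (by
    rw [Module.support_eq_zeroLocus, Ideal.annihilator_quotient]
    exact fun p hp => (Ideal.IsPrime.le_of_pow_le hp : maximalIdeal A ≤ p.asIdeal))
  haveI : IsArtinianRing (A ⧸ J) := isArtinian_of_tower A ‹IsArtinian A (A ⧸ J)›
  let htors : Module.IsTorsionBySet A X (J : Set A) := fun x r => h r.1 r.2 x
  letI := htors.module
  haveI : IsScalarTower A (A ⧸ J) X := htors.isScalarTower
  haveI : IsArtinian (A ⧸ J) X := isArtinian_of_tower A ‹IsArtinian A X›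
  haveI : IsNoetherian (A ⧸ J) X := IsSemiprimaryRing.isNoetherian_iff_isArtinian.2 ‹_›
  haveI : Module.Finite (A ⧸ J) X := inferInstance
  haveI : Module.Finite A X := Module.Finite.trans (A ⧸ J) X
  exact isNoetherian_of_isNoetherianRing_of_finite A X

open Groth.L04.LC in
/-- a multiple of `H¹` of a level is Noetherian -/
theorem isNoetherian_multiple [IsLocalRing A] (I : Ideal A)
    (G₀ : (LocCoh.puncturedOpen A (maximalIdeal A) : Scheme.{u}).Modules) (hc : Coh.IsCoh G₀)
    (hk : _root_.Formal.KilledBy I G₀) (hfree : Formal2.IsFinLocFreeMod I (0 + 1) G₀) (c : A) (k : ℕ)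
    (h₂ : ∀ a ∈ maximalIdeal A ^ k, ∀ x : LocCoh.H (maximalIdeal A) 2 (Formal2.quotPow A I A 0), a • c • x = 0) :
    IsNoetherian A (LinearMap.range
      (c • (LinearMap.id : Coh.HH (LocCoh.puncturedOpen A (maximalIdeal A) : Scheme.{u}) G₀ 1 →ₗ[A] _))) := by
  haveI : IsNoetherianRing (CommRingCat.of A) := ‹IsNoetherianRing A›
  haveI : Coh.IsQCoh G₀ := hc.1
  let 𝔪 := maximalIdeal A
  let U := LocCoh.puncturedOpen A 𝔪
  obtain ⟨N, hN, ⟨e⟩⟩ := Groth.L14.PicSurj.exists_tilde_extension' U G₀ hc.2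
  haveI : Module.Finite A N := hN
  obtain ⟨l, hl⟩ := exists_killed_set 𝔪 I N 2 ((fun a => a * c) '' ((𝔪 ^ k : Ideal A) : Set A))
    (by rintro _ ⟨a, ha, rfl⟩ x; rw [mul_smul]; exact h₂ a ha x) (exists_local_factor 𝔪 I N G₀ e hk hfree)
  haveI : IsArtinian A (LocCoh.H 𝔪 2 N) := isArtinian_H_maximalIdeal 2 N
  let R := LinearMap.range (c • (LinearMap.id : LocCoh.H 𝔪 2 N →ₗ[A] _))
  haveI : IsNoetherian A R := isNoetherian_of_artinian_of_killed (l + k) fun a ha x => by
    obtain ⟨_, y, rfl⟩ := x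
    refine Subtype.ext ?_
    change a • c • y = 0
    rw [pow_add] at ha
    refine Submodule.mul_induction_on ha (fun b hb d hd => ?_) fun p q hp hq => by rw [add_smul, hp, hq, add_zero]
    rw [← mul_smul, mul_assoc]
    exact hl b hb _ ⟨d, hd, rfl⟩ y
  obtain ⟨ee⟩ := Groth.L04.PunctLin.nonempty_equiv 𝔪 0 N
  let φ : LocCoh.H 𝔪 2 N →ₗ[A] Coh.HH (U : Scheme.{u}) G₀ 1 :=
    (Groth.L16.CohLinear.overLin A (Groth.L16.CohLinear.hmap e.hom 1)).comp ee.symm.toLinearMap
  have hφ : Function.Surjective φ := fun y => ⟨ee (Groth.L16.CohLinear.hmap e.inv 1 y), by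
    change Groth.L16.CohLinear.hmap e.hom 1 (ee.symm (ee _)) = y
    rw [ee.symm_apply_apply, ← Groth.L16.CohLinear.hmap_comp, e.inv_hom_id, Groth.L16.CohLinear.hmap_id]⟩
  haveI : IsNoetherian A (R.map φ) := isNoetherian_map φ
  exact isNoetherian_of_le (t := R.map φ) (by
    rintro _ ⟨z, rfl⟩
    obtain ⟨y, rfl⟩ := hφ z
    exact ⟨c • y, ⟨y, rfl⟩, map_smul φ c y⟩)

end Groth.L29.FreeLevels
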