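import Groth.Agent.L29.Formal.FreeLevelsSect
import Groth.Agent.L16.Existence.Graded
import Mathlib.RingTheory.TensorProduct.Finite

/-!
Cohomology of the graded pieces of a coherent formal module as a quotient of polynomials over that of the bottom level.
-/

set_option autoImplicit false
set_option backward.isDefEq.respectTransparency false
set_option backward.isDefEq.respectTransparency.types false
set_option linter.style.haveILetI false

universe u

open CategoryTheory CategoryTheory.Limits AlgebraicGeometry TopologicalSpace Opposite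
open scoped TensorProduct

noncomputable section

namespace Groth.L29.Graded

open _root_.Formal (smulMod)
open Groth.L16 Groth.L16.Existence

variable {A : Type u} [CommRing A] {X : Scheme.{u}} [X.Over (Spec (CommRingCat.of A))] {I : Ideal A}
  {G : ℕᵒᵖ ⥤ X.Modules} (hG : _root_.Formal.IsCohFormal I G)

theorem mul_tr_comm {m n : ℕ} (h : m ≤ n) (c : A) (hc : c ∈ I ^ (n - m)) (hc' : c ∈ I ^ (n + 1 - (m + 1))) :
    mul hG (m + 1) (n + 1) (Nat.succ_le_succ h) c hc' ≫ tr G n (n + 1) (Nat.le_succ n) =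
      tr G m (m + 1) (Nat.le_succ m) ≫ mul hG m n h c hc := by
  haveI := epi_tr hG (Nat.succ_le_succ h)
  rw [← cancel_epi (tr G (m + 1) (n + 1) (Nat.succ_le_succ h)), ← Category.assoc, tr_mul, ← Category.assoc,
    tr_comp, ← tr_comp G h (Nat.le_succ n), Category.assoc, tr_mul, Rees.smulMod_naturality]

/-- multiplication between the graded pieces -/
def kmul {m n : ℕ} (h : m ≤ n) (c : A) (hc : c ∈ I ^ (n - m)) : K G m ⟶ K G n :=
  kernel.lift _ (kernel.ι _ ≫ mul hG (m + 1) (n + 1) (Nat.succ_le_succ h) c (by rwa [Nat.succ_sub_succ]))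
    (by rw [Category.assoc, mul_tr_comm hG h c hc, kernel.condition_assoc, zero_comp])

theorem kmul_ι {m n : ℕ} (h : m ≤ n) (c : A) (hc : c ∈ I ^ (n - m)) :
    kmul hG h c hc ≫ kernel.ι _ =
      kernel.ι _ ≫ mul hG (m + 1) (n + 1) (Nat.succ_le_succ h) c (by rwa [Nat.succ_sub_succ]) :=
  kernel.lift_ι _ _ _

theorem μ_kmul {m n : ℕ} (h : m ≤ n) (c : A) (hc : c ∈ I ^ (n - m)) (d : A) (hd : d ∈ I ^ (m + 1))
    (hcd : c * d ∈ I ^ (n + 1)) : μ hG m d hd ≫ kmul hG h c hc = μ hG n (c * d) hcd := by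
  rw [← cancel_mono (kernel.ι _), Category.assoc, kmul_ι, μ, kernel.lift_ι_assoc, mul_comp hG _ _ d _ c _ hcd, μ,
    kernel.lift_ι]

variable {r : ℕ} (a : Fin r → A) (hI : I = Ideal.span (Set.range a))

include hG hI in
theorem aE_mem_sub {m n : ℕ} {d : Fin r →₀ ℕ} (hd : d.degree + m = n) : aE a d ∈ I ^ (n - m) :=
  (congrArg (fun k => I ^ k) (show d.degree = n - m by omega)).le (aE_mem a (mem_gen a hI) d)

theorem μe_kmul {m n : ℕ} (d : Fin r →₀ ℕ) (hd : d.degree + m = n) (e : Sn r m) (e' : Sn r n) (he : e'.1 = d + e.1) :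
    μe hG a hI m e ≫ kmul hG (show m ≤ n by omega) (aE a d) (aE_mem_sub hG a hI hd) = μe hG a hI n e' := by
  have hmem : aE a d * aE a e.1 ∈ I ^ (n + 1) := by
    rw [← aE_add, ← he]
    exact (congrArg (fun k => I ^ k) e'.2).le (aE_mem a (mem_gen a hI) e'.1)
  rw [μe, μ_kmul hG _ _ _ _ _ hmem]
  simp only [μe, he, aE_add]

variable (i : ℕ)

omit [X.Over (Spec (CommRingCat.of A))] in
theorem hmap_add {M N : X.Modules} (f g : M ⟶ N) (x : Coh.HH X M i) :
    CohLinear.hmap (f + g) i x = CohLinear.hmap f i x + CohLinear.hmap g i x := by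
  change Sheaf.H.map (CohLinear.tm (f + g)) i x = _
  rw [CohLinear.tm, Functor.map_add, Sheaf.H.map_add_apply]
  rfl

omit [X.Over (Spec (CommRingCat.of A))] in
theorem hmap_sum {M N : X.Modules} {J : Type*} (s : Finset J) (f : J → (M ⟶ N)) (x : Coh.HH X M i) :
    CohLinear.hmap (∑ j ∈ s, f j) i x = ∑ j ∈ s, CohLinear.hmap (f j) i x :=
  let φ : (M ⟶ N) →+ Coh.HH X N i := AddMonoidHom.mk' (fun g => CohLinear.hmap g i x) fun g h => hmap_add i g h x
  map_sum φ f s

/-- cohomology of a monomial map -/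
def μH (n : ℕ) (e : Sn r n) : Coh.HH X (G.obj (op 0)) i →ₗ[A] Coh.HH X (K G n) i :=
  CohLinear.overLin A (CohLinear.hmap (μe hG a hI n e) i)

/-- polynomials with coefficients in the cohomology of the bottom level, evaluated in the graded piece -/
def Φp (n : ℕ) : MvPolynomial (Fin r) A ⊗[A] Coh.HH X (G.obj (op 0)) i →ₗ[A] Coh.HH X (K G n) i :=
  ∑ e : Sn r n, TensorProduct.lift (((LinearMap.lsmul A _).compl₂ (μH hG a hI i n e)).comp (MvPolynomial.lcoeff A e.1))

theorem Φp_tmul (n : ℕ) (b : MvPolynomial (Fin r) A) (w : Coh.HH X (G.obj (op 0)) i) :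
    Φp hG a hI i n (b ⊗ₜ[A] w) = ∑ e : Sn r n, MvPolynomial.coeff e.1 b • μH hG a hI i n e w := by
  simp [Φp, LinearMap.sum_apply]

/-- homogeneous elements -/
def homog (m : ℕ) (w : Sn r m → Coh.HH X (G.obj (op 0)) i) : MvPolynomial (Fin r) A ⊗[A] Coh.HH X (G.obj (op 0)) i :=
  ∑ e : Sn r m, MvPolynomial.monomial e.1 1 ⊗ₜ[A] w e

theorem Φp_homog (m : ℕ) (w : Sn r m → Coh.HH X (G.obj (op 0)) i) :
    Φp hG a hI i m (homog i m w) = ∑ e : Sn r m, μH hG a hI i m e (w e) := by
  classical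
  rw [homog, map_sum]
  refine Finset.sum_congr rfl fun e _ => ?_
  rw [Φp_tmul, Finset.sum_eq_single e (fun e' _ he' => by
    rw [MvPolynomial.coeff_monomial, if_neg (fun h => he' (Subtype.ext h.symm)), zero_smul])
    (fun h => absurd (Finset.mem_univ _) h), MvPolynomial.coeff_monomial, if_pos rfl, one_smul]

theorem Φp_monomial_smul (m n : ℕ) (d : Fin r →₀ ℕ) (x : A) (w : Sn r m → Coh.HH X (G.obj (op 0)) i) :
    (∀ hd : d.degree + m = n, Φp hG a hI i n (MvPolynomial.monomial d x • homog i m w) =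
      x • CohLinear.hmap (kmul hG (show m ≤ n by omega) (aE a d) (aE_mem_sub hG a hI hd)) i
        (Φp hG a hI i m (homog i m w))) ∧
    (d.degree + m ≠ n → Φp hG a hI i n (MvPolynomial.monomial d x • homog i m w) = 0) := by
  classical
  have h1 : Φp hG a hI i n (MvPolynomial.monomial d x • homog i m w) =
      ∑ e : Sn r m, ∑ e' : Sn r n, (if d + e.1 = e'.1 then x else 0) • μH hG a hI i n e' (w e) := by
    rw [homog, Finset.smul_sum, map_sum]
    refine Finset.sum_congr rfl fun e _ => ?_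
    rw [TensorProduct.smul_tmul', Φp_tmul]
    refine Finset.sum_congr rfl fun e' _ => ?_
    rw [smul_eq_mul, MvPolynomial.monomial_mul, MvPolynomial.coeff_monomial, mul_one]
  refine ⟨fun hd => ?_, fun hd => ?_⟩
  · rw [h1, Φp_homog, map_sum, Finset.smul_sum]
    refine Finset.sum_congr rfl fun e _ => ?_
    have hde : (d + e.1).degree = n + 1 := by rw [map_add, e.2]; omega
    rw [Finset.sum_eq_single (⟨d + e.1, hde⟩ : Sn r n) (fun e' _ he' => by
      rw [if_neg (fun h => he' (Subtype.ext h.symm)), zero_smul]) (fun h => absurd (Finset.mem_univ _) h), if_pos rfl]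
    congr 1
    change CohLinear.hmap _ i (w e) = CohLinear.hmap _ i (CohLinear.hmap _ i (w e))
    rw [← CohLinear.hmap_comp, μe_kmul hG a hI d hd e ⟨d + e.1, hde⟩ rfl]
  · rw [h1]
    refine Finset.sum_eq_zero fun e _ => Finset.sum_eq_zero fun e' _ => ?_
    rw [if_neg, zero_smul]
    intro h
    have := congrArg Finsupp.degree h
    rw [map_add, e.2, e'.2] at this
    omega

/-- the monomial maps onto the graded pieces split -/
def Split : Prop :=
  ∀ n, ∃ σ : Sn r n → (K G n ⟶ G.obj (op 0)), ∑ e, σ e ≫ μe hG a hI n e = 𝟙 (K G n)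

theorem exists_homog (hs : Split hG a hI) (n : ℕ) (y : Coh.HH X (K G n) i) :
    ∃ w, Φp hG a hI i n (homog i n w) = y := by
  obtain ⟨σ, hσ⟩ := hs n
  refine ⟨fun e => CohLinear.hmap (σ e) i y, ?_⟩
  rw [Φp_homog]
  have h : ∀ e, μH hG a hI i n e (CohLinear.hmap (σ e) i y) = CohLinear.hmap (σ e ≫ μe hG a hI n e) i y :=
    fun e => (CohLinear.hmap_comp _ _ i y).symm
  rw [Finset.sum_congr rfl fun e _ => h e]
  refine Eq.trans ?_ (CohLinear.hmap_id i y)
  rw [← hσ, hmap_sum]

/-- finitely many homogeneous elements generate, and an invariant predicate passes to all elements -/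
theorem exists_bound [IsNoetherianRing A] [Module.Finite A (Coh.HH X (G.obj (op 0)) i)]
    (P : ∀ m, (Sn r m → Coh.HH X (G.obj (op 0)) i) → Prop) :
    ∃ c : ℕ, ∀ (n : ℕ) (R : Submodule A (Coh.HH X (K G n) i)),
      (∀ m ≤ c, ∀ w, P m w → ∀ (d : Fin r →₀ ℕ) (hd : d.degree + m = n),
        CohLinear.hmap (kmul hG (show m ≤ n by omega) (aE a d) (aE_mem_sub hG a hI hd)) i
          (Φp hG a hI i m (homog i m w)) ∈ R) →
      ∀ w, P n w → Φp hG a hI i n (homog i n w) ∈ R := by
  classical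
  let S : Set (MvPolynomial (Fin r) A ⊗[A] Coh.HH X (G.obj (op 0)) i) := {t | ∃ m w, P m w ∧ homog i m w = t}
  haveI : IsNoetherian (MvPolynomial (Fin r) A) (MvPolynomial (Fin r) A ⊗[A] Coh.HH X (G.obj (op 0)) i) :=
    isNoetherian_of_isNoetherianRing_of_finite (MvPolynomial (Fin r) A) (MvPolynomial (Fin r) A ⊗[A] Coh.HH X (G.obj (op 0)) i)
  obtain ⟨s, hs, hspan⟩ := (Submodule.fg_span_iff_fg_span_finset_subset S).1 (IsNoetherian.noetherian (R := MvPolynomial (Fin r) A) _)
  choose m w hw hm using fun t : s => hs t.2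
  let c := Finset.univ.sup m
  refine ⟨c, fun n R hR v hv => ?_⟩
  suffices h : ∀ u ∈ Submodule.span (MvPolynomial (Fin r) A) (S : Set _), ∀ b : MvPolynomial (Fin r) A,
      Φp hG a hI i n (b • u) ∈ R by
    simpa using h _ (Submodule.subset_span ⟨n, v, hv, rfl⟩) 1
  intro u hu
  rw [hspan] at hu
  induction hu using Submodule.span_induction with
  | mem t ht =>
    intro b
    rw [show t = homog i _ (w ⟨t, ht⟩) from (hm ⟨t, ht⟩).symm]
    induction b using MvPolynomial.induction_on' with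
    | monomial d x =>
      by_cases hd : d.degree + m ⟨t, ht⟩ = n
      · rw [(Φp_monomial_smul hG a hI i _ n d x _).1 hd]
        exact R.smul_mem x (hR _ (Finset.le_sup (Finset.mem_univ _)) _ (hw _) d hd)
      · rw [(Φp_monomial_smul hG a hI i _ n d x _).2 hd]
        exact R.zero_mem
    | add p q hp hq => rw [add_smul, map_add]; exact R.add_mem hp hq
  | zero => intro b; rw [smul_zero, map_zero]; exact R.zero_mem
  | add p q _ _ hp hq => intro b; rw [smul_add, map_add]; exact R.add_mem (hp b) (hq b)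
  | smul q p _ hp => intro b; rw [smul_smul]; exact hp _

end Groth.L29.Graded
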