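import Groth.Agent.L07.QuasiRegular
import Groth.Agent.L16.Existence.Lemmas
import Mathlib.Algebra.TrivSqZeroExt.Basic
import Mathlib.RingTheory.MvPolynomial.Ideal

/-!
Regular sequences on a module are quasi-regular on it, by idealisation over a polynomial ring.
-/

set_option autoImplicit false
set_option linter.style.haveILetI false

universe u

open scoped Pointwise
open MvPolynomial

noncomputable section

namespace Groth.L29.QRegMod

variable {R : Type u} [CommRing R] {c : ℕ} (f : Fin c → R) (H : Type u) [AddCommGroup H] [Module R H]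

/-- the module with the variables acting through `f` -/
@[implicit_reducible] def pmod : Module (MvPolynomial (Fin c) R) H := Module.compHom H (eval f)

/-- opposite action -/
@[implicit_reducible] def pmodOp : Module (MvPolynomial (Fin c) R)ᵐᵒᵖ H :=
  Module.compHom H ((eval f).comp ((RingHom.id (MvPolynomial (Fin c) R)).fromOpposite fun a b => mul_comm a b))

theorem central :
    letI := pmod f H; letI := pmodOp f H; IsCentralScalar (MvPolynomial (Fin c) R) H :=
  letI := pmod f H; letI := pmodOp f H; ⟨fun _ _ => rfl⟩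

theorem mem_ofList_smul {t : Set (Fin c)} {l : List R} (hl : ∀ x, x ∈ l ↔ ∃ i ∈ t, f i = x) (h : H) :
    h ∈ Submodule.span R {y : H | ∃ i ∈ t, ∃ h', f i • h' = y} ↔ h ∈ Ideal.ofList l • (⊤ : Submodule R H) := by
  constructor
  · refine fun hh => Submodule.span_le.2 ?_ hh
    rintro _ ⟨i, hi, h', rfl⟩
    exact Submodule.smul_mem_smul (Ideal.subset_span ((hl _).2 ⟨i, hi, rfl⟩)) trivial
  · intro hh
    refine Submodule.smul_induction_on hh (fun b hb h' _ => ?_) fun _ _ => add_mem
    induction hb using Submodule.span_induction with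
    | mem x hx =>
      obtain ⟨i, hi, rfl⟩ := (hl x).1 hx
      exact Submodule.subset_span ⟨i, hi, h', rfl⟩
    | zero => simp
    | add x y _ _ hx hy => rw [add_smul]; exact add_mem hx hy
    | smul r x _ hx => rw [smul_eq_mul, mul_smul]; exact Submodule.smul_mem _ _ hx

/-- membership in the ideal of the idealisation generated by some variables -/
theorem mem_span_iff (t : Set (Fin c))
    (z : TrivSqZeroExt (MvPolynomial (Fin c) R) H) :
    letI := pmod f H; letI := pmodOp f H; haveI := central f H
    z ∈ Ideal.span ((fun i => TrivSqZeroExt.inl (X i) : Fin c → TrivSqZeroExt (MvPolynomial (Fin c) R) H) '' t) ↔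
      z.fst ∈ Ideal.span (X '' t : Set (MvPolynomial (Fin c) R)) ∧
        z.snd ∈ Submodule.span R {y : H | ∃ i ∈ t, ∃ h, f i • h = y} := by
  letI := pmod f H; letI := pmodOp f H; haveI := central f H
  let N : Submodule R H := Submodule.span R {y : H | ∃ i ∈ t, ∃ h, f i • h = y}
  have hN : ∀ (p : MvPolynomial (Fin c) R) (y : H), y ∈ N → p • y ∈ N := fun p y hy => N.smul_mem (eval f p) hy
  have hNp : ∀ p ∈ Ideal.span (X '' t : Set (MvPolynomial (Fin c) R)), ∀ y : H, p • y ∈ N := by
    intro p hp
    induction hp using Submodule.span_induction with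
    | mem p hp =>
      obtain ⟨i, hi, rfl⟩ := hp
      intro y
      refine Submodule.subset_span ⟨i, hi, y, ?_⟩
      change f i • y = eval f (X i) • y
      rw [eval_X]
    | zero => intro y; rw [zero_smul]; exact N.zero_mem
    | add p q _ _ hp hq => intro y; rw [add_smul]; exact N.add_mem (hp y) (hq y)
    | smul q p _ hp => intro y; rw [smul_eq_mul, mul_smul]; exact hN q _ (hp y)
  constructor
  · intro hz
    induction hz using Submodule.span_induction with
    | mem z hz =>
      obtain ⟨i, hi, rfl⟩ := hz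
      exact ⟨Ideal.subset_span ⟨i, hi, rfl⟩, N.zero_mem⟩
    | zero => exact ⟨Submodule.zero_mem _, N.zero_mem⟩
    | add z z' _ _ h h' => exact ⟨add_mem h.1 h'.1, add_mem h.2 h'.2⟩
    | smul a z _ h =>
      refine ⟨by rw [smul_eq_mul, TrivSqZeroExt.fst_mul]; exact Ideal.mul_mem_left _ _ h.1, ?_⟩
      rw [smul_eq_mul, TrivSqZeroExt.snd_mul, op_smul_eq_smul]
      exact N.add_mem (hN _ _ h.2) (hNp _ h.1 _)
  · rintro ⟨h1, h2⟩
    rw [← TrivSqZeroExt.inl_fst_add_inr_snd_eq z]
    refine add_mem ?_ ?_
    · have := Ideal.mem_map_of_mem (TrivSqZeroExt.inlHom (MvPolynomial (Fin c) R) H) h1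
      rwa [Ideal.map_span, Set.image_image] at this
    · generalize z.snd = y₀ at h2 ⊢
      induction h2 using Submodule.span_induction with
      | mem y hy =>
        obtain ⟨i, hi, h, rfl⟩ := hy
        rw [show f i • h = (X i : MvPolynomial (Fin c) R) • h by
          change f i • h = eval f (X i) • h; rw [eval_X], ← TrivSqZeroExt.inl_mul_inr]
        exact Ideal.mul_mem_right _ _ (Ideal.subset_span ⟨i, hi, rfl⟩)
      | zero => rw [TrivSqZeroExt.inr_zero]; exact Submodule.zero_mem _
      | add y y' _ _ h h' => rw [TrivSqZeroExt.inr_add]; exact add_mem h h'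
      | smul r y _ h =>
        rw [show r • y = (C r : MvPolynomial (Fin c) R) • y by
          change r • y = eval f (C r) • y; rw [eval_C], ← TrivSqZeroExt.inl_mul_inr]
        exact Ideal.mul_mem_left _ _ h

/-- the variables are weakly regular on the idealisation -/
theorem isWeaklyRegular (hf : RingTheory.Sequence.IsWeaklyRegular H (List.ofFn f)) :
    letI := pmod f H; letI := pmodOp f H; haveI := central f H
    RingTheory.Sequence.IsWeaklyRegular (TrivSqZeroExt (MvPolynomial (Fin c) R) H)
      (List.ofFn fun i => (TrivSqZeroExt.inl (X i) : TrivSqZeroExt (MvPolynomial (Fin c) R) H)) := by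
  classical
  letI := pmod f H; letI := pmodOp f H; haveI := central f H
  let T : Fin c → TrivSqZeroExt (MvPolynomial (Fin c) R) H := fun i => TrivSqZeroExt.inl (X i)
  refine ⟨fun k hk => ?_⟩
  have hk' : k < c := by simpa using hk
  let j : Fin c := ⟨k, hk'⟩
  let t : Set (Fin c) := {i | i.1 < k}
  have htake : ∀ {α : Type u} (g : Fin c → α) (x : α), x ∈ (List.ofFn g).take k ↔ ∃ i ∈ t, g i = x := by
    intro α g x
    rw [List.mem_take_iff_getElem]
    constructor
    · rintro ⟨i, hi, rfl⟩
      simp at hi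
      exact ⟨⟨i, hi.2⟩, hi.1, by simp⟩
    · rintro ⟨i, hi, rfl⟩
      exact ⟨i.1, by simp only [List.length_ofFn]; exact lt_min hi i.2, by simp⟩
  have hS : ∀ z, z ∈ Ideal.ofList ((List.ofFn T).take k) • (⊤ : Submodule (TrivSqZeroExt (MvPolynomial (Fin c) R) H) _) ↔
      z ∈ Ideal.span (T '' t) := by
    intro z
    rw [smul_eq_mul, Ideal.mul_top, Ideal.ofList,
      show {r | r ∈ (List.ofFn T).take k} = T '' t from Set.ext fun x => (htake T x).trans (by simp [Set.mem_image])]
  rw [List.getElem_ofFn]
  intro a b hab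
  obtain ⟨a, rfl⟩ := Submodule.Quotient.mk_surjective _ a
  obtain ⟨b, rfl⟩ := Submodule.Quotient.mk_surjective _ b
  change Submodule.Quotient.mk (T j • a) = Submodule.Quotient.mk (T j • b) at hab
  rw [Submodule.Quotient.eq, ← smul_sub, hS, mem_span_iff] at hab
  rw [Submodule.Quotient.eq, hS, mem_span_iff]
  obtain ⟨h1, h2⟩ := hab
  refine ⟨?_, ?_⟩
  · rw [smul_eq_mul, TrivSqZeroExt.fst_mul, TrivSqZeroExt.fst_inl, mem_ideal_span_X_image] at h1
    rw [mem_ideal_span_X_image]
    intro m hm
    obtain ⟨i, hi, hmi⟩ := h1 (Finsupp.single j 1 + m) (by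
      rw [mem_support_iff, coeff_X_mul]; exact mem_support_iff.1 hm)
    refine ⟨i, hi, ?_⟩
    have hij : i ≠ j := fun h => lt_irrefl k (show (j : ℕ) < k from h ▸ hi)
    simpa [hij.symm] using hmi
  · rw [smul_eq_mul, TrivSqZeroExt.snd_mul, TrivSqZeroExt.fst_inl, TrivSqZeroExt.snd_inl, smul_zero, add_zero] at h2
    change eval f (X j) • (a - b).snd ∈ _ at h2
    rw [eval_X, mem_ofList_smul f H (htake f)] at h2
    rw [mem_ofList_smul f H (htake f)]
    have hr := hf.regular_mod_prev k (by simpa using hk')
    rw [List.getElem_ofFn] at hr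
    have h3 := hr (a₁ := Submodule.Quotient.mk (a - b).snd) (a₂ := 0) (by
      change f j • Submodule.Quotient.mk _ = f j • _
      rw [smul_zero, ← Submodule.Quotient.mk_smul, Submodule.Quotient.mk_eq_zero]
      exact h2)
    exact (Submodule.Quotient.mk_eq_zero _).1 h3

/-- a regular sequence on a module is quasi-regular on it -/
theorem mem_smul_top_of_sum_mem (hf : RingTheory.Sequence.IsWeaklyRegular H (List.ofFn f)) (n : ℕ)
    (s : Finset (Fin c →₀ ℕ)) (hs : ∀ e ∈ s, e.degree = n) (m : (Fin c →₀ ℕ) → H)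
    (h : ∑ e ∈ s, Groth.L16.Existence.aE f e • m e ∈ Ideal.span (Set.range f) ^ (n + 1) • (⊤ : Submodule R H)) :
    ∀ e ∈ s, m e ∈ Ideal.span (Set.range f) • (⊤ : Submodule R H) := by
  classical
  letI := pmod f H; letI := pmodOp f H; haveI := central f H
  let T : Fin c → TrivSqZeroExt (MvPolynomial (Fin c) R) H := fun i => TrivSqZeroExt.inl (X i)
  have hq := Groth.L07.QReg.isQuasiRegular_of_isWeaklyRegular (isWeaklyRegular f H hf)
  let P : MvPolynomial (Fin c) (TrivSqZeroExt (MvPolynomial (Fin c) R) H) :=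
    ∑ e ∈ s, monomial e (TrivSqZeroExt.inr (m e))
  have hP : P.IsHomogeneous n :=
    IsHomogeneous.sum _ _ _ fun e he => isHomogeneous_monomial _ (hs e he)
  have hinr : ∀ y ∈ Ideal.span (Set.range f) ^ (n + 1) • (⊤ : Submodule R H),
      (TrivSqZeroExt.inr y : TrivSqZeroExt (MvPolynomial (Fin c) R) H) ∈ Ideal.span (Set.range T) ^ (n + 1) := by
    intro y hy
    refine Submodule.smul_induction_on hy (fun b hb y _ => ?_) fun y y' hy hy' => by
      rw [TrivSqZeroExt.inr_add]; exact add_mem hy hy'
    have hsurj : Function.Surjective (eval f) := fun r => ⟨C r, eval_C _⟩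
    rw [show Set.range f = eval f '' Set.range X by rw [← Set.range_comp]; congr 1; ext i; simp,
      ← Ideal.map_span, ← Ideal.map_pow] at hb
    obtain ⟨Q, hQ, rfl⟩ := (Ideal.mem_map_iff_of_surjective _ hsurj).1 hb
    rw [show eval f Q • y = Q • y from rfl, ← TrivSqZeroExt.inl_mul_inr]
    refine Ideal.mul_mem_right _ _ ?_
    have := Ideal.mem_map_of_mem (TrivSqZeroExt.inlHom (MvPolynomial (Fin c) R) H) hQ
    rw [Ideal.map_pow, Ideal.map_span, ← Set.range_comp] at this
    exact this
  have heval : eval T P = TrivSqZeroExt.inr (∑ e ∈ s, Groth.L16.Existence.aE f e • m e) := by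
    rw [map_sum, TrivSqZeroExt.inr_sum]
    refine Finset.sum_congr rfl fun e _ => ?_
    rw [eval_monomial]
    have h1 : (e.prod fun i k => T i ^ k) = TrivSqZeroExt.inl (e.prod fun i k => (X i : MvPolynomial (Fin c) R) ^ k) := by
      change _ = TrivSqZeroExt.inlHom (MvPolynomial (Fin c) R) H _
      rw [map_finsuppProd]
      simp [T]
    rw [h1, mul_comm, TrivSqZeroExt.inl_mul_inr]
    congr 1
    change eval f _ • m e = _
    rw [map_finsuppProd]
    simp [Groth.L16.Existence.aE]
  intro e he
  have hc := hq n P hP (by rw [heval]; exact hinr _ h) e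
  rw [coeff_sum, Finset.sum_eq_single e (fun d _ hd => by rw [coeff_monomial, if_neg hd]) (fun h => absurd he h),
    coeff_monomial, if_pos rfl, ← Set.image_univ, mem_span_iff] at hc
  have := (mem_ofList_smul f H (t := Set.univ) (l := List.ofFn f) (fun x => by simp [List.mem_ofFn]) _).1 hc.2
  rwa [TrivSqZeroExt.snd_inr, Groth.L07.QReg.ofList_ofFn] at this

end Groth.L29.QRegMod
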