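import Groth.Agent.L29.Formal.FreeLevelsSect

/-!
The three conditions for canonical extension of a formal module along a nonzerodivisor, locally free over the
thickenings.
-/

set_option autoImplicit false
set_option backward.isDefEq.respectTransparency false
set_option backward.isDefEq.respectTransparency.types false
set_option linter.style.haveILetI false

universe u

open CategoryTheory CategoryTheory.Limits AlgebraicGeometry TopologicalSpace Opposite

noncomputable section

namespace Groth.L29.FreeLevels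

open Groth.L16.Existence (tr)

variable {A : Type u} [CommRing A] [IsNoetherianRing A] {U : (Spec (CommRingCat.of A)).Opens} {f : A}
  {G : ℕᵒᵖ ⥤ (U : Scheme.{u}).Modules}

/-- the abstract shape of the system of sections -/
structure Levels (X : ℕᵒᵖ ⥤ ModuleCat.{u} A) (f : A) (W : Type u) [AddCommGroup W] [Module A W] where
  e : ∀ n, X.obj (op n) →ₗ[A] X.obj (op (n + 1))
  e_injective : ∀ n, Function.Injective (e n)
  tr_e : ∀ n x, e n ((X.map (homOfLE (Nat.le_succ n)).op).hom x) = f • x
  e_tr : ∀ n x, (X.map (homOfLE (Nat.le_succ n)).op).hom (e n x) = f • x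
  exact_bot : ∀ n y, (X.map (homOfLE (Nat.zero_le (n + 1))).op).hom y = 0 ↔ ∃ x, e n x = y
  obs : ∀ n, X.obj (op n) →ₗ[A] W
  obs_e : ∀ n x, obs (n + 1) (e n x) = obs n x
  lift : ∀ n x, obs n x = 0 → ∃ z, (X.map (homOfLE (Nat.le_succ n)).op).hom z = x

namespace Levels

variable {X : ℕᵒᵖ ⥤ ModuleCat.{u} A} {W : Type u} [AddCommGroup W] [Module A W] (L : Levels X f W)

omit [IsNoetherianRing A] in
theorem tr_tr {a b c : ℕ} (h₁ : a ≤ b) (h₂ : b ≤ c) (x : X.obj (op c)) :
    (X.map (homOfLE h₁).op).hom ((X.map (homOfLE h₂).op).hom x) = (X.map (homOfLE (h₁.trans h₂)).op).hom x := by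
  rw [← ConcreteCategory.comp_apply, ← X.map_comp]
  rfl

omit [IsNoetherianRing A] in
theorem tr_refl (a : ℕ) (x : X.obj (op a)) : (X.map (homOfLE (le_refl a)).op).hom x = x := by
  rw [show (homOfLE (le_refl a)).op = 𝟙 (op a) from rfl, CategoryTheory.Functor.map_id]
  rfl

omit [IsNoetherianRing A] in
/-- transition maps commute with the multiplication maps -/
theorem tr_comm {a b : ℕ} (h : a ≤ b) (x : X.obj (op b)) :
    (X.map (homOfLE (Nat.succ_le_succ h)).op).hom (L.e b x) = L.e a ((X.map (homOfLE h).op).hom x) := by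
  induction b, h using Nat.le_induction with
  | base => exact (tr_refl _ _).trans (congrArg _ (tr_refl _ _).symm)
  | succ b hb ih =>
    rw [← tr_tr (Nat.succ_le_succ hb) (Nat.le_succ (b + 1)), L.e_tr, ← L.tr_e b x, ih, tr_tr]

/-- iterated multiplication map -/
def iter (c : ℕ) : ∀ k, X.obj (op c) →ₗ[A] X.obj (op (c + k))
  | 0 => LinearMap.id
  | k + 1 => (L.e (c + k)).comp (iter c k)

omit [IsNoetherianRing A] in
theorem obs_iter (c : ℕ) : ∀ k x, L.obs (c + k) (L.iter c k x) = L.obs c x
  | 0, _ => rfl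
  | k + 1, x => (L.obs_e (c + k) _).trans (obs_iter c k x)

omit [IsNoetherianRing A] in
theorem tr_iter (c : ℕ) : ∀ (k n : ℕ) (_ : n + 1 ≤ k) (h : n ≤ c + k) (x : X.obj (op c)),
    (X.map (homOfLE h).op).hom (L.iter c k x) = 0
  | 0, n, hn, _, _ => absurd hn (by omega)
  | k + 1, 0, _, _, x => (L.exact_bot (c + k) _).2 ⟨_, rfl⟩
  | k + 1, n + 1, hn, h, x => by
    refine (L.tr_comm (show n ≤ c + k by omega) (L.iter c k x)).trans ?_
    rw [tr_iter c k n (by omega) (by omega) x, map_zero]


theorem exists_stable [Module.Finite A W] : ∃ c : ℕ, ∀ n, c ≤ n → ∀ y, ∃ z : X.obj (op c), L.obs c z = L.obs n y := by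
  haveI : IsNoetherian A W := isNoetherian_of_isNoetherianRing_of_finite A W
  have hmono : Monotone fun n => LinearMap.range (L.obs n) := monotone_nat_of_le_succ fun n => by
    rintro _ ⟨x, rfl⟩
    exact ⟨L.e n x, L.obs_e n x⟩
  obtain ⟨c, hc⟩ := monotone_stabilizes_iff_noetherian.2 ‹IsNoetherian A W› ⟨_, hmono⟩
  exact ⟨c, fun n hn y => (hc n hn).ge ⟨y, rfl⟩⟩

include L in
theorem isML_of_stable (hst : ∃ c : ℕ, ∀ n, c ≤ n → ∀ y, ∃ z : X.obj (op c), L.obs c z = L.obs n y) :
    ARSys.IsML X := by
  obtain ⟨c, hc⟩ := hst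
  intro n
  refine ⟨c + (n + 1), fun s hs => ?_⟩
  have key : ∀ m (hm : n + (c + (n + 1)) ≤ m) (x : X.obj (op (n + (c + (n + 1))))),
      ∃ y : X.obj (op m), (X.map (homOfLE (show n ≤ m by omega)).op).hom y =
        (X.map (homOfLE (Nat.le_add_right n (c + (n + 1)))).op).hom x := by
    intro m hm x
    induction m, hm using Nat.le_induction with
    | base => exact ⟨x, rfl⟩
    | succ m hm ih =>
      obtain ⟨y, hy⟩ := ih
      obtain ⟨z, hz⟩ := hc m (by omega) y
      obtain ⟨d, rfl⟩ := Nat.exists_eq_add_of_le (show c ≤ m by omega)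
      obtain ⟨w, hw⟩ := L.lift (c + d) (y - L.iter c d z) (by rw [map_sub, obs_iter, hz, sub_self])
      refine ⟨w, ?_⟩
      rw [← tr_tr (show n ≤ c + d by omega) (Nat.le_succ (c + d)), hw, map_sub, hy,
        L.tr_iter c d n (by omega) _ z, sub_zero]
  have hle : ∀ a b : ℕ, (∀ x : X.obj (op (n + a)), ∃ y : X.obj (op (n + b)),
      (ARSys.shiftMap X b n).hom y = (ARSys.shiftMap X a n).hom x) →
      imageSubobject (ARSys.shiftMap X a n) ≤ imageSubobject (ARSys.shiftMap X b n) := fun a b hab => by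
    refine Groth.L12.Algz.imageSubobject_le_of_comp_cokernel _ _ (ModuleCat.hom_ext (LinearMap.ext fun x => ?_))
    obtain ⟨y, hy⟩ := hab x
    change (cokernel.π (ARSys.shiftMap X b n)).hom ((ARSys.shiftMap X a n).hom x) = 0
    rw [← hy]
    exact ConcreteCategory.congr_hom (cokernel.condition (ARSys.shiftMap X b n)) y
  refine le_antisymm (hle s (c + (n + 1)) fun x => ?_) (hle (c + (n + 1)) s fun x => key (n + s) (by omega) x)
  exact ⟨(X.map (homOfLE (Nat.add_le_add_left hs n)).op).hom x, tr_tr _ _ x⟩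

include L in
theorem isML [Module.Finite A W] : ARSys.IsML X := L.isML_of_stable L.exists_stable

/-- stability of the obstruction spaces from a map with a Noetherian target -/
theorem exists_stable_of_map {V : Type u} [AddCommGroup V] [Module A V] (ψ : W →ₗ[A] V) (W' : Submodule A V)
    [IsNoetherian A W'] (c₀ : ℕ) (hker : LinearMap.ker ψ ≤ LinearMap.range (L.obs c₀))
    (hmem : ∀ n x, ψ (L.obs n x) ∈ W') :
    ∃ c : ℕ, ∀ n, c ≤ n → ∀ y, ∃ z : X.obj (op c), L.obs c z = L.obs n y := by
  have hmono : Monotone fun n => LinearMap.range (L.obs n) := monotone_nat_of_le_succ fun n => by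
    rintro _ ⟨x, rfl⟩
    exact ⟨L.e n x, L.obs_e n x⟩
  let S : ℕ →o Submodule A W' :=
    ⟨fun n => ((LinearMap.range (L.obs n)).map ψ).comap W'.subtype,
      fun a b h => Submodule.comap_mono (Submodule.map_mono (hmono h))⟩
  obtain ⟨c, hc⟩ := monotone_stabilizes_iff_noetherian.2 ‹IsNoetherian A W'› S
  refine ⟨c + c₀, fun n hn y => ?_⟩
  have h1 : (⟨ψ (L.obs n y), hmem n y⟩ : W') ∈ S (c + c₀) := by
    rw [← hc (c + c₀) (Nat.le_add_right _ _), hc n (by omega)]
    exact ⟨L.obs n y, ⟨y, rfl⟩, rfl⟩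
  obtain ⟨w, ⟨z, rfl⟩, hz⟩ := h1
  obtain ⟨v, hv⟩ := hmono (Nat.le_add_left c₀ c) (hker (show L.obs n y - L.obs (c + c₀) z ∈ LinearMap.ker ψ by
    rw [LinearMap.mem_ker, map_sub, sub_eq_zero]
    exact hz.symm))
  exact ⟨z + v, by rw [map_add, hv, add_sub_cancel]⟩

include L in
theorem ker_π_le (n : ℕ) :
    LinearMap.ker (limit.π X (op n)).hom ≤ Ideal.span {f} ^ (n + 1) • (⊤ : Submodule A ↑(limit X)) := by
  have hπ : ∀ {p q : ℕ} (h : p ≤ q) (x : ↑(limit X)),
      (X.map (homOfLE h).op).hom ((limit.π X (op q)).hom x) = (limit.π X (op p)).hom x := fun h x =>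
    ConcreteCategory.congr_hom (limit.w X (homOfLE h).op) x
  have hdiv : ∀ x : ↑(limit X), (limit.π X (op 0)).hom x = 0 →
      ∃ y : ↑(limit X), f • y = x ∧ ∀ m, L.e m ((limit.π X (op m)).hom y) = (limit.π X (op (m + 1))).hom x := by
    intro x hx
    choose y hy using fun m => (L.exact_bot m ((limit.π X (op (m + 1))).hom x)).1 (by rw [hπ, hx])
    have hcomp : ∀ {p q : ℕ} (h : p ≤ q), (X.map (homOfLE h).op).hom (y q) = y p := fun {p q} h => by
      refine L.e_injective p ?_
      rw [← L.tr_comm h, hy, hy, hπ]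
    let c : Cone X :=
      { pt := ModuleCat.of A (ULift.{u} A)
        π := { app := fun k => ModuleCat.ofHom ((LinearMap.toSpanSingleton A _ (y k.unop)).comp ULift.moduleEquiv.toLinearMap)
               naturality := by
                rintro ⟨q⟩ ⟨p⟩ g
                have hpq : p ≤ q := leOfHom g.unop
                rw [show g = (homOfLE hpq).op from rfl]
                ext t
                show t.down • y p = (X.map (homOfLE hpq).op).hom (t.down • y q)
                rw [map_smul, hcomp hpq] } }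
    have hy' : ∀ m, (limit.π X (op m)).hom ((limit.lift X c).hom ⟨1⟩) = y m := fun m =>
      (ConcreteCategory.congr_hom (limit.lift_π c (op m)) (ULift.up 1)).trans (one_smul A (y m))
    refine ⟨(limit.lift X c).hom ⟨1⟩, Concrete.limit_ext X _ _ fun k => ?_, fun m => by rw [hy', hy]⟩
    obtain ⟨m⟩ := k
    change (limit.π X (op m)).hom (f • _) = (limit.π X (op m)).hom x
    rw [map_smul, hy', ← L.e_tr m (y m), hy, hπ]
  have key : ∀ m (x : ↑(limit X)), (limit.π X (op m)).hom x = 0 → ∃ y : ↑(limit X), f ^ (m + 1) • y = x := by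
    intro m
    induction m with
    | zero =>
      intro x hx
      obtain ⟨y, hy, -⟩ := hdiv x hx
      exact ⟨y, by rw [zero_add, pow_one, hy]⟩
    | succ m ih =>
      intro x hx
      obtain ⟨y, hy, hye⟩ := hdiv x (by rw [← hπ (Nat.zero_le (m + 1)), hx, map_zero])
      obtain ⟨y', hy'⟩ := ih y (L.e_injective m (by rw [hye, hx, map_zero]))
      exact ⟨y', by rw [pow_succ', mul_smul, hy', hy]⟩
  intro x hx
  obtain ⟨y, rfl⟩ := key n x (LinearMap.mem_ker.1 hx)
  exact Submodule.smul_mem_smul (Ideal.pow_mem_pow (Ideal.mem_span_singleton_self f) _) trivial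

include L in
theorem finite_obj [Module.Finite A (X.obj (op 0))] : ∀ n, Module.Finite A (X.obj (op n))
  | 0 => inferInstance
  | n + 1 => by
    haveI := finite_obj n
    exact Groth.L16.CohLinear.finite_of_exact A (L.e n) (X.map (homOfLE (Nat.zero_le (n + 1))).op).hom
      (fun y => ⟨fun h => (L.exact_bot n y).1 h, fun h => (L.exact_bot n y).2 h⟩)

end Levels

variable (hG : _root_.Formal.IsCohFormal (Ideal.span {f}) G)
  (hfree : ∀ n : ℕ, Formal2.IsFinLocFreeMod (Ideal.span {f}) (n + 1) (G.obj (op n))) (hf : f ∈ nonZeroDivisors A)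

/-- the system of sections has the shape `Levels` -/
def levels : Levels (_root_.Algz.sectMod A U G) f (Coh.HH (U : Scheme.{u}) (G.obj (op 0)) 1) where
  e n := ((Sec U).map (eMap hG n)).hom
  e_injective n := haveI := mono_eMap hG hfree hf n; injective_of_mono U (eMap hG n)
  tr_e n x := by
    change ((Sec U).map (eMap hG n)).hom (((Sec U).map (tr G n (n + 1) (Nat.le_succ n))).hom x) = f • x
    rw [← ConcreteCategory.comp_apply, ← Functor.map_comp, tr_eMap]
    exact Sec_smulMod U _ f x
  e_tr n x := by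
    change ((Sec U).map (tr G n (n + 1) (Nat.le_succ n))).hom (((Sec U).map (eMap hG n)).hom x) = f • x
    rw [← ConcreteCategory.comp_apply, ← Functor.map_comp, eMap_tr]
    exact Sec_smulMod U _ f x
  exact_bot n y := by
    refine ⟨fun hy => exists_of_exact U (bot hG n) (bot_shortExact hG hfree hf n) y hy, ?_⟩
    rintro ⟨x, rfl⟩
    change ((Sec U).map (tr G 0 (n + 1) (Nat.zero_le _))).hom (((Sec U).map (eMap hG n)).hom x) = 0
    rw [← ConcreteCategory.comp_apply, ← Functor.map_comp, eMap_tr_zero]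
    haveI : (Scheme.Modules.pushforward U.ι).Additive :=
      (Scheme.Modules.pullbackPushforwardAdjunction U.ι).right_adjoint_additive
    haveI : (moduleSpecΓFunctor (R := CommRingCat.of A)).Additive :=
      (tilde.adjunction (R := CommRingCat.of A)).right_adjoint_additive
    haveI : (Sec U).Additive := inferInstance
    exact congrArg (fun g : (Sec U).obj (G.obj (op n)) ⟶ (Sec U).obj (G.obj (op 0)) => g.hom x) ((Sec U).map_zero _ _)
  obs n := obs hG (step_shortExact hG hfree hf) n
  obs_e n x := obs_eMap hG (step_shortExact hG hfree hf) n x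
  lift n x hx := exists_lift_of_obs hG (step_shortExact hG hfree hf) n x hx

include hG hfree hf in
/-- Formal modules along a nonzerodivisor canonically extend once `H⁰` and `H¹` of the bottom level are finite. -/
theorem canonicallyExtends [Module.Finite A ((Sec U).obj (G.obj (op 0)))]
    [Module.Finite A (Coh.HH (U : Scheme.{u}) (G.obj (op 0)) 1)] :
    _root_.Algz.CanonicallyExtends A (Ideal.span {f}) U G := by
  let L := levels hG hfree hf
  haveI : Module.Finite A ((_root_.Algz.sectMod A U G).obj (op 0)) := ‹Module.Finite A ((Sec U).obj (G.obj (op 0)))›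
  refine Groth.L12.Algz.canonicallyExtends_of U G hG L.isML (fun k => ⟨k, (L.ker_π_le k).trans ?_⟩) fun n => ?_
  · exact Submodule.smul_mono_left (Ideal.pow_le_pow_right (Nat.le_succ k))
  · haveI := L.finite_obj n
    haveI := isNoetherian_of_isNoetherianRing_of_finite A ((_root_.Algz.sectMod A U G).obj (op n))
    exact Module.IsNoetherian.finite _ _

end Groth.L29.FreeLevels
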