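import Groth.Agent.L16.Exist.Alg
import Groth.Agent.L04.LC.CdOne

/-!
Algebra for the limit topology in cohomological dimension one: iterated splittings of the powers of the ideal, and
elements of a level of an adic system annihilated by a power of the ideal.
-/

set_option autoImplicit false
set_option linter.style.haveILetI false

universe u

noncomputable section

namespace Groth.L29.CdOne

/-- linear functions on a power of an ideal respect the filtration -/
theorem mem_pow_of_mem_pow_add {A : Type u} [CommRing A] (I : Ideal A) {k : ℕ} (ψ : ↥(I ^ k) →ₗ[A] A) (d : ℕ)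
    (x : A) (hx : x ∈ I ^ (d + k)) (hxk : x ∈ I ^ k) : ψ ⟨x, hxk⟩ ∈ I ^ d := by
  have h1 : x ∈ (I ^ d • (⊤ : Submodule A ↥(I ^ k))).map (Submodule.subtype (I ^ k)) := by
    rw [Submodule.map_smul'', Submodule.map_top, Submodule.range_subtype, smul_eq_mul, ← pow_add]
    exact hx
  obtain ⟨z, hz, hzx⟩ := h1
  rw [show (⟨x, hxk⟩ : ↥(I ^ k)) = z from Subtype.ext hzx.symm]
  refine Submodule.smul_induction_on hz (fun b hb w _ => ?_) fun y y' hy hy' => by rw [map_add]; exact add_mem hy hy'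
  rw [map_smul]
  exact Ideal.mul_mem_right _ _ hb

/-- iterated splitting: `x = ∑ a_i ψ_i(x)` on `I^k` with `a_i ∈ I^m` -/
theorem exists_splitting_pow {A : Type u} [CommRing A] [IsNoetherianRing A] (I : Ideal A) (h : LocCoh.CdLE A I 1)
    (m : ℕ) : ∃ (ι : Type) (_ : Fintype ι) (a : ι → A) (k : ℕ) (ψ : ι → (↥(I ^ k) →ₗ[A] A)),
      (∀ i, a i ∈ I ^ m) ∧ ∀ x : ↥(I ^ k), (x : A) = ∑ i, a i * ψ i x := by
  classical
  induction m with
  | zero =>
    exact ⟨PUnit, inferInstance, fun _ => 1, 0, fun _ => (I ^ 0).subtype, fun _ => by simp, fun x => by simp⟩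
  | succ m ih =>
    obtain ⟨ι, hι, a, k, ψ, ha, hψ⟩ := ih
    obtain ⟨r, f, hf⟩ := Submodule.fg_iff_exists_fin_generating_family.1 (IsNoetherian.noetherian I)
    have hI : I = Ideal.span (Set.range f) := hf.symm
    subst hI
    obtain ⟨c, φ, hφ⟩ := Groth.L04.LC.exists_splitting f h
    generalize hI : Ideal.span (Set.range f) = I at ha ψ hψ φ hφ ⊢
    have hfI : ∀ j, f j ∈ I := fun j => hI ▸ Ideal.subset_span ⟨j, rfl⟩
    have hmem : ∀ i, ∀ x ∈ I ^ (c + 1 + k), ∀ hx : x ∈ I ^ k, ψ i ⟨x, hx⟩ ∈ I ^ (c + 1) :=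
      fun i => mem_pow_of_mem_pow_add I (ψ i) (c + 1)
    have hle : I ^ (c + 1 + k) ≤ I ^ k := Ideal.pow_le_pow_right (by omega)
    let θ : ι → (↥(I ^ (c + 1 + k)) →ₗ[A] ↥(I ^ (c + 1))) := fun i =>
      ((ψ i).comp (Submodule.inclusion hle)).codRestrict _ fun x => hmem i x.1 x.2 (hle x.2)
    refine ⟨ι × Fin r, inferInstance, fun p => a p.1 * f p.2, c + 1 + k, fun p => (φ p.2).comp (θ p.1),
      fun p => ?_, fun x => ?_⟩
    · rw [pow_succ]
      exact Ideal.mul_mem_mul (ha p.1) (hfI p.2)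
    · rw [Fintype.sum_prod_type]
      refine (hψ (Submodule.inclusion hle x)).trans (Finset.sum_congr rfl fun i _ => ?_)
      rw [show ψ i (Submodule.inclusion hle x) = (θ i x : A) from rfl, hφ (θ i x), Finset.mul_sum]
      exact Finset.sum_congr rfl fun j _ => by simp only [LinearMap.comp_apply]; ring

section AR

variable {R : Type u} [CommRing R] [IsNoetherianRing R] (J : Ideal R) (M : Type u) [AddCommGroup M] [Module R M]
  [Module.Finite R M]

/-- elements of `J^D M` moved into `J^(n+1) M` by `J^k` are close to zero, with `D` independent of `k` -/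
theorem exists_bound_killed :
    ∃ D : ℕ, ∀ k : ℕ, ∃ s : ℕ, ∀ n, s ≤ n → ∀ x : M, x ∈ J ^ D • (⊤ : Submodule R M) →
      (∀ h ∈ J ^ k, h • x ∈ J ^ (n + 1) • (⊤ : Submodule R M)) → x ∈ J ^ (n - s + 1) • (⊤ : Submodule R M) := by
  classical
  haveI : IsNoetherian R M := isNoetherian_of_isNoetherianRing_of_finite R M
  let Tk : ℕ →o Submodule R M :=
    { toFun := fun k => Submodule.torsionBySet R M ((J ^ k : Ideal R) : Set R)
      monotone' := fun k l h => Submodule.torsionBySet_le_torsionBySet_of_subset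
        (fun z hz => Ideal.pow_le_pow_right h hz) }
  obtain ⟨k₀, hk₀⟩ := monotone_stabilizes_iff_noetherian.2 ‹_› Tk
  have hT : ∀ k, Tk k ≤ Tk k₀ := fun k => (le_total k k₀).elim (fun h => Tk.monotone h) fun h => (hk₀ k h).ge
  obtain ⟨d₂, hd₂⟩ := Ideal.exists_pow_inf_eq_pow_smul J (Tk k₀)
  refine ⟨k₀ + d₂, fun k => ?_⟩
  obtain ⟨q, g, hg⟩ := Submodule.fg_iff_exists_fin_generating_family.1 (IsNoetherian.noetherian (J ^ k))
  let Φ : M →ₗ[R] (Fin q → M) := LinearMap.pi fun i => g i • LinearMap.id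
  obtain ⟨d₁, hd₁⟩ := Ideal.exists_pow_inf_eq_pow_smul J (LinearMap.range Φ)
  refine ⟨d₁ + (k₀ + d₂), fun n hn x hxD hx => ?_⟩
  have hΦx : Φ x ∈ J ^ (n + 1) • (⊤ : Submodule R (Fin q → M)) := by
    rw [← Finset.univ_sum_single (Φ x)]
    refine Submodule.sum_mem _ fun i _ => ?_
    have h1 : Φ x i ∈ J ^ (n + 1) • (⊤ : Submodule R M) := hx (g i) (hg.le (Submodule.subset_span ⟨i, rfl⟩))
    have h2 := Submodule.mem_map_of_mem (f := LinearMap.single R (fun _ => M) i) h1
    rw [Submodule.map_smul''] at h2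
    exact Submodule.smul_mono le_rfl le_top h2
  have h1 : Φ x ∈ J ^ (n + 1) • ⊤ ⊓ LinearMap.range Φ := ⟨hΦx, x, rfl⟩
  rw [hd₁ (n + 1) (by omega)] at h1
  have h2 := Submodule.smul_mono (le_refl (J ^ (n + 1 - d₁))) inf_le_right h1
  rw [LinearMap.range_eq_map, ← Submodule.map_smul''] at h2
  obtain ⟨y, hy, hyx⟩ := h2
  have hy' : y ∈ J ^ (k₀ + d₂) • (⊤ : Submodule R M) :=
    Submodule.smul_mono (Ideal.pow_le_pow_right (by omega)) le_rfl hy
  have h0 : x - y ∈ LinearMap.ker Φ := by rw [LinearMap.mem_ker, map_sub, hyx, sub_self]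
  have hker : x - y ∈ Tk k := by
    refine (Submodule.mem_torsionBySet_iff _ _).2 fun ⟨b, hb⟩ => ?_
    change b • (x - y) = 0
    replace hb : b ∈ Submodule.span R (Set.range g) := hg.ge hb
    induction hb using Submodule.span_induction with
    | mem b hb =>
      obtain ⟨i, rfl⟩ := hb
      exact congrFun (LinearMap.mem_ker.1 h0) i
    | zero => exact zero_smul R _
    | add b c _ _ h h' => rw [add_smul, h, h', add_zero]
    | smul b c _ h => rw [smul_assoc, h, smul_zero]
  have h3 : x - y ∈ J ^ (k₀ + d₂) • ⊤ ⊓ Tk k₀ := ⟨sub_mem hxD hy', hT k hker⟩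
  rw [hd₂ (k₀ + d₂) (by omega), Nat.add_sub_cancel] at h3
  have h4 := Submodule.smul_mono (le_refl (J ^ k₀)) inf_le_right h3
  have h5 : J ^ k₀ • Tk k₀ = ⊥ := by
    rw [eq_bot_iff, Submodule.smul_le]
    intro b hb z hz
    exact (Submodule.mem_bot R).2 ((Submodule.mem_torsionBySet_iff _ _).1 hz ⟨b, hb⟩)
  rw [h5, Submodule.mem_bot, sub_eq_zero] at h4
  rw [h4]
  exact Submodule.smul_mono (Ideal.pow_le_pow_right (by omega)) le_rfl hy

end AR

open Groth.L16.Exist in
/-- the same in the levels of an adic system of finite modules -/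
theorem exists_bound_levels {B : Type u} [CommRing B] [IsNoetherianRing B] (J : Ideal B) (M : ℕ → Type u)
    [∀ n, AddCommGroup (M n)] [∀ n, Module B (M n)] [∀ n, Module.Finite B (M n)] (f : ∀ n, M (n + 1) →ₗ[B] M n)
    (hk : ∀ n, ∀ b ∈ J ^ (n + 1), ∀ x : M n, b • x = 0) (hf : ∀ n, Function.Surjective (f n))
    (hker : ∀ n, ∀ x, f n x = 0 → x ∈ J ^ (n + 1) • (⊤ : Submodule B (M (n + 1)))) :
    ∃ D : ℕ, ∀ k : ℕ, ∃ s : ℕ, ∀ n, s ≤ n → ∀ v : M n, v ∈ J ^ D • (⊤ : Submodule B (M n)) → (∀ h ∈ J ^ k, h • v = 0) →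
      ∀ F : M n →ₗ[B] M (n - s), (∀ g ∈ lim M f, F (g n) = g (n - s)) → F v = 0 := by
  letI := fun n => cmod J M hk n
  haveI := fun n => cmod_tower J M hk n
  haveI := isNoetherian_completion J
  obtain ⟨hfin, hspec⟩ := climit_spec J M f hk hf hker
  haveI := hfin
  let C := AdicCompletion J B
  let J' : Ideal C := J.map (algebraMap B C)
  obtain ⟨D, hD⟩ := exists_bound_killed J' ↥(climit J M f hk)
  refine ⟨D, fun k => ?_⟩
  obtain ⟨s, hDs⟩ := hD k
  refine ⟨s, fun n hn v hvD hv F hF => ?_⟩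
  obtain ⟨x, hxD, hxv⟩ : ∃ x : climit J M f hk, x ∈ J' ^ D • (⊤ : Submodule C (climit J M f hk)) ∧ x.1 n = v := by
    refine Submodule.smul_induction_on hvD (fun b hb w _ => ?_) fun y y' ⟨z, hz, e⟩ ⟨z', hz', e'⟩ =>
      ⟨z + z', add_mem hz hz', by rw [← e, ← e']; rfl⟩
    obtain ⟨z, hz⟩ := (hspec n).1 w
    refine ⟨algebraMap B C b • z, Submodule.smul_mem_smul ?_ trivial, ?_⟩
    · rw [← Ideal.map_pow]; exact Ideal.mem_map_of_mem _ hb
    · change algebraMap B C b • z.1 n = b • w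
      rw [algebraMap_smul]
      exact congrArg (b • ·) hz
  have hx : ∀ h ∈ J' ^ k, h • x ∈ J' ^ (n + 1) • (⊤ : Submodule C (climit J M f hk)) := by
    intro h hh
    refine ((hspec n).2 _ ?_)
    change h • x.1 n = 0
    rw [hxv]
    rw [← Ideal.map_pow] at hh
    induction hh using Submodule.span_induction with
    | mem b hb =>
      obtain ⟨b, hb, rfl⟩ := hb
      rw [algebraMap_smul]
      exact hv b hb
    | zero => exact zero_smul C v
    | add b c _ _ e e' => rw [add_smul, e, e', add_zero]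
    | smul b c _ e => rw [smul_assoc, e, smul_zero]
  have h1 := hDs n hn x hxD hx
  have h2 : x.1 (n - s) = 0 := by
    refine Submodule.smul_induction_on h1 (fun b hb z _ => ?_) fun y y' e e' => by
      change y.1 (n - s) + y'.1 (n - s) = 0
      rw [e, e', add_zero]
    change b • z.1 (n - s) = 0
    rw [← Ideal.map_pow] at hb
    induction hb using Submodule.span_induction with
    | mem b hb =>
      obtain ⟨b, hb, rfl⟩ := hb
      rw [algebraMap_smul]
      exact hk _ b hb _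
    | zero => exact zero_smul C _
    | add b c _ _ e e' => rw [add_smul, e, e', add_zero]
    | smul b c _ e => rw [smul_assoc, e, smul_zero]
  rw [← hxv, ← h2]
  exact hF x.1 x.2

end Groth.L29.CdOne
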