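import Groth.Agent.L29.Formal.CdOneSect
import Groth.Prelude.Def_Formal2
import Mathlib.RingTheory.MvPolynomial.Homogeneous
import Mathlib.RingTheory.Polynomial.Basic
import Mathlib.Algebra.Order.Antidiag.Pi
import Mathlib.Data.Fin.Tuple.NatAntidiagonal

/-!
Graded maps from the powers of the ideal on the limit of a coherent formal module, in cohomological dimension one.
-/

set_option autoImplicit false
set_option backward.isDefEq.respectTransparency false
set_option backward.isDefEq.respectTransparency.types false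
set_option linter.style.haveILetI false

universe u

open CategoryTheory CategoryTheory.Limits AlgebraicGeometry TopologicalSpace Opposite

noncomputable section

namespace Groth.L29.CdOne

open _root_.Formal (smulMod modPow modPowπ)
open Groth.L16 Groth.L16.Existence
open Groth.L16.AffineBC (scal)

attribute [local instance] CategoryTheory.Limits.HasFiniteBiproducts.of_hasFiniteProducts

/-- sum over exponent tuples of a homogeneous polynomial evaluated -/
theorem aeval_eq_sum_tuple {A : Type u} [CommRing A] {r n : ℕ} (f : Fin r → A) (P : MvPolynomial (Fin r) A)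
    (hP : P.IsHomogeneous n) :
    MvPolynomial.aeval f P = ∑ e ∈ Finset.Nat.antidiagonalTuple r n,
      MvPolynomial.coeff (Finsupp.equivFunOnFinite.symm e) P * ∏ j, f j ^ e j := by
  classical
  rw [MvPolynomial.aeval_eq_eval, MvPolynomial.eval_eq']
  have hsub : P.support.image (fun d : Fin r →₀ ℕ => Finsupp.equivFunOnFinite d) ⊆
      Finset.Nat.antidiagonalTuple r n := by
    intro e he
    obtain ⟨d, hd, rfl⟩ := Finset.mem_image.1 he
    rw [Finset.Nat.mem_antidiagonalTuple]
    have := hP (MvPolynomial.mem_support_iff.1 hd)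
    rw [Finsupp.weight_apply, Finsupp.sum_fintype _ _ (by simp)] at this
    simpa using this
  rw [← Finset.sum_subset hsub fun e _ he => ?_, Finset.sum_image Finsupp.equivFunOnFinite.injective.injOn]
  · exact Finset.sum_congr rfl fun d _ => by simp
  · rw [show MvPolynomial.coeff (Finsupp.equivFunOnFinite.symm e) P = 0 from
      not_not.1 fun h => he (Finset.mem_image.2 ⟨Finsupp.equivFunOnFinite.symm e,
        MvPolynomial.mem_support_iff.2 h, by simp⟩), zero_mul]

/-- the axioms on a graded map of the powers of an ideal into polynomials -/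
structure IsGradedMap {A : Type u} [CommRing A] {r : ℕ} (I : Ideal A) (c' : ℕ) (Φ : ℕ → A → MvPolynomial (Fin r) A) : Prop where
  add : ∀ n : ℕ, ∀ g ∈ I ^ (n * c'), ∀ h ∈ I ^ (n * c'), Φ n (g + h) = Φ n g + Φ n h
  smul : ∀ (n : ℕ) (a : A), ∀ g ∈ I ^ (n * c'), Φ n (a * g) = a • Φ n g
  hom : ∀ n : ℕ, ∀ g ∈ I ^ (n * c'), (Φ n g).IsHomogeneous n
  mul : ∀ n m : ℕ, ∀ g ∈ I ^ (n * c'), ∀ h ∈ I ^ (m * c'), Φ (n + m) (g * h) = Φ n g * Φ m h
  zero : ∀ a : A, Φ 0 a = MvPolynomial.C a

section Alg

variable {A : Type u} [CommRing A] {r : ℕ} {I : Ideal A} {c' : ℕ} {Φ : ℕ → A → MvPolynomial (Fin r) A}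
  (hΦ : IsGradedMap I c' Φ)

include hΦ in
theorem IsGradedMap.map_zero' (n : ℕ) : Φ n 0 = 0 := by
  have := hΦ.smul n 0 0 (Ideal.zero_mem _)
  simpa using this

include hΦ in
/-- properties proved on generators propagate to all degrees -/
theorem IsGradedMap.induction (P : MvPolynomial (Fin r) A → A → Prop) (hadd : ∀ p q g h, P p g → P q h → P (p + q) (g + h))
    (h1 : ∀ g ∈ I ^ c', P (Φ 1 g) g)
    (hmul : ∀ p q g h, P p g → P q h → P (p * q) (g * h)) :
    ∀ n : ℕ, ∀ g ∈ I ^ ((n + 1) * c'), P (Φ (n + 1) g) g := by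
  intro n
  induction n with
  | zero => intro g hg; exact h1 g (by simpa using hg)
  | succ n ih =>
    intro g hg
    suffices g ∈ I ^ ((n + 1 + 1) * c') ∧ P (Φ (n + 1 + 1) g) g from this.2
    rw [Nat.succ_mul, pow_add] at hg
    refine Submodule.mul_induction_on hg (fun a ha b hb => ?_) fun x y hx hy => ?_
    · have hb' : b ∈ I ^ (1 * c') := by rwa [one_mul]
      refine ⟨?_, ?_⟩
      · rw [Nat.succ_mul, pow_add]; exact Ideal.mul_mem_mul ha hb
      · rw [hΦ.mul (n + 1) 1 a ha b hb']
        exact hmul _ _ _ _ (ih a ha) (h1 b hb)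
    · refine ⟨add_mem hx.1 hy.1, ?_⟩
      rw [hΦ.add _ x hx.1 y hy.1]
      exact hadd _ _ _ _ hx.2 hy.2

include hΦ in
theorem IsGradedMap.coeff_swap (n : ℕ) {g h : A} (hg : g ∈ I ^ (n * c')) (hh : h ∈ I ^ (n * c')) (d : Fin r →₀ ℕ) :
    h * MvPolynomial.coeff d (Φ n g) = g * MvPolynomial.coeff d (Φ n h) := by
  have h1 := congrArg (MvPolynomial.coeff d) ((hΦ.smul n h g hg).symm.trans
    ((congrArg (Φ n) (mul_comm h g)).trans (hΦ.smul n g h hh)))
  simpa [MvPolynomial.coeff_smul] using h1

end Alg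

variable {A : Type u} [CommRing A] [IsNoetherianRing A] {I : Ideal A} {X : Scheme.{u}}
  [X.Over (Spec (CommRingCat.of A))] [AlgebraicGeometry.IsNoetherian X] {G : ℕᵒᵖ ⥤ X.Modules}
  (hG : _root_.Formal.IsCohFormal I G)

omit [IsNoetherianRing A] [AlgebraicGeometry.IsNoetherian X] in
theorem smulMod_sum' {M : X.Modules} {ι : Type*} (s : Finset ι) (a : ι → A) :
    smulMod A M (∑ i ∈ s, a i) = ∑ i ∈ s, smulMod A M (a i) :=
  map_sum (AddMonoidHom.mk' (fun b => smulMod A M b) fun b b' => HomSh.smulMod_add M b b') a s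

include hG in
/-- maps into a level annihilated by `I^k` and landing in `I^(D+1)` vanish some levels below, `D` uniform -/
theorem exists_bound_hom : ∃ D : ℕ, ∀ k : ℕ, ∃ s : ℕ, ∀ (n : ℕ) (P : X.Modules) (f : P ⟶ G.obj (op n)) (hn : D + s ≤ n),
    f ≫ tr G D n (by omega) = 0 → (∀ h ∈ I ^ k, f ≫ smulMod A (G.obj (op n)) h = 0) →
      ∀ l (hl : l + s ≤ n), f ≫ tr G l n (by omega) = 0 := by
  classical
  obtain ⟨T, hT⟩ := HomSh.exists_finite_affine_cover X
  obtain ⟨D, hD⟩ := exists_bound_cover hG T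
  refine ⟨D, fun k => ?_⟩
  obtain ⟨s, hs⟩ := hD k
  obtain ⟨q, g, hg⟩ := Submodule.fg_iff_exists_fin_generating_family.1 (IsNoetherian.noetherian (I ^ k))
  refine ⟨s, fun n P f hn hfD hfk l hl => ?_⟩
  let t := tr G D n (show D ≤ n by omega)
  let M := G.obj (op n)
  let β : kernel t ⟶ ⨁ fun _ : Fin q => M := kernel.ι t ≫ biproduct.lift fun i => smulMod A M (g i)
  have h0 : (kernel.ι β ≫ kernel.ι t) ≫ tr G l n (show l ≤ n by omega) = 0 := by
    haveI : Coh.IsQCoh (G.obj (op D)) := (hG.1 D).1
    have hK : Coh.IsCoh (kernel t) := CohSupport.isCoh_kernel (hG.1 n) _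
    have hS : Coh.IsCoh (⨁ fun _ : Fin q => M) :=
      CohSupport.isCoh_of_iso (biproduct.isoCoproduct fun _ : Fin q => M).symm (isCoh_sigma _ fun _ => hG.1 n)
    haveI : Coh.IsQCoh (⨁ fun _ : Fin q => M) := hS.1
    haveI : Coh.IsQCoh (kernel β) := (CohSupport.isCoh_kernel hK β).1
    refine hom_eq_zero_of_affine_cover _ (T : Set X.affineOpens) (fun x => hT x) fun U hU w => ?_
    let v : Γ(M, U.1) := (kernel.ι β ≫ kernel.ι t).app U.1 w
    change (tr G l n _).app U.1 v = 0
    refine hs U hU n (by omega) v ?_ (fun h hh => ?_) l hl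
    · refine Submodule.smul_mono (Ideal.pow_le_pow_right (Nat.le_succ D)) le_rfl
        (mem_pow_of_tr_eq_zero hG U.2 (show D ≤ n by omega) v ?_)
      have h1 : (kernel.ι β ≫ kernel.ι t) ≫ t = 0 := by rw [Category.assoc, kernel.condition, comp_zero]
      exact congrArg (fun φ : kernel β ⟶ _ => φ.app U.1 w) h1
    · have h1 : ∀ i, (kernel.ι β ≫ kernel.ι t) ≫ smulMod A M (g i) = 0 := fun i => by
        have := congrArg (· ≫ biproduct.π (fun _ : Fin q => M) i) (kernel.condition β)
        refine Eq.trans ?_ (this.trans zero_comp)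
        simp only [β, Category.assoc, biproduct.lift_π]
      have h2 : (kernel.ι β ≫ kernel.ι t) ≫ smulMod A M h = 0 := by
        rw [← hg] at hh
        induction hh using Submodule.span_induction with
        | mem b hb =>
          obtain ⟨i, rfl⟩ := hb
          exact h1 i
        | zero => rw [Rees.smulMod_zero, comp_zero]
        | add a b _ _ e e' => rw [HomSh.smulMod_add, Preadditive.comp_add, e, e', add_zero]
        | smul a b _ e => rw [smul_eq_mul, Rees.smulMod_mul, ← Category.assoc, e, zero_comp]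
      exact congrArg (fun φ : kernel β ⟶ M => φ.app U.1 w) h2
  let f₁ : P ⟶ kernel t := kernel.lift t f hfD
  have hf₁ : f₁ ≫ β = 0 := by
    refine biproduct.hom_ext _ _ fun i => ?_
    rw [zero_comp, Category.assoc, Category.assoc, biproduct.lift_π, ← Category.assoc, kernel.lift_ι]
    exact hfk _ (hg.le (Submodule.subset_span ⟨i, rfl⟩))
  rw [show f = kernel.lift β f₁ hf₁ ≫ kernel.ι β ≫ kernel.ι t by rw [kernel.lift_ι_assoc, kernel.lift_ι],
    Category.assoc, h0, comp_zero]

omit [IsNoetherianRing A] [AlgebraicGeometry.IsNoetherian X] in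
/-- multiplication by an element of `I^N` into `I^N M` -/
def toPow {N : ℕ} (M : X.Modules) (g : A) (hg : g ∈ I ^ N) : M ⟶ Formal2.idealPowMod I N M :=
  kernel.lift _ (smulMod A M g) (Rees.smulMod_modPowπ I M hg)

omit [IsNoetherianRing A] [AlgebraicGeometry.IsNoetherian X] in
theorem toPow_ι {N : ℕ} (M : X.Modules) (g : A) (hg : g ∈ I ^ N) :
    toPow M g hg ≫ Formal2.idealPowModι I N M = smulMod A M g := kernel.lift_ι _ _ _

omit [IsNoetherianRing A] [AlgebraicGeometry.IsNoetherian X] in
theorem epi_desc_toPow {q : ℕ} (g : Fin q → A) (N : ℕ) (hg : Ideal.span (Set.range g) = I ^ N) (M : X.Modules) :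
    Epi (biproduct.desc fun l : Fin q => toPow M (g l) (hg.le (Ideal.subset_span ⟨l, rfl⟩))) := by
  let E := biproduct.desc fun l : Fin q => toPow M (g l) (hg.le (Ideal.subset_span ⟨l, rfl⟩))
  let t := modPowπ I N M
  let π := cokernel.π (E ≫ kernel.ι t)
  have hπ : ∀ x ∈ I ^ N, smulMod A M x ≫ π = 0 := fun x hx => by
    rw [← hg] at hx
    induction hx using Submodule.span_induction with
    | mem y hy =>
      obtain ⟨l, rfl⟩ := hy
      have h1 : biproduct.ι (fun _ : Fin q => M) l ≫ E ≫ kernel.ι t = smulMod A M (g l) := by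
        rw [biproduct.ι_desc_assoc]
        exact toPow_ι M _ _
      rw [← h1]
      simp only [π, Category.assoc, cokernel.condition, comp_zero]
    | zero => rw [Rees.smulMod_zero, zero_comp]
    | add y z _ _ h1 h2 => rw [HomSh.smulMod_add, Preadditive.add_comp, h1, h2, add_zero]
    | smul b y _ h1 => rw [smul_eq_mul, mul_comm, Rees.smulMod_mul, Category.assoc, Rees.smulMod_naturality,
        h1, zero_comp]
  obtain ⟨π', hπ'⟩ := Existence.modPow_desc I π hπ
  have h0 : kernel.ι t ≫ π = 0 := by rw [← hπ', ← Category.assoc, kernel.condition, zero_comp]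
  let l : Formal2.idealPowMod I N M ⟶ Abelian.image (E ≫ kernel.ι t) := kernel.lift _ (kernel.ι t) h0
  have hl : l ≫ Abelian.image.ι _ = kernel.ι t := kernel.lift_ι _ _ _
  have hE : E ≫ l = Abelian.factorThruImage (E ≫ kernel.ι t) := by
    rw [← cancel_mono (Abelian.image.ι (E ≫ kernel.ι t)), Category.assoc, hl, Abelian.image.fac]
  haveI : Mono l := by
    haveI : Mono (l ≫ Abelian.image.ι _) := by rw [hl]; infer_instance
    exact mono_of_mono l (Abelian.image.ι _)
  haveI : Epi l := by
    haveI : Epi (E ≫ l) := by rw [hE]; infer_instance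
    exact epi_of_epi E l
  haveI : IsIso l := isIso_of_mono_of_epi l
  change Epi E
  rw [show E = Abelian.factorThruImage (E ≫ kernel.ι t) ≫ inv l from (IsIso.eq_comp_inv l).2 hE]
  exact epi_comp _ _

variable {r : ℕ} (f : Fin r → A) (c : ℕ) (φ : Fin r → (↥(I ^ c) →ₗ[A] A))
  (hφ : ∀ x : ↥(I ^ c), (x : A) = ∑ j, f j * φ j x)

include hG hφ in
/-- the graded maps on the limit -/
theorem exists_graded_maps : ∃ c' : ℕ, ∃ hcc' : c ≤ c', ∀ Φ : ℕ → A → MvPolynomial (Fin r) A, IsGradedMap I c' Φ →
    (∀ (g : A) (hg : g ∈ I ^ c'), Φ 1 g = ∑ j, MvPolynomial.C (φ j ⟨g, Ideal.pow_le_pow_right hcc' hg⟩) * MvPolynomial.X j) →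
    ∀ (n : ℕ) [HasBiproduct fun _ : ↥(Finset.Nat.antidiagonalTuple r n) => limit G],
    ∃ ΦF : Formal2.idealPowMod I (n * c') (limit G) ⟶ ⨁ (fun _ : ↥(Finset.Nat.antidiagonalTuple r n) ↦ limit G),
      (∀ g ∈ I ^ (n * c'), ∀ γ : limit G ⟶ Formal2.idealPowMod I (n * c') (limit G),
        γ ≫ Formal2.idealPowModι I (n * c') (limit G) = smulMod A (limit G) g →
          γ ≫ ΦF = biproduct.lift (fun e : ↥(Finset.Nat.antidiagonalTuple r n) ↦
            smulMod A (limit G) (MvPolynomial.coeff (Finsupp.equivFunOnFinite.symm e.1) (Φ n g)))) ∧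
      ΦF ≫ biproduct.desc (fun e : ↥(Finset.Nat.antidiagonalTuple r n) ↦ smulMod A (limit G) (∏ j, f j ^ (e.1 j))) =
        Formal2.idealPowModι I (n * c') (limit G) ∧
      ∀ ΦF' : Formal2.idealPowMod I (n * c') (limit G) ⟶ ⨁ (fun _ : ↥(Finset.Nat.antidiagonalTuple r n) ↦ limit G),
        (∀ g ∈ I ^ (n * c'), ∀ γ : limit G ⟶ Formal2.idealPowMod I (n * c') (limit G),
          γ ≫ Formal2.idealPowModι I (n * c') (limit G) = smulMod A (limit G) g →
            γ ≫ ΦF' = biproduct.lift (fun e : ↥(Finset.Nat.antidiagonalTuple r n) ↦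
              smulMod A (limit G) (MvPolynomial.coeff (Finsupp.equivFunOnFinite.symm e.1) (Φ n g)))) → ΦF' = ΦF := by
  classical
  obtain ⟨D, hD⟩ := exists_bound_hom hG
  refine ⟨D + 1 + c, Nat.le_add_left c _, fun Φ hΦ hΦ1 n _ => ?_⟩
  let c' := D + 1 + c
  let M := limit G
  let N := n * c'
  -- coefficients in positive degree
  have hcoef : ∀ m, n = m + 1 → ∀ g ∈ I ^ N, ∀ d, MvPolynomial.coeff d (Φ n g) ∈ I ^ (D + 1) := by
    rintro m rfl g hg
    refine MvPolynomial.mem_map_C_iff.1 (hΦ.induction (fun p _ => p ∈ (I ^ (D + 1)).map MvPolynomial.C)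
      (fun p q _ _ hp hq => add_mem hp hq) (fun g hg => ?_) (fun p q _ _ _ hq => Ideal.mul_mem_left _ p hq) m g hg)
    rw [hΦ1 g hg]
    exact Ideal.sum_mem _ fun j _ => Ideal.mul_mem_right _ _ (Ideal.mem_map_of_mem _
      (mem_pow_of_mem_pow_add I (φ j) (D + 1) g hg _))
  have heval : ∀ g ∈ I ^ N, MvPolynomial.aeval f (Φ n g) = g := by
    intro g hg
    cases n with
    | zero => rw [hΦ.zero]; simp
    | succ m =>
      refine hΦ.induction (fun p g => MvPolynomial.aeval f p = g) (fun p q g h e e' => by rw [map_add, e, e'])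
        (fun g hg => ?_) (fun p q g h e e' => by rw [map_mul, e, e']) m g hg
      rw [hΦ1 g hg, map_sum]
      refine Eq.trans ?_ (hφ ⟨g, Ideal.pow_le_pow_right (Nat.le_add_left c _) hg⟩).symm
      exact Finset.sum_congr rfl fun j _ => by simp [mul_comm]
  obtain ⟨q, g, hg⟩ := Submodule.fg_iff_exists_fin_generating_family.1 (IsNoetherian.noetherian (I ^ N))
  have hgmem : ∀ l, g l ∈ I ^ N := fun l => hg.le (Ideal.subset_span ⟨l, rfl⟩)
  let E := biproduct.desc fun l : Fin q => toPow M (g l) (hgmem l)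
  haveI : Epi E := epi_desc_toPow g N hg M
  let κ' : A → ↥(Finset.Nat.antidiagonalTuple r n) → A := fun g e =>
    MvPolynomial.coeff (Finsupp.equivFunOnFinite.symm e.1) (Φ n g)
  let F := biproduct.desc fun l : Fin q => biproduct.lift fun e => smulMod A M (κ' (g l) e)
  have h0 : kernel.ι E ≫ F = 0 := by
    refine biproduct.hom_ext _ _ fun e => limit.hom_ext fun l => ?_
    obtain ⟨l⟩ := l
    rw [zero_comp, zero_comp]
    cases n with
    | zero =>
      have he : e.1 = 0 := funext fun j => by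
        have h := Finset.Nat.mem_antidiagonalTuple.1 e.2
        exact (Finset.sum_eq_zero_iff.1 h) j (Finset.mem_univ j)
      have hF : F ≫ biproduct.π (fun _ : ↥(Finset.Nat.antidiagonalTuple r 0) => M) e = E ≫ Formal2.idealPowModι I N M := by
        refine biproduct.hom_ext' _ _ fun l => ?_
        rw [biproduct.ι_desc_assoc, biproduct.ι_desc_assoc, biproduct.lift_π, toPow_ι]
        simp only [κ', hΦ.zero, he]
        rw [show Finsupp.equivFunOnFinite.symm (0 : Fin r → ℕ) = 0 from Finsupp.ext fun j => rfl,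
          MvPolynomial.coeff_zero_C]
      rw [Category.assoc, Category.assoc, ← Category.assoc (kernel.ι E), Category.assoc, ← Category.assoc F, hF,
        Category.assoc, kernel.condition_assoc, zero_comp]
    | succ m =>
      obtain ⟨s, hs⟩ := hD ((m + 1) * c')
      let n' := l + s + D
      let π' : M ⟶ G.obj (op n') := limit.π G (op n')
      let θ : Fin q → (M ⟶ G.obj (op n')) := fun i => π' ≫ smulMod A (G.obj (op n')) (κ' (g i) e)
      have hfac : F ≫ biproduct.π (fun _ : ↥(Finset.Nat.antidiagonalTuple r (m + 1)) => M) e ≫ limit.π G (op l) =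
          biproduct.desc θ ≫ tr G l n' (by omega) := by
        refine biproduct.hom_ext' _ _ fun i => ?_
        rw [biproduct.ι_desc_assoc, biproduct.ι_desc_assoc, biproduct.lift_π_assoc,
          ← limit.w G (homOfLE (show l ≤ n' by omega)).op, ← Category.assoc, Rees.smulMod_naturality]
      rw [Category.assoc, Category.assoc]
      refine (congrArg (kernel.ι E ≫ ·) hfac).trans ?_
      rw [← Category.assoc]
      refine hs n' _ _ (by omega) ?_ (fun h hh => ?_) l (by omega)
      · have h1 : biproduct.desc θ ≫ tr G D n' (by omega) = 0 := by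
          refine biproduct.hom_ext' _ _ fun i => ?_
          rw [biproduct.ι_desc_assoc, comp_zero, Category.assoc,
            smul_tr hG _ (hcoef m rfl (g i) (hgmem i) _), comp_zero]
        rw [Category.assoc, h1, comp_zero]
      · have h1 : biproduct.desc θ ≫ smulMod A (G.obj (op n')) h =
            E ≫ Formal2.idealPowModι I ((m + 1) * c') M ≫ π' ≫ smulMod A (G.obj (op n')) (κ' h e) := by
          refine biproduct.hom_ext' _ _ fun i => ?_
          rw [biproduct.ι_desc_assoc, biproduct.ι_desc_assoc, ← Category.assoc (toPow M _ _), toPow_ι,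
            Category.assoc, ← Rees.smulMod_mul, ← Category.assoc, Rees.smulMod_naturality, Category.assoc,
            ← Rees.smulMod_mul]
          congr 2
          rw [mul_comm (κ' h e)]
          exact hΦ.coeff_swap (m + 1) (hgmem i) hh _
        rw [Category.assoc, h1, kernel.condition_assoc, zero_comp]
  let ΦF : Formal2.idealPowMod I N M ⟶ ⨁ (fun _ : ↥(Finset.Nat.antidiagonalTuple r n) ↦ M) := Abelian.epiDesc E F h0
  have hgen : ∀ l, toPow M (g l) (hgmem l) ≫ ΦF = biproduct.lift fun e => smulMod A M (κ' (g l) e) := fun l => by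
    have := congrArg (biproduct.ι (fun _ : Fin q => M) l ≫ ·) (Abelian.comp_epiDesc E F h0)
    simp only [E, F, biproduct.ι_desc_assoc, biproduct.ι_desc] at this
    exact this
  refine ⟨ΦF, fun a ha γ hγ => ?_, ?_, fun ΦF' h' => ?_⟩
  · have hγ' : γ = toPow M a ha := by
      rw [← cancel_mono (Formal2.idealPowModι I N M), toPow_ι]
      exact hγ
    subst hγ'
    clear hγ
    suffices ∀ (a : A) (_ : a ∈ Ideal.span (Set.range g)), ∃ ha' : a ∈ I ^ N,
        toPow M a ha' ≫ ΦF = biproduct.lift fun e => smulMod A M (κ' a e) from (this a (hg.ge ha)).2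
    intro a ha
    induction ha using Submodule.span_induction with
    | mem b hb =>
      obtain ⟨l, rfl⟩ := hb
      exact ⟨hgmem l, hgen l⟩
    | zero =>
      refine ⟨Ideal.zero_mem _, ?_⟩
      have h1 : toPow M 0 (Ideal.zero_mem _) = (0 : M ⟶ Formal2.idealPowMod I N M) := by
        rw [← cancel_mono (Formal2.idealPowModι I N M), toPow_ι, Rees.smulMod_zero, zero_comp]
      rw [h1, zero_comp]
      refine biproduct.hom_ext _ _ fun e => ?_
      simp [κ', hΦ.map_zero', Rees.smulMod_zero]
    | add b b' _ _ hb hb' =>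
      obtain ⟨hb, e1⟩ := hb
      obtain ⟨hb', e2⟩ := hb'
      refine ⟨add_mem hb hb', ?_⟩
      have h1 : toPow M (b + b') (add_mem hb hb') = toPow M b hb + toPow M b' hb' := by
        rw [← cancel_mono (Formal2.idealPowModι I N M), Preadditive.add_comp, toPow_ι, toPow_ι, toPow_ι,
          HomSh.smulMod_add]
      rw [h1, Preadditive.add_comp, e1, e2]
      refine biproduct.hom_ext _ _ fun e => ?_
      simp [κ', hΦ.add n b hb b' hb', HomSh.smulMod_add]
    | smul x b _ hb =>
      obtain ⟨hb, e1⟩ := hb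
      refine ⟨Ideal.mul_mem_left _ x hb, ?_⟩
      have h1 : toPow M (x • b) (Ideal.mul_mem_left _ x hb) = smulMod A M x ≫ toPow M b hb := by
        rw [← cancel_mono (Formal2.idealPowModι I N M), Category.assoc, toPow_ι, toPow_ι, smul_eq_mul,
          mul_comm, Rees.smulMod_mul]
      rw [h1, Category.assoc, e1]
      refine biproduct.hom_ext _ _ fun e => ?_
      rw [Category.assoc, biproduct.lift_π, biproduct.lift_π]
      change smulMod A M x ≫ smulMod A M (κ' b e) = smulMod A M (κ' (x * b) e)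
      simp only [κ', hΦ.smul n x b hb, MvPolynomial.coeff_smul, smul_eq_mul]
      rw [mul_comm x, Rees.smulMod_mul]
  · rw [← cancel_epi E]
    refine biproduct.hom_ext' _ _ fun l => ?_
    rw [biproduct.ι_desc_assoc, biproduct.ι_desc_assoc, ← Category.assoc, hgen, biproduct.lift_desc, toPow_ι]
    calc ∑ e : ↥(Finset.Nat.antidiagonalTuple r n), smulMod A M (κ' (g l) e) ≫ smulMod A M (∏ j, f j ^ e.1 j)
        = ∑ e : ↥(Finset.Nat.antidiagonalTuple r n), smulMod A M (κ' (g l) e * ∏ j, f j ^ e.1 j) :=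
          Finset.sum_congr rfl fun e _ => by rw [mul_comm, Rees.smulMod_mul]
      _ = smulMod A M (g l) := by
        rw [← smulMod_sum', Finset.sum_coe_sort (Finset.Nat.antidiagonalTuple r n)
          (fun e => MvPolynomial.coeff (Finsupp.equivFunOnFinite.symm e) (Φ n (g l)) * ∏ j, f j ^ e j),
          ← aeval_eq_sum_tuple f _ (hΦ.hom n _ (hgmem l)), heval _ (hgmem l)]
  · rw [← cancel_epi E]
    refine biproduct.hom_ext' _ _ fun l => ?_
    rw [biproduct.ι_desc_assoc, biproduct.ι_desc_assoc, hgen]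
    exact h' (g l) (hgmem l) _ (toPow_ι _ _ _)

end Groth.L29.CdOne
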