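import Groth.Agent.L29.Formal.CdOneTopology

/-!
Splitting maps out of a fixed deep kernel: compatibility, vanishing on the low levels, and decomposition.
-/

set_option autoImplicit false
set_option backward.isDefEq.respectTransparency false
set_option backward.isDefEq.respectTransparency.types false
set_option linter.style.haveILetI false

universe u

open CategoryTheory CategoryTheory.Limits AlgebraicGeometry TopologicalSpace Opposite

noncomputable section

namespace Groth.L29.CdOne

open _root_.Formal (smulMod)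
open Groth.L16 Groth.L16.Existence

attribute [local instance] CategoryTheory.Limits.HasFiniteBiproducts.of_hasFiniteProducts

variable {A : Type u} [CommRing A] [IsNoetherianRing A] {I : Ideal A} {X : Scheme.{u}}
  [X.Over (Spec (CommRingCat.of A))] [AlgebraicGeometry.IsNoetherian X] {G : ℕᵒᵖ ⥤ X.Modules}
  (hG : _root_.Formal.IsCohFormal I G)

include hG in
/-- the maps splitting the deep kernels, with their properties -/
theorem exists_kernel_maps {ι : Type} [Fintype ι] (a : ι → A) (k : ℕ) (ψ : ι → (↥(I ^ k) →ₗ[A] A))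
    (hψ : ∀ x : ↥(I ^ k), (x : A) = ∑ i, a i * ψ i x) :
    ∃ c₀ s : ℕ, ∀ C : ℕ, c₀ ≤ C → ∃ Ψ : ∀ (_ : ι) (j : ℕ), Kern G C (C + (s + j)) (Nat.le_add_right _ _) ⟶ G.obj (op j),
      (∀ i j, Ψ i (j + 1) ≫ tr G j (j + 1) (Nat.le_succ j) = κ (G := G) C (C + (s + j)) (Nat.le_add_right _ _) ≫ Ψ i j) ∧
      (∀ i j, j + k ≤ C → Ψ i j = 0) ∧
      ∀ j, ∑ i, Ψ i j ≫ smulMod A (G.obj (op j)) (a i) =
        kernel.ι (tr G C (C + (s + j)) (Nat.le_add_right _ _)) ≫ tr G j (C + (s + j)) (by omega) := by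
  classical
  obtain ⟨D, s, hsplit⟩ := exists_split_maps hG k
  refine ⟨D + k, s, fun c hc => ?_⟩
  obtain ⟨q, g, hg'⟩ := Submodule.fg_iff_exists_fin_generating_family.1 (IsNoetherian.noetherian (I ^ (c + 1)))
  have hg : Ideal.span (Set.range g) = I ^ (c + 1) := hg'
  have hgc : ∀ l, g l ∈ I ^ (c + 1) := fun l => hg.le (Ideal.subset_span ⟨l, rfl⟩)
  have hgk : ∀ l, g l ∈ I ^ k := fun l => Ideal.pow_le_pow_right (by omega) (hgc l)
  have hcN : ∀ j, c ≤ c + j := fun j => Nat.le_add_right c j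
  choose Ψ hΨ using fun (i : ι) (n : ℕ) =>
    hsplit (ψ i) g c hc hg n (c + (s + n)) (show n + s ≤ c + (s + n) by omega) (hcN _)
  refine ⟨Ψ, fun i n => ?_, fun i n hn => ?_, fun n => ?_⟩
  · haveI := epi_desc_toKern hG g c hg (hcN (s + (n + 1)))
    rw [← cancel_epi (biproduct.desc fun l => toKern hG (hcN (s + (n + 1))) (g l) (hgc l))]
    refine biproduct.hom_ext' _ _ fun l => ?_
    rw [biproduct.ι_desc_assoc, biproduct.ι_desc_assoc, ← Category.assoc, hΨ i (n + 1) l (hgc l) (hgk l)]
    have h1 : toKern hG (hcN (s + (n + 1))) (g l) (hgc l) ≫ κ (G := G) c (c + (s + n)) (hcN _) =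
        tr G (c + (s + n)) (c + (s + n) + 1) (Nat.le_succ _) ≫ toKern hG (hcN (s + n)) (g l) (hgc l) := by
      rw [← cancel_mono (kernel.ι (tr G c (c + (s + n)) (hcN _))), Category.assoc, κ_ι, ← Category.assoc,
        toKern_ι, Category.assoc, toKern_ι]
      exact Rees.smulMod_naturality A (tr G (c + (s + n)) (c + (s + n) + 1) (Nat.le_succ _)) (g l)
    refine Eq.trans ?_ (((congrArg (· ≫ Ψ i n) h1).symm.trans (Category.assoc _ _ _)))
    rw [Category.assoc, Category.assoc, tr_comp, hΨ i n l (hgc l) (hgk l), ← Category.assoc,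
      ← Rees.smulMod_naturality, Category.assoc, tr_comp]
  · haveI := epi_desc_toKern hG g c hg (hcN (s + n))
    rw [← cancel_epi (biproduct.desc fun l => toKern hG (hcN (s + n)) (g l) (hgc l)), comp_zero]
    refine biproduct.hom_ext' _ _ fun l => ?_
    rw [biproduct.ι_desc_assoc, hΨ i n l (hgc l) (hgk l), comp_zero]
    exact smul_tr hG _ (mem_pow_of_mem_pow_add I (ψ i) (n + 1) _ (Ideal.pow_le_pow_right (by omega) (hgc l)) _)
  · haveI := epi_desc_toKern hG g c hg (hcN (s + n))
    rw [← cancel_epi (biproduct.desc fun l => toKern hG (hcN (s + n)) (g l) (hgc l))]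
    refine biproduct.hom_ext' _ _ fun l => ?_
    rw [biproduct.ι_desc_assoc, biproduct.ι_desc_assoc, Preadditive.comp_sum, ← Category.assoc, toKern_ι]
    calc ∑ i, toKern hG (hcN (s + n)) (g l) (hgc l) ≫ Ψ i n ≫ smulMod A (G.obj (op n)) (a i)
        = ∑ i, smulMod A (G.obj (op (c + (s + n)))) (a i * ψ i ⟨g l, hgk l⟩) ≫ tr G n (c + (s + n)) (by omega) :=
          Finset.sum_congr rfl fun i _ => by
            rw [← Category.assoc, hΨ i n l (hgc l) (hgk l), Category.assoc, ← Rees.smulMod_naturality,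
              Rees.smulMod_mul, Category.assoc]
      _ = _ := by rw [← Preadditive.sum_comp, ← smulMod_sum, ← hψ ⟨g l, hgk l⟩]

end Groth.L29.CdOne
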