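import Groth.Agent.L29.Formal.GradedPieces
import Groth.Agent.L12.Algz.Crit
import Groth.Agent.L12.Algz.ProML

/-!
Canonical extension of a coherent formal module whose graded pieces are split quotients of copies of the bottom level,
when `H⁰` and `H¹` of the bottom level are finite.
-/

set_option autoImplicit false
set_option backward.isDefEq.respectTransparency false
set_option backward.isDefEq.respectTransparency.types false
set_option linter.style.haveILetI false

universe u

open CategoryTheory CategoryTheory.Limits AlgebraicGeometry TopologicalSpace Opposite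

noncomputable section

namespace Groth.L29.Graded

open _root_.Formal (smulMod)
open Groth.L16 Groth.L16.Existence
open Groth.L29.FreeLevels (Sec obsOf obsOf_natural exists_lift_of_obsOf exists_of_exact Φ Φ_natural Sec_smulMod)

variable {A : Type u} [CommRing A] [IsNoetherianRing A] {U : (Spec (CommRingCat.of A)).Opens} {I : Ideal A}
  {G : ℕᵒᵖ ⥤ (U : Scheme.{u}).Modules} (hG : _root_.Formal.IsCohFormal I G)

/-- the sequence of a graded piece -/
abbrev kses (G : ℕᵒᵖ ⥤ (U : Scheme.{u}).Modules) (n : ℕ) : ShortComplex (U : Scheme.{u}).Modules :=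
  ShortComplex.mk (kernel.ι (tr G n (n + 1) (Nat.le_succ n))) (tr G n (n + 1) (Nat.le_succ n)) (kernel.condition _)

include hG in
omit [IsNoetherianRing A] in
theorem kses_shortExact (n : ℕ) : (kses G n).ShortExact :=
  { exact := ShortComplex.exact_of_f_is_kernel _ (kernelIsKernel _), epi_g := epi_tr hG _ }

/-- morphism between the sequences given by multiplication -/
def ksesHom {m n : ℕ} (h : m ≤ n) (c : A) (hc : c ∈ I ^ (n - m)) : kses G m ⟶ kses G n :=
  ShortComplex.homMk (kmul hG h c hc)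
    (mul hG (m + 1) (n + 1) (Nat.succ_le_succ h) c (by rwa [Nat.succ_sub_succ])) (mul hG m n h c hc)
    (kmul_ι hG h c hc) (mul_tr_comm hG h c hc _)

/-- sections of level `n` -/
abbrev Xs (G : ℕᵒᵖ ⥤ (U : Scheme.{u}).Modules) (n : ℕ) : ModuleCat.{u} A := (Sec U).obj (G.obj (op n))

/-- transition on sections -/
abbrev str (G : ℕᵒᵖ ⥤ (U : Scheme.{u}).Modules) {m n : ℕ} (h : m ≤ n) : Xs G n ⟶ Xs G m := (Sec U).map (tr G m n h)

omit [IsNoetherianRing A] in
theorem str_str {l m n : ℕ} (h : l ≤ m) (h' : m ≤ n) (x : Xs G n) :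
    (str G h).hom ((str G h').hom x) = (str G (h.trans h')).hom x := by
  rw [← ConcreteCategory.comp_apply, ← Functor.map_comp, tr_comp]

omit [IsNoetherianRing A] in
theorem Sec_map_zero {P Q : (U : Scheme.{u}).Modules} (y : (Sec U).obj P) : ((Sec U).map (0 : P ⟶ Q)).hom y = 0 := by
  haveI : (Scheme.Modules.pushforward U.ι).Additive :=
    (Scheme.Modules.pullbackPushforwardAdjunction U.ι).right_adjoint_additive
  haveI : (moduleSpecΓFunctor (R := CommRingCat.of A)).Additive :=
    (tilde.adjunction (R := CommRingCat.of A)).right_adjoint_additive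
  haveI : (Sec U).Additive := inferInstance
  exact congrArg (fun g : (Sec U).obj P ⟶ (Sec U).obj Q => g.hom y) ((Sec U).map_zero _ _)

theorem str_mul_zero {m n p : ℕ} (h : m ≤ n) (hp : p ≤ n) (c : A) (hc : c ∈ I ^ (n - m)) (hp' : p + 1 ≤ n - m)
    (y : Xs G m) : (str G hp).hom (((Sec U).map (mul hG m n h c hc)).hom y) = 0 := by
  haveI := epi_tr hG h
  have h0 : mul hG m n h c hc ≫ tr G p n hp = 0 := by
    rw [← cancel_epi (tr G m n h), comp_zero, ← Category.assoc, tr_mul]
    exact smul_tr hG hp (Ideal.pow_le_pow_right hp' hc)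
  rw [← ConcreteCategory.comp_apply, ← Functor.map_comp, h0]
  exact Sec_map_zero y

variable {r : ℕ} (a : Fin r → A) (hI : I = Ideal.span (Set.range a))

include hG hI in
/-- Mittag-Leffler from finiteness of `H¹` of the bottom level -/
theorem isML (hs : Split hG a hI) [Module.Finite A (Coh.HH (U : Scheme.{u}) (G.obj (op 0)) 1)] :
    ARSys.IsML (_root_.Algz.sectMod A U G) := by
  let δ : ∀ n, (Xs G n : Type u) →ₗ[A] Coh.HH (U : Scheme.{u}) (K G n) 1 :=
    fun n => obsOf U (S := kses G n) (kses_shortExact hG n)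
  obtain ⟨c, hc⟩ := exists_bound hG a hI 1 fun m w => ∃ z, δ m z = Φp hG a hI 1 m (homog 1 m w)
  have hnat : ∀ {m n : ℕ} (h : m ≤ n) (d : A) (hd : d ∈ I ^ (n - m)) (z : Xs G m),
      δ n (((Sec U).map (mul hG m n h d hd)).hom z) = CohLinear.hmap (kmul hG h d hd) 1 (δ m z) := fun h d hd z =>
    obsOf_natural U _ _ (ksesHom hG h d hd) z
  -- stabilisation
  have hstab : ∀ n p (hp : p ≤ n), p + 1 + c ≤ n → ∀ y, ∃ z : Xs G n, δ n z = δ n y ∧ (str G hp).hom z = 0 := by
    intro n p hp hpn y
    let Z : Submodule A (Xs G n : Type u) := LinearMap.ker (str G hp).hom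
    obtain ⟨w, hw⟩ := exists_homog hG a hI 1 hs n (δ n y)
    have hR : δ n y ∈ Z.map (δ n) := by
      rw [← hw]
      refine hc n _ (fun m hm w ⟨z, hz⟩ d hd => ?_) w ⟨y, hw.symm⟩
      refine ⟨((Sec U).map (mul hG m n (by omega) (aE a d) (aE_mem_sub hG a hI hd))).hom z, ?_, ?_⟩
      · exact str_mul_zero hG (by omega) hp _ _ (by omega) z
      · rw [hnat, hz]
    obtain ⟨z, hz, hzy⟩ := hR
    exact ⟨z, hzy, hz⟩
  intro n
  refine ⟨c + (n + 1), fun s hs' => ?_⟩
  have key : ∀ m (hm : n + (c + (n + 1)) ≤ m) (x : Xs G (n + (c + (n + 1)))),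
      ∃ y : Xs G m, (str G (show n ≤ m by omega)).hom y = (str G (Nat.le_add_right n (c + (n + 1)))).hom x := by
    intro m hm x
    induction m, hm using Nat.le_induction with
    | base => exact ⟨x, rfl⟩
    | succ m hm ih =>
      obtain ⟨y, hy⟩ := ih
      obtain ⟨z, hz, hz0⟩ := hstab m n (by omega) (by omega) y
      obtain ⟨w, hw⟩ := exists_lift_of_obsOf U (kses_shortExact hG m) (y - z) (by
        change δ m (y - z) = 0
        rw [map_sub, hz, sub_self])
      refine ⟨w, ?_⟩
      change (str G (Nat.le_succ m)).hom w = y - z at hw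
      rw [← str_str (show n ≤ m by omega) (Nat.le_succ m), hw, map_sub, hy, hz0, sub_zero]
  have hle : ∀ i j : ℕ, (∀ x : (_root_.Algz.sectMod A U G).obj (op (n + i)), ∃ y : (_root_.Algz.sectMod A U G).obj (op (n + j)),
      (ARSys.shiftMap (_root_.Algz.sectMod A U G) j n).hom y = (ARSys.shiftMap (_root_.Algz.sectMod A U G) i n).hom x) →
      imageSubobject (ARSys.shiftMap (_root_.Algz.sectMod A U G) i n) ≤
        imageSubobject (ARSys.shiftMap (_root_.Algz.sectMod A U G) j n) := fun i j hij => by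
    refine Groth.L12.Algz.imageSubobject_le_of_comp_cokernel _ _ (ModuleCat.hom_ext (LinearMap.ext fun x => ?_))
    obtain ⟨y, hy⟩ := hij x
    change (cokernel.π (ARSys.shiftMap (_root_.Algz.sectMod A U G) j n)).hom
      ((ARSys.shiftMap (_root_.Algz.sectMod A U G) i n).hom x) = 0
    rw [← hy]
    exact ConcreteCategory.congr_hom (cokernel.condition (ARSys.shiftMap (_root_.Algz.sectMod A U G) j n)) y
  refine le_antisymm (hle s (c + (n + 1)) fun x => ?_) (hle (c + (n + 1)) s fun x => key (n + s) (by omega) x)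
  exact ⟨(str G (Nat.add_le_add_left hs' n)).hom x, str_str _ _ x⟩

/-- successive approximation in the limit -/
theorem ker_le_of_step (X : ℕᵒᵖ ⥤ ModuleCat.{u} A) (hk : ∀ q, ∀ b ∈ I ^ (q + 1), ∀ x : X.obj (op q), b • x = 0) (c : ℕ)
    (hstep : ∀ n, c ≤ n → ∀ x : ↑(limit X), (limit.π X (op n)).hom x = 0 →
      ∃ u ∈ I ^ (n - c) • (⊤ : Submodule A ↑(limit X)),
        (limit.π X (op (n + 1))).hom u = (limit.π X (op (n + 1))).hom x) (k : ℕ) :
    LinearMap.ker (limit.π X (op (c + k))).hom ≤ I ^ k • (⊤ : Submodule A ↑(limit X)) := by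
  classical
  let π : ∀ n, (↑(limit X) : Type u) →ₗ[A] (X.obj (op n) : Type u) := fun n => (limit.π X (op n)).hom
  have hπ : ∀ {p q : ℕ} (h : p ≤ q) (x : ↑(limit X)), (X.map (homOfLE h).op).hom (π q x) = π p x := fun h x =>
    ConcreteCategory.congr_hom (limit.w X (homOfLE h).op) x
  intro x hx
  have hsucc : ∀ p (z : ↑(limit X)), π (c + k + p) z = 0 → ∃ z' : ↑(limit X),
      z - z' ∈ I ^ (k + p) • (⊤ : Submodule A ↑(limit X)) ∧ π (c + k + (p + 1)) z' = 0 := fun p z hz => by
    obtain ⟨u, hu, hu1⟩ := hstep (c + k + p) (by omega) z hz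
    refine ⟨z - u, ?_, ?_⟩
    · rw [sub_sub_cancel]
      rwa [show c + k + p - c = k + p by omega] at hu
    · change π (c + k + p + 1) (z - u) = 0
      rw [map_sub, sub_eq_zero]
      exact hu1.symm
  choose nxt hnxt hnxt0 using hsucc
  let rem : ∀ p, {z : ↑(limit X) // π (c + k + p) z = 0} := fun p =>
    Nat.rec (motive := fun p => {z : ↑(limit X) // π (c + k + p) z = 0}) ⟨x, LinearMap.mem_ker.1 hx⟩
      (fun p z => ⟨nxt p z.1 z.2, hnxt0 p z.1 z.2⟩) p
  obtain ⟨Tk, hTk⟩ : (I ^ k).FG := IsNoetherian.noetherian _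
  have hdec : ∀ p, ∃ β : Tk → ↑(limit X), (∀ g, β g ∈ I ^ p • (⊤ : Submodule A ↑(limit X))) ∧
      (rem p).1 - (rem (p + 1)).1 = ∑ g : Tk, g.1 • β g := fun p => by
    have h1 : (rem p).1 - (rem (p + 1)).1 ∈ I ^ k • (I ^ p • (⊤ : Submodule A ↑(limit X))) := by
      rw [← Submodule.mul_smul, ← pow_add]
      exact hnxt p _ (rem p).2
    rw [← hTk] at h1
    refine Submodule.smul_induction_on h1 (fun b hb m hm => ?_) fun y y' ⟨β, hβ, e⟩ ⟨β', hβ', e'⟩ =>
      ⟨β + β', fun g => add_mem (hβ g) (hβ' g), by simp [smul_add, Finset.sum_add_distrib, e, e']⟩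
    obtain ⟨l, -, hl⟩ := Submodule.mem_span_finset.1 hb
    refine ⟨fun g => l g.1 • m, fun g => Submodule.smul_mem _ _ hm, ?_⟩
    rw [← hl, Finset.sum_smul, ← Finset.sum_coe_sort]
    refine Finset.sum_congr rfl fun g _ => ?_
    rw [smul_eq_mul, mul_smul, smul_comm]
  choose β hβ hβe using hdec
  have hsmall : ∀ {p q : ℕ}, q + 1 ≤ p → ∀ z ∈ I ^ p • (⊤ : Submodule A ↑(limit X)), π q z = 0 := by
    intro p q hpq z hz
    refine Submodule.smul_induction_on hz (fun b hb m _ => ?_) fun y y' hy hy' => by rw [map_add, hy, hy', add_zero]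
    rw [map_smul]
    exact hk q b (Ideal.pow_le_pow_right hpq hb) _
  let y : Tk → ∀ q, (X.obj (op q) : Type u) := fun g q => π q (∑ p ∈ Finset.range (q + 1), β p g)
  have hy : ∀ g {p q : ℕ} (h : p ≤ q), (X.map (homOfLE h).op).hom (y g q) = y g p := by
    intro g p q h
    change (X.map (homOfLE h).op).hom (π q _) = π p _
    rw [hπ, map_sum, map_sum]
    refine (Finset.sum_subset (Finset.range_mono (Nat.succ_le_succ h)) fun i _ hi => ?_).symm
    exact hsmall (by simp at hi; omega) _ (hβ i g)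
  let cn : Tk → Cone X := fun g =>
    { pt := ModuleCat.of A (ULift.{u} A)
      π := { app := fun l => ModuleCat.ofHom ((LinearMap.toSpanSingleton A _ (y g l.unop)).comp ULift.moduleEquiv.toLinearMap)
             naturality := by
              rintro ⟨q⟩ ⟨p⟩ φ
              have hpq : p ≤ q := leOfHom φ.unop
              rw [show φ = (homOfLE hpq).op from rfl]
              ext t
              change t.down • y g p = (X.map (homOfLE hpq).op).hom (t.down • y g q)
              rw [map_smul, hy g hpq] } }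
  let Y : Tk → ↑(limit X) := fun g => (limit.lift X (cn g)).hom ⟨1⟩
  have hY : ∀ g q, π q (Y g) = y g q := fun g q =>
    (ConcreteCategory.congr_hom (limit.lift_π (cn g) (op q)) (ULift.up 1)).trans (one_smul A (y g q))
  have hxY : x = ∑ g : Tk, g.1 • Y g := by
    refine Concrete.limit_ext X _ _ fun l => ?_
    obtain ⟨q⟩ := l
    change π q x = π q _
    rw [map_sum]
    simp only [map_smul, hY, y, map_sum, Finset.smul_sum]
    rw [Finset.sum_comm]
    simp only [← map_smul, ← map_sum]
    rw [← Finset.sum_congr rfl fun p _ => hβe p, Finset.sum_range_sub' (fun p => (rem p).1)]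
    rw [map_sub]
    change π q x = π q x - π q (rem (q + 1)).1
    rw [← hπ (show q ≤ c + k + (q + 1) by omega) (rem (q + 1)).1, (rem (q + 1)).2, map_zero, sub_zero]
  rw [hxY]
  exact Submodule.sum_mem _ fun g _ => Submodule.smul_mem_smul (hTk ▸ Ideal.subset_span g.2) trivial

/-- sections of a graded piece inside the next level -/
def jS (n : ℕ) : Coh.HH (U : Scheme.{u}) (K G n) 0 →ₗ[A] (Xs G (n + 1) : Type u) :=
  (((Sec U).map (kernel.ι (tr G n (n + 1) (Nat.le_succ n)))).hom).comp (Φ U (K G n)).toLinearMap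

theorem jS_kmul {m n : ℕ} (h : m ≤ n) (d : A) (hd : d ∈ I ^ (n - m)) (hd' : d ∈ I ^ (n + 1 - (m + 1)))
    (y : Coh.HH (U : Scheme.{u}) (K G m) 0) :
    jS n (CohLinear.hmap (kmul hG h d hd) 0 y) =
      ((Sec U).map (mul hG (m + 1) (n + 1) (Nat.succ_le_succ h) d hd')).hom (jS m y) := by
  change ((Sec U).map _).hom (Φ U _ (CohLinear.hmap _ 0 y)) = ((Sec U).map _).hom (((Sec U).map _).hom (Φ U _ y))
  rw [Φ_natural, ← ConcreteCategory.comp_apply, ← Functor.map_comp, kmul_ι, Functor.map_comp]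
  rfl

include hG hI in
/-- the limit topology from finiteness of `H⁰` of the bottom level -/
theorem ker_π_le (hs : Split hG a hI) [Module.Finite A (Coh.HH (U : Scheme.{u}) (G.obj (op 0)) 0)] (k : ℕ) :
    ∃ n : ℕ, LinearMap.ker (limit.π (_root_.Algz.sectMod A U G) (op n)).hom ≤
      I ^ k • (⊤ : Submodule A ↑(limit (_root_.Algz.sectMod A U G))) := by
  let π : ∀ n, (↑(limit (_root_.Algz.sectMod A U G)) : Type u) →ₗ[A] (Xs G n : Type u) := fun n =>
    (limit.π (_root_.Algz.sectMod A U G) (op n)).hom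
  have hπ : ∀ {p q : ℕ} (h : p ≤ q) x, (str G h).hom (π q x) = π p x := fun h x =>
    ConcreteCategory.congr_hom (limit.w (_root_.Algz.sectMod A U G) (homOfLE h).op) x
  obtain ⟨c, hc⟩ := exists_bound hG a hI 0 fun m w =>
    ∃ x, π m x = 0 ∧ π (m + 1) x = jS m (Φp hG a hI 0 m (homog 0 m w))
  refine ⟨c + k, ker_le_of_step (_root_.Algz.sectMod A U G) (fun q b hb x => ?_) c (fun n hn x hx => ?_) k⟩
  · refine (Sec_smulMod U _ b x).symm.trans ?_
    rw [hG.2.1 q b hb]
    exact Sec_map_zero x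
  obtain ⟨y, hy⟩ := exists_of_exact U (kses G n) (kses_shortExact hG n) (π (n + 1) x)
    ((hπ (Nat.le_succ n) x).trans hx)
  obtain ⟨y, rfl⟩ := (Φ U _).surjective y
  obtain ⟨w, hw⟩ := exists_homog hG a hI 0 hs n y
  have hy' : jS n y = π (n + 1) x := hy
  obtain ⟨u, hu, hux⟩ : Φp hG a hI 0 n (homog 0 n w) ∈
      ((I ^ (n - c) • (⊤ : Submodule A _)).map (π (n + 1))).comap (jS n) := by
    refine hc n _ (fun m hm w' ⟨x', hx', hx''⟩ d hd => ?_) w ⟨x, hx, by rw [hw, hy']⟩
    have hd' : aE a d ∈ I ^ (n + 1 - (m + 1)) := by rw [Nat.succ_sub_succ]; exact aE_mem_sub hG a hI hd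
    refine ⟨aE a d • x', Submodule.smul_mem_smul (Ideal.pow_le_pow_right (by omega) (aE_mem_sub hG a hI hd)) trivial, ?_⟩
    rw [jS_kmul hG _ _ _ hd', ← hx'', map_smul, ← Sec_smulMod, ← tr_mul hG (m + 1) (n + 1) (by omega) (aE a d) hd',
      Functor.map_comp]
    change ((Sec U).map _).hom ((str G _).hom (π (n + 1) x')) = _
    rw [hπ]
  exact ⟨u, hu, by rw [hw, hy'] at hux; exact hux⟩

include hG hI in
theorem finite_obj (hs : Split hG a hI) [Module.Finite A (Coh.HH (U : Scheme.{u}) (G.obj (op 0)) 0)] :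
    ∀ n, Module.Finite A (Xs G n : Type u)
  | 0 => Module.Finite.equiv (Φ U (G.obj (op 0)))
  | n + 1 => by
    haveI := finite_obj hs n
    haveI : Module.Finite A (Coh.HH (U : Scheme.{u}) (K G n) 0) := by
      refine Module.Finite.of_surjective (∑ e : Sn r n, (μH hG a hI 0 n e).comp (LinearMap.proj e)) fun y => ?_
      obtain ⟨w, hw⟩ := exists_homog hG a hI 0 hs n y
      exact ⟨w, by rw [Φp_homog] at hw; simpa [LinearMap.sum_apply] using hw⟩
    haveI : Module.Finite A ((Sec U).obj (K G n) : Type u) := Module.Finite.equiv (Φ U (K G n))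
    refine Groth.L16.CohLinear.finite_of_exact A ((Sec U).map (kernel.ι (tr G n (n + 1) (Nat.le_succ n)))).hom
      (str G (Nat.le_succ n)).hom fun y => ⟨fun h => exists_of_exact U (kses G n) (kses_shortExact hG n) y h, ?_⟩
    rintro ⟨z, rfl⟩
    rw [← ConcreteCategory.comp_apply, ← Functor.map_comp, kernel.condition]
    exact Sec_map_zero z

include hG hI in
/-- Canonical extension from split graded pieces. -/
theorem canonicallyExtends (hs : Split hG a hI) [Module.Finite A (Coh.HH (U : Scheme.{u}) (G.obj (op 0)) 0)]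
    [Module.Finite A (Coh.HH (U : Scheme.{u}) (G.obj (op 0)) 1)] :
    _root_.Algz.CanonicallyExtends A I U G := by
  refine Groth.L12.Algz.canonicallyExtends_of U G hG (isML hG a hI hs) (ker_π_le hG a hI hs) fun n => ?_
  haveI : Module.Finite A ((_root_.Algz.sectMod A U G).obj (op n)) := finite_obj hG a hI hs n
  haveI := isNoetherian_of_isNoetherianRing_of_finite A ((_root_.Algz.sectMod A U G).obj (op n))
  exact Module.IsNoetherian.finite _ _

end Groth.L29.Graded
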