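import Groth.Agent.L29.Formal.CdOneRel
import Groth.Agent.L29.Formal.CdOneMaps
import Groth.Agent.L29.Formal.GradedLevels

/-!
Canonical extension in cohomological dimension one when the images of the transition maps on `H⁰` and `H¹` are finite.
-/

set_option autoImplicit false
set_option backward.isDefEq.respectTransparency false
set_option backward.isDefEq.respectTransparency.types false
set_option linter.style.haveILetI false

universe u

open CategoryTheory CategoryTheory.Limits AlgebraicGeometry TopologicalSpace Opposite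

noncomputable section

namespace Groth.L29.CdOne

open _root_.Formal (smulMod)
open Groth.L16 Groth.L16.Existence
open Groth.L16.CohLinear (hmap overLin delta)
open Groth.L29.FreeLevels (Sec obsOf obsOf_natural obsOf_Φ exists_lift_of_obsOf Φ Φ_natural Sec_smulMod)
open Groth.L29.Graded (Xs str str_str Sec_map_zero)

variable {A : Type u} [CommRing A] [IsNoetherianRing A] {U : (Spec (CommRingCat.of A)).Opens} {I : Ideal A}
  {G : ℕᵒᵖ ⥤ (U : Scheme.{u}).Modules} (hG : _root_.Formal.IsCohFormal I G)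

omit [IsNoetherianRing A] in
/-- elements of the limit from compatible families -/
theorem exists_limit_elt (X : ℕᵒᵖ ⥤ ModuleCat.{u} A) (y : ∀ q, (X.obj (op q) : Type u))
    (hy : ∀ {p q : ℕ} (h : p ≤ q), (X.map (homOfLE h).op).hom (y q) = y p) :
    ∃ Y : ↑(limit X), ∀ q, (limit.π X (op q)).hom Y = y q := by
  let cn : Cone X :=
    { pt := ModuleCat.of A (ULift.{u} A)
      π := { app := fun l => ModuleCat.ofHom ((LinearMap.toSpanSingleton A _ (y l.unop)).comp ULift.moduleEquiv.toLinearMap)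
             naturality := by
              rintro ⟨q⟩ ⟨p⟩ φ
              have hpq : p ≤ q := leOfHom φ.unop
              rw [show φ = (homOfLE hpq).op from rfl]
              ext t
              change t.down • y p = (X.map (homOfLE hpq).op).hom (t.down • y q)
              rw [map_smul, hy hpq] } }
  exact ⟨(limit.lift X cn).hom ⟨1⟩, fun q =>
    (ConcreteCategory.congr_hom (limit.lift_π cn (op q)) (ULift.up 1)).trans (one_smul A (y q))⟩

/-- transition between kernels of different depths -/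
def trK {n C l M : ℕ} (hnC : n ≤ C) (hlM : l ≤ M) (hCM : C ≤ M) (hnl : n ≤ l) : Kern G C M hCM ⟶ Kern G n l hnl :=
  kernel.lift _ (kernel.ι _ ≫ tr G l M hlM) (by
    rw [Category.assoc, tr_comp, ← tr_comp G hnC hCM, kernel.condition_assoc, zero_comp])

omit [IsNoetherianRing A] in
theorem trK_ι {n C l M : ℕ} (hnC : n ≤ C) (hlM : l ≤ M) (hCM : C ≤ M) (hnl : n ≤ l) :
    trK (G := G) hnC hlM hCM hnl ≫ kernel.ι _ = kernel.ι _ ≫ tr G l M hlM := kernel.lift_ι _ _ _

include hG in
/-- obstructions of different levels -/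
theorem obs_trK {n C l M : ℕ} (hnC : n ≤ C) (hlM : l ≤ M) (hCM : C ≤ M) (hnl : n ≤ l) (x : Xs G C) :
    obsOf U (kS_shortExact hG n hnl) ((str G hnC).hom x) =
      hmap (trK (G := G) hnC hlM hCM hnl) 1 (obsOf U (kS_shortExact hG C hCM) x) :=
  obsOf_natural U (kS_shortExact hG C hCM) (kS_shortExact hG n hnl)
    (ShortComplex.homMk (trK (G := G) hnC hlM hCM hnl) (tr G l M hlM) (tr G n C hnC) (trK_ι hnC hlM hCM hnl)
      (by change tr G l M hlM ≫ tr G n l hnl = tr G C M hCM ≫ tr G n C hnC; rw [tr_comp, tr_comp])) x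

include hG in
theorem killed_obs {n l : ℕ} (h : n ≤ l) (b : A) (hb : b ∈ I ^ (n + 1)) (v : Coh.HH (U : Scheme.{u}) (Kern G n l h) 1)
    (hv : hmap (kernel.ι (tr G n l h)) 1 v = 0) : b • v = 0 := by
  obtain ⟨w, hw⟩ := (CohLinear.exact_delta_hmap (kS_shortExact hG n h) 0 v).1 hv
  have h1 : obsOf U (kS_shortExact hG n h) (Φ U _ w) = v := (obsOf_Φ U (kS_shortExact hG n h) w).trans hw
  have h2 : b • Φ U (G.obj (op n)) w = 0 := by
    rw [← Sec_smulMod, hG.2.1 n b hb]
    exact Sec_map_zero _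
  rw [← h1, ← map_smul]
  exact (congrArg (obsOf U (kS_shortExact hG n h)) h2).trans (map_zero _)

variable [AlgebraicGeometry.IsNoetherian (U : Scheme.{u})]

include hG in
/-- lifting to all levels beyond a fixed one -/
theorem exists_lift_level (hcd : LocCoh.CdLE A I 1)
    (himage : ∀ n, ∃ (m : ℕ) (h : n ≤ m), Module.Finite A (LinearMap.range (overLin A (hmap (tr G n m h) 1))))
    (n : ℕ) : ∃ (C : ℕ) (hC : n ≤ C), ∀ (l : ℕ) (hl : n ≤ l) (x : Xs G C),
      ∃ w : Xs G l, (str G hl).hom w = (str G hC).hom x := by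
  classical
  obtain ⟨ι, _, a, k, ψ, ha, hψ⟩ := exists_splitting_pow I hcd (n + 1)
  obtain ⟨c₀, s, hmaps⟩ := exists_kernel_maps hG a k ψ hψ
  obtain ⟨c₁, hc₁⟩ := exists_bound_relations hG hcd 1 himage (n + 1) a
  obtain ⟨C, hC0, hC1, hCn⟩ : ∃ C, c₀ ≤ C ∧ c₁ + k ≤ C ∧ n ≤ C := ⟨c₀ + c₁ + k + n, by omega, by omega, by omega⟩
  obtain ⟨Ψ, hκ, hvan, hsum⟩ := hmaps C hC0
  refine ⟨C, hCn, fun l hl x => exists_lift_of_obsOf U (kS_shortExact hG n hl) ((str G hCn).hom x) ?_⟩
  let t : ∀ j, Coh.HH (U : Scheme.{u}) (Kern G C (C + j) (Nat.le_add_right C j)) 1 :=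
    fun j => obsOf U (kS_shortExact hG C (Nat.le_add_right C j)) x
  have ht : ∀ j, hmap (κ (G := G) C (C + j) (Nat.le_add_right C j)) 1 (t (j + 1)) = t j := fun j => by
    have h1 := obsOf_natural U (kS_shortExact hG C (Nat.le_add_right C (j + 1))) (kS_shortExact hG C (Nat.le_add_right C j))
      (ShortComplex.homMk (κ (G := G) C (C + j) (Nat.le_add_right C j)) (tr G (C + j) (C + j + 1) (Nat.le_succ _)) (𝟙 _)
        (κ_ι C _ _) (by change _ ≫ tr G C (C + j) _ = tr G C (C + j + 1) _ ≫ 𝟙 _; rw [tr_comp, Category.comp_id])) x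
    refine h1.symm.trans (congrArg (obsOf U (kS_shortExact hG C (Nat.le_add_right C j))) ?_)
    exact ConcreteCategory.congr_hom ((Sec U).map_id (G.obj (op C))) x
  have htι : ∀ j, hmap (kernel.ι (tr G C (C + j) (Nat.le_add_right C j))) 1 (t j) = 0 := fun j =>
    (CohLinear.exact_delta_hmap (kS_shortExact hG C (Nat.le_add_right C j)) 0 _).2 ⟨(Φ U _).symm x, rfl⟩
  let W : ι → ∀ j, Hs G 1 j := fun i j => hmap (Ψ i j) 1 (t (s + j))
  have hW : W ∈ RelAR.Rel (Hs G 1) (ftr (A := A) G 1) a := by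
    refine ⟨fun i j => ?_, fun j => ?_⟩
    · change hmap (tr G j (j + 1) (Nat.le_succ j)) 1 (hmap (Ψ i (j + 1)) 1 (t (s + (j + 1)))) = hmap (Ψ i j) 1 (t (s + j))
      rw [← CohLinear.hmap_comp, hκ, CohLinear.hmap_comp]
      exact congrArg (hmap (Ψ i j) 1) (ht (s + j))
    · simp only [W, ← Rees.hmap_smulMod, ← CohLinear.hmap_comp]
      rw [← Groth.L29.Graded.hmap_sum, hsum, CohLinear.hmap_comp, htι, map_zero]
  have hWc : ∀ i, W i c₁ = 0 := fun i => by
    change hmap (Ψ i c₁) 1 _ = 0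
    rw [hvan i c₁ hC1]
    exact Rees.hmap_zero _ _
  let T : (ι → ∀ j, Hs G 1 j) →ₗ[A] Coh.HH (U : Scheme.{u}) (Kern G n l hl) 1 :=
    ∑ i, (overLin A (hmap (toKern hG hl (a i) (ha i)) 1)).comp
      ((LinearMap.proj (R := A) (φ := fun j => Hs G 1 j) l).comp (LinearMap.proj (R := A) (φ := fun _ : ι => ∀ j, Hs G 1 j) i))
  have hT : ∀ V, T V = ∑ i, hmap (toKern hG hl (a i) (ha i)) 1 (V i l) := fun V => LinearMap.sum_apply _ _ _
  have hT0 : T W = 0 := by
    refine Submodule.smul_induction_on (hc₁ W hW hWc) (fun b hb V hV => ?_) fun y y' hy hy' => by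
      rw [map_add, hy, hy', add_zero]
    rw [map_smul]
    refine killed_obs hG hl b hb _ ?_
    rw [hT, map_sum]
    refine Eq.trans (Finset.sum_congr rfl fun i _ => ?_) (hV.2 l)
    rw [← CohLinear.hmap_comp, toKern_ι, Rees.hmap_smulMod]
  have hsum' : ∑ i, Ψ i l ≫ toKern hG hl (a i) (ha i) =
      trK (G := G) hCn (show l ≤ C + (s + l) by omega) (Nat.le_add_right _ _) hl := by
    rw [← cancel_mono (kernel.ι (tr G n l hl)), trK_ι, Preadditive.sum_comp]
    refine Eq.trans (Finset.sum_congr rfl fun i _ => ?_) (hsum l)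
    rw [Category.assoc, toKern_ι]
  refine (obs_trK hG hCn (show l ≤ C + (s + l) by omega) (Nat.le_add_right _ _) hl x).trans (Eq.trans ?_ hT0)
  rw [← hsum', Groth.L29.Graded.hmap_sum, hT]
  exact Finset.sum_congr rfl fun i _ => CohLinear.hmap_comp _ _ _ _

include hG in
/-- Mittag-Leffler on sections -/
theorem isML_sect (hcd : LocCoh.CdLE A I 1)
    (himage : ∀ n, ∃ (m : ℕ) (h : n ≤ m), Module.Finite A (LinearMap.range (overLin A (hmap (tr G n m h) 1)))) :
    ARSys.IsML (_root_.Algz.sectMod A U G) := by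
  intro n
  obtain ⟨C, hC, hlift⟩ := exists_lift_level hG hcd himage n
  have hle : ∀ i j : ℕ, (∀ x : (_root_.Algz.sectMod A U G).obj (op (n + i)), ∃ y : (_root_.Algz.sectMod A U G).obj (op (n + j)),
      (ARSys.shiftMap (_root_.Algz.sectMod A U G) j n).hom y = (ARSys.shiftMap (_root_.Algz.sectMod A U G) i n).hom x) →
      imageSubobject (ARSys.shiftMap (_root_.Algz.sectMod A U G) i n) ≤
        imageSubobject (ARSys.shiftMap (_root_.Algz.sectMod A U G) j n) := fun i j hij => by
    refine Groth.L12.Algz.imageSubobject_le_of_comp_cokernel _ _ (ModuleCat.hom_ext (LinearMap.ext fun x => ?_))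
    obtain ⟨y, hy⟩ := hij x
    change (cokernel.π (ARSys.shiftMap (_root_.Algz.sectMod A U G) j n)).hom
      ((ARSys.shiftMap (_root_.Algz.sectMod A U G) i n).hom x) = 0
    rw [← hy]
    exact ConcreteCategory.congr_hom (cokernel.condition (ARSys.shiftMap (_root_.Algz.sectMod A U G) j n)) y
  refine ⟨C, fun s hs' => le_antisymm (hle s C fun x => ?_) (hle C s fun x => ?_)⟩
  · exact ⟨(str G (Nat.add_le_add_left hs' n)).hom x, str_str _ _ x⟩
  · obtain ⟨w, hw⟩ := hlift (n + s) (Nat.le_add_right n s) ((str G (show C ≤ n + C by omega)).hom x)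
    exact ⟨w, hw.trans (str_str _ _ x)⟩

include hG in
/-- the limit topology on sections -/
theorem ker_π_le_sect (hcd : LocCoh.CdLE A I 1) (k : ℕ) :
    ∃ n : ℕ, LinearMap.ker (limit.π (_root_.Algz.sectMod A U G) (op n)).hom ≤
      I ^ k • (⊤ : Submodule A ↑(limit (_root_.Algz.sectMod A U G))) := by
  classical
  let X := _root_.Algz.sectMod A U G
  let π : ∀ n, (↑(limit X) : Type u) →ₗ[A] (Xs G n : Type u) := fun n => (limit.π X (op n)).hom
  have hπ : ∀ {p q : ℕ} (h : p ≤ q) x, (str G h).hom (π q x) = π p x := fun h x =>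
    ConcreteCategory.congr_hom (limit.w X (homOfLE h).op) x
  obtain ⟨c, hc⟩ := exists_combination hG 0 hcd k
  refine ⟨c, fun x hx => ?_⟩
  let z : ∀ n, Coh.HH (U : Scheme.{u}) (G.obj (op n)) 0 := fun n => (Φ U _).symm (π n x)
  have hz : ∀ n, hmap (tr G n (n + 1) (Nat.le_succ n)) 0 (z (n + 1)) = z n := fun n => (Φ U _).injective (by
    rw [Φ_natural, LinearEquiv.apply_symm_apply, LinearEquiv.apply_symm_apply]
    exact hπ (Nat.le_succ n) x)
  have hzc : z c = 0 := (congrArg (Φ U _).symm (LinearMap.mem_ker.1 hx)).trans (map_zero _)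
  obtain ⟨r, b, y, hby, hxy⟩ := hc z hz hzc
  have hy : ∀ i {p q : ℕ} (h : p ≤ q), (str G h).hom (Φ U _ (y i q)) = Φ U _ (y i p) := fun i p q h =>
    (Φ_natural U (tr G p q h) (y i q)).symm.trans (congrArg (Φ U _) (hmap_tr_compat (y i) (hby i).2 h))
  choose Y hY' using fun g : Fin r => exists_limit_elt X (fun q => Φ U _ (y g q)) fun h => hy g h
  have hY : ∀ g q, π q (Y g) = Φ U _ (y g q) := hY'
  have hxY : x = ∑ g, b g • Y g := by
    refine Concrete.limit_ext X _ _ fun l => ?_
    obtain ⟨q⟩ := l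
    change π q x = π q _
    rw [map_sum]
    simp only [map_smul, hY]
    refine ((Φ U (G.obj (op q))).apply_symm_apply (π q x)).symm.trans ?_
    rw [show (Φ U (G.obj (op q))).symm (π q x) = z q from rfl, hxy q, map_sum]
    simp only [map_smul]
  rw [hxY]
  exact Submodule.sum_mem _ fun g _ => Submodule.smul_mem_smul (hby g).1 trivial

include hG in
/-- canonical extension -/
theorem canonicallyExtends (hcd : LocCoh.CdLE A I 1)
    (himage : ∀ p, p ≤ 1 → ∀ n, ∃ (m : ℕ) (h : n ≤ m),
      Module.Finite A (LinearMap.range (overLin A (hmap (tr G n m h) p)))) :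
    _root_.Algz.CanonicallyExtends A I U G := by
  refine Groth.L12.Algz.canonicallyExtends_of U G hG (isML_sect hG hcd (himage 1 le_rfl)) (ker_π_le_sect hG hcd)
    fun n => ?_
  obtain ⟨m, hm, hfin⟩ := himage 0 (Nat.zero_le 1) n
  let Z := (LinearMap.range (overLin A (hmap (tr G n m hm) 0))).map (Φ U (G.obj (op n))).toLinearMap
  haveI : Module.Finite A Z := Module.Finite.map _ _
  haveI : IsNoetherian A Z := isNoetherian_of_isNoetherianRing_of_finite A Z
  have hle : LinearMap.range (limit.π (_root_.Algz.sectMod A U G) (op n)).hom ≤ Z := by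
    rintro _ ⟨x, rfl⟩
    let xm : Xs G m := (limit.π (_root_.Algz.sectMod A U G) (op m)).hom x
    refine ⟨_, ⟨(Φ U _).symm xm, rfl⟩, ?_⟩
    change Φ U _ (hmap (tr G n m hm) 0 ((Φ U _).symm xm)) = _
    rw [Φ_natural, LinearEquiv.apply_symm_apply]
    exact ConcreteCategory.congr_hom (limit.w (_root_.Algz.sectMod A U G) (homOfLE hm).op) x
  exact Module.Finite.of_injective (Submodule.inclusion hle) (Submodule.inclusion_injective hle)

end Groth.L29.CdOne
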