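import Groth.Agent.L29.Formal.OpenDepth
import Groth.Agent.L29.Formal.FreeLevelsFinite
import Groth.Agent.L04.LC.AlgebraizationKill
import Groth.Prelude.Def_Algz

/-!
Finiteness of the image in cohomology of a map factoring through a coherent sheaf with the depth bound on `V(I)`.
-/

set_option autoImplicit false
set_option backward.isDefEq.respectTransparency false
set_option backward.isDefEq.respectTransparency.types false
set_option linter.style.haveILetI false

universe u

open CategoryTheory CategoryTheory.Limits AlgebraicGeometry TopologicalSpace Opposite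

attribute [local instance] HasDerivedCategory.standard

noncomputable section

namespace Groth.L29.CdOnePro

open _root_.Formal (smulMod)
open Groth.L04.PunctLin (tM tg sS sS_shortExact)
open Groth.L04.AlgKill (dep)
open Groth.L16.CohLinear (hmap)

variable {A : Type u} [CommRing A]

section Tors

variable {q : ℕ} (b : Fin q → A) (N : Type u) [AddCommGroup N] [Module A N]

/-- simultaneous multiplication -/
abbrev mulPi : N →ₗ[A] (Fin q → N) := LinearMap.pi fun i => b i • LinearMap.id

/-- the elements killed by all `b i` -/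
abbrev tors : Submodule A N := LinearMap.ker (mulPi b N)

theorem mem_tors {x : N} : x ∈ tors b N ↔ ∀ i, b i • x = 0 := by
  rw [LinearMap.mem_ker]
  exact funext_iff

/-- the sequence of the killed elements -/
abbrev torsS : ShortComplex (ModuleCat.{u} A) :=
  ShortComplex.mk (ModuleCat.ofHom (tors b N).subtype) (ModuleCat.ofHom (mulPi b N).rangeRestrict)
    (ModuleCat.hom_ext (LinearMap.ext fun x => Subtype.ext x.2))

theorem torsS_shortExact : (torsS b N).ShortExact :=
  { exact := (ShortComplex.moduleCat_exact_iff _).2 fun x hx => ⟨⟨x, congrArg Subtype.val hx⟩, rfl⟩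
    mono_f := (ModuleCat.mono_iff_injective _).2 Subtype.val_injective
    epi_g := (ModuleCat.epi_iff_surjective _).2 (mulPi b N).surjective_rangeRestrict }

theorem dep_eq_top_of_kill [IsNoetherianRing A] (T : Type u) [AddCommGroup T] [Module A T] (p : PrimeSpectrum A) (a : A)
    (ha : a ∉ p.asIdeal) (h : ∀ x : T, a • x = 0) : dep T p = ⊤ := by
  haveI : Subsingleton (LocalizedModule p.asIdeal.primeCompl T) := by
    refine LocalizedModule.subsingleton_iff.2 fun x => ⟨a, ha, h x⟩
  exact Groth.L04.idealDepth_eq_top (Subsingleton.elim _ _)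

theorem min_le_dep_tors [IsNoetherianRing A] [Module.Finite A N] (p : PrimeSpectrum A) :
    min (dep N p) 2 ≤ dep (tors b N) p := by
  by_cases h0 : dep N p = 0
  · rw [h0]
    simp
  let R := Localization.AtPrime p.asIdeal
  let P := LocalizedModule p.asIdeal.primeCompl N
  haveI : IsNoetherianRing R := IsLocalization.isNoetherianRing p.asIdeal.primeCompl _ inferInstance
  haveI : Module.Finite R P :=
    Module.Finite.of_isLocalizedModule p.asIdeal.primeCompl (LocalizedModule.mkLinearMap p.asIdeal.primeCompl N)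
  haveI := isNoetherian_of_isNoetherianRing_of_finite A N
  haveI : Module.Finite R (LocalizedModule p.asIdeal.primeCompl (tors b N)) :=
    Module.Finite.of_isLocalizedModule p.asIdeal.primeCompl
      (LocalizedModule.mkLinearMap p.asIdeal.primeCompl (tors b N))
  let σ : P →ₗ[R] (Fin q → P) := LinearMap.pi fun i => algebraMap A R (b i) • LinearMap.id
  let ι : LocalizedModule p.asIdeal.primeCompl (tors b N) →ₗ[R] P :=
    LocalizedModule.map p.asIdeal.primeCompl (tors b N).subtype
  have hι : Function.Injective ι := LocalizedModule.map_injective _ _ Subtype.val_injective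
  have hex : Function.Exact ι σ.rangeRestrict := by
    intro x
    constructor
    · intro hx
      have hx' : ∀ i, algebraMap A R (b i) • x = 0 := fun i => congrFun (congrArg Subtype.val hx) i
      induction x using LocalizedModule.induction_on with
      | h n s =>
        have hn : ∀ i, ∃ t : p.asIdeal.primeCompl, t • b i • n = 0 := fun i => by
          have := hx' i
          rw [algebraMap_smul, LocalizedModule.smul'_mk, ← LocalizedModule.zero_mk s, LocalizedModule.mk_eq] at this
          obtain ⟨t, ht⟩ := this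
          refine ⟨t * s, ?_⟩
          rw [mul_smul]
          simpa using ht
        choose t ht using hn
        let T : p.asIdeal.primeCompl := ∏ i, t i
        have hT : T • n ∈ tors b N := (mem_tors b N).2 fun i => by
          obtain ⟨d, hd⟩ : t i ∣ T := Finset.dvd_prod_of_mem _ (Finset.mem_univ i)
          rw [smul_comm, hd, mul_comm, mul_smul, ht, smul_zero]
        refine ⟨LocalizedModule.mk ⟨T • n, hT⟩ (T * s), ?_⟩
        rw [LocalizedModule.map_mk]
        exact LocalizedModule.mk_cancel_common_left T s n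
    · rintro ⟨y, rfl⟩
      induction y using LocalizedModule.induction_on with
      | h n s =>
        refine Subtype.ext (funext fun i => ?_)
        change algebraMap A R (b i) • ι (LocalizedModule.mk n s) = 0
        rw [LocalizedModule.map_mk, algebraMap_smul, LocalizedModule.smul'_mk]
        exact (congrArg (LocalizedModule.mk · s) ((mem_tors b N).1 n.2 i)).trans (LocalizedModule.zero_mk s)
  obtain ⟨r, hr, hreg⟩ : ∃ r ∈ IsLocalRing.maximalIdeal R, IsSMulRegular P r := by
    refine (Groth.L04.exists_regular_or_killed (IsLocalRing.maximalIdeal R) P).resolve_right fun ⟨z, hz, hz'⟩ => hz ?_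
    exact Groth.L04.hom_zero_of_one_le (ENat.one_le_iff_ne_zero.2 h0) hz'
  have h1 : (1 : ℕ∞) ≤ LocCoh.idealDepth (IsLocalRing.maximalIdeal R) (LinearMap.range σ) :=
    Groth.L04.one_le_idealDepth_of_regular hr fun x y hxy =>
      Subtype.ext (funext fun i => hreg (congrFun (congrArg Subtype.val hxy) i))
  refine le_trans ?_ (Groth.L04.idealDepth_shortExact (IsLocalRing.maximalIdeal R) hι
    σ.surjective_rangeRestrict hex).2.2
  refine min_le_min le_rfl ?_
  calc (2 : ℕ∞) = 1 + 1 := one_add_one_eq_two.symm
    _ ≤ _ := add_le_add_left h1 1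

end Tors

section Dist

variable [IsNoetherianRing A] {ω : Dual.D A} (hω : Dual.IsDualizing A ω)

theorem deltaYZ_le (I : Ideal A) (U : (Spec (CommRingCat.of A)).Opens) (p q : PrimeSpectrum.zeroLocus (R := A) I)
    (hq : q.1 ∉ U.1) (hpq : p.1 ≤ q.1) :
    Algz.deltaYZ A I U p ≤ ((Groth.L29.HomD.dimFun hω p.1 - Groth.L29.HomD.dimFun hω q.1).toNat : ℕ∞) := by
  have hs : p ⤳ q := Topology.IsInducing.subtypeVal.specializes_iff.1 ((PrimeSpectrum.le_iff_specializes _ _).1 hpq)
  refine iInf₂_le_of_le 0
    { v := fun _ => q, w := fun _ => p, spec := fun _ => hs, spec_succ := fun i => i.elim0,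
      start_mem := hq, last_eq := rfl } ?_
  refine le_trans (le_of_eq (show _ = Algz.codimPt p q hs by simp [Algz.DSystem.delta, Algz.DSystem.c])) ?_
  let Y := PrimeSpectrum.zeroLocus (R := A) (I : Set A)
  let d : Set.Ici (Specialization.toEquiv q) → ℤ := fun x => Groth.L29.HomD.dimFun hω (Specialization.ofEquiv x.1).1
  have hle : ∀ x y : Specialization Y, x ≤ y → (Specialization.ofEquiv y).1 ≤ (Specialization.ofEquiv x).1 :=
    fun x y h => (PrimeSpectrum.le_iff_specializes _ _).2 (Specializes.map h continuous_subtype_val)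
  have hmono : StrictMono fun x => (d x - Groth.L29.HomD.dimFun hω q.1).toNat := by
    intro x y hxy
    have h1 : (Specialization.ofEquiv y.1).1 < (Specialization.ofEquiv x.1).1 := by
      refine lt_of_le_not_ge (hle _ _ hxy.le) fun hge => hxy.not_ge ?_
      exact Topology.IsInducing.subtypeVal.specializes_iff.1 ((PrimeSpectrum.le_iff_specializes _ _).1 hge)
    have h2 : d x < d y := Groth.L29.HomD.dimFun_strictAnti hω h1
    have h3 : Groth.L29.HomD.dimFun hω q.1 ≤ d x := (Groth.L29.HomD.dimFun_strictAnti hω).antitone (hle _ _ x.2)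
    change (d x - _).toNat < (d y - _).toNat
    omega
  refine le_trans (Order.height_le_height_apply_of_strictMono _ hmono _) ?_
  rw [Order.height_nat]
  exact le_rfl

end Dist

variable [IsNoetherianRing A] (I 𝔞 : Ideal A)

local notation "Uo" => LocCoh.puncturedOpen A 𝔞

/-- depth of the stalks through a tilde model -/
theorem depth_stalk_eq {U : (Spec (CommRingCat.of A)).Opens} (N : ModuleCat.{u} A) [Module.Finite A N]
    (P : (U : Scheme.{u}).Modules) (e : tM U N ≅ P) (x : U) :
    LocCoh.depth ((U : Scheme.{u}).presheaf.stalk x) (P.presheaf.stalk x) = dep N (U.ι x) := by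
  refine Eq.trans ?_ (Groth.L29.OpenDepth.depth_tilde_restrict U N x)
  exact (Groth.L04.idealDepth_congr ((Groth.L00.Stk.F (U : Scheme.{u}) x).mapIso e).toLinearEquiv).symm

open Groth.L04.LC in
/-- image of a map factoring through a sheaf of depth plus distance at least three -/
theorem finite_range (hdc : ∃ ω : Dual.D A, Dual.IsDualizing A ω) (hI𝔞 : I ≤ 𝔞) {P₁ P₂ P₃ : (Uo : Scheme.{u}).Modules}
    (hP : Coh.IsCoh P₂)
    (hdepth : ∀ (y : (Uo : Scheme.{u})) (hy : (Uo).ι.base y ∈ PrimeSpectrum.zeroLocus (R := A) I),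
      (3 : ℕ∞) ≤ LocCoh.depth ((Uo : Scheme.{u}).presheaf.stalk y) (P₂.presheaf.stalk y) +
        Algz.deltaYZ A I Uo ⟨(Uo).ι.base y, hy⟩)
    (m : ℕ) (hk : _root_.Formal.KilledBy (I ^ (m + 1)) P₁) (f : P₁ ⟶ P₂) (g : P₂ ⟶ P₃) (i : ℕ) (hi : i ≤ 1) :
    Module.Finite A (LinearMap.range (Groth.L16.CohLinear.overLin A (hmap (f ≫ g) i))) := by
  obtain ⟨ω, hω⟩ := hdc
  haveI : IsNoetherianRing (CommRingCat.of A) := ‹IsNoetherianRing A›
  haveI : Coh.IsQCoh P₂ := hP.1
  obtain ⟨N, hN, ⟨e⟩⟩ := Groth.L14.PicSurj.exists_tilde_extension' Uo P₂ hP.2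
  haveI : Module.Finite A N := hN
  haveI := isNoetherian_of_isNoetherianRing_of_finite A N
  obtain ⟨q, b, hb⟩ := Submodule.fg_iff_exists_fin_generating_family.1 (IsNoetherian.noetherian (I ^ (m + 1)))
  have hbI : ∀ i, b i ∈ I ^ (m + 1) := fun i => hb.le (Submodule.subset_span ⟨i, rfl⟩)
  let T := tilde.functor (CommRingCat.of A) ⋙ Scheme.Modules.restrictFunctor (Uo).ι
  haveI : (Scheme.Modules.restrictFunctor (Uo).ι).Additive :=
    (Scheme.Modules.restrictAdjunction (Uo).ι).left_adjoint_additive
  haveI : T.Additive := inferInstance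
  let S := torsS b N
  have hS := sS_shortExact Uo (torsS_shortExact b N)
  haveI : Mono (sS Uo S).f := hS.mono_f
  -- the factorisation
  have hf : (f ≫ e.inv) ≫ tg Uo S.g = 0 := by
    let incl : S.X₃ ⟶ ModuleCat.of A (Fin q → N) := ModuleCat.ofHom (LinearMap.range (mulPi b N)).subtype
    haveI : Mono incl := (ModuleCat.mono_iff_injective _).2 Subtype.val_injective
    haveI : PreservesFiniteLimits (tilde.functor (CommRingCat.of A)) := Groth.L18.TildeF.tilde_preservesFiniteLimits
    haveI : Mono (tg Uo incl) := inferInstance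
    rw [← cancel_mono (tg Uo incl), zero_comp, Category.assoc]
    have h2 : S.g ≫ incl = ∑ i, Groth.L29.Formal.sc (b i) N ≫ ModuleCat.ofHom (LinearMap.single A (fun _ : Fin q => (N : Type u)) i) := by
      refine ModuleCat.hom_ext (LinearMap.ext fun x => ?_)
      change mulPi b N x = _
      rw [ModuleCat.hom_sum, LinearMap.sum_apply]
      exact (Finset.univ_sum_single (fun i => b i • x)).symm
    have h3 : tg Uo S.g ≫ tg Uo incl = T.map (S.g ≫ incl) := (T.map_comp _ _).symm
    rw [h3, h2, T.map_sum, Preadditive.comp_sum]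
    refine Finset.sum_eq_zero fun i _ => ?_
    rw [T.map_comp, ← Category.assoc]
    have h4 : (f ≫ e.inv) ≫ T.map (Groth.L29.Formal.sc (b i) N) = 0 := by
      change (f ≫ e.inv) ≫ tg Uo (Groth.L29.Formal.sc (b i) N) = 0
      rw [← Groth.L29.Formal.smulMod_tM, ← Groth.L16.Rees.smulMod_naturality, hk _ (hbI i), zero_comp]
    rw [h4, zero_comp]
  obtain ⟨f', hf'⟩ := KernelFork.IsLimit.lift' hS.fIsKernel (f ≫ e.inv) hf
  change f' ≫ tg Uo S.f = f ≫ e.inv at hf'
  -- finiteness of the killed part
  have hU : ∀ p : PrimeSpectrum A, ¬ 𝔞 ≤ p.asIdeal ↔ p ∈ (Uo).1 := fun p => Iff.rfl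
  have hBig : ∀ p r : PrimeSpectrum A, ¬ 𝔞 ≤ p.asIdeal → 𝔞 ≤ r.asIdeal → p ≤ r →
      Groth.L04.AlgKill.Big (tors b N) hω 2 p r := by
    intro p r hp hr hpr j hj
    by_cases hIp : I ≤ p.asIdeal
    · have h1 := min_le_dep_tors b N p
      rw [hj] at h1
      have h2 : (3 : ℕ∞) ≤ dep N p + Algz.deltaYZ A I Uo ⟨p, hIp⟩ := by
        have := hdepth ⟨p, hp⟩ hIp
        rwa [depth_stalk_eq N P₂ e] at this
      have h3 := h2.trans (add_le_add_right (deltaYZ_le hω I Uo ⟨p, hIp⟩ ⟨r, hI𝔞.trans hr⟩ (fun h => h hr) hpr) _)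
      have hlt : p < r := lt_of_le_not_ge hpr fun h => hp (hr.trans h)
      have h4 : Groth.L29.HomD.dimFun hω r < Groth.L29.HomD.dimFun hω p := Groth.L29.HomD.dimFun_strictAnti hω hlt
      generalize dep N p = d at h1 h3
      cases d with
      | top => rw [min_eq_right le_top] at h1; have : 2 ≤ j := by exact_mod_cast h1
               omega
      | coe d =>
        have h5 : d ≤ j ∨ 2 ≤ j := (min_le_iff.1 h1).imp (fun h => by exact_mod_cast h) (fun h => by exact_mod_cast h)
        have h6 : 3 ≤ d + (Groth.L29.HomD.dimFun hω p - Groth.L29.HomD.dimFun hω r).toNat := by exact_mod_cast h3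
        omega
    · obtain ⟨a, haI, hap⟩ := SetLike.not_le_iff_exists.1 hIp
      have hkill : ∀ x : tors b N, a ^ (m + 1) • x = 0 := fun x => by
        have : a ^ (m + 1) ∈ I ^ (m + 1) := Ideal.pow_mem_pow haI _
        rw [← hb] at this
        refine Subtype.ext ?_
        generalize a ^ (m + 1) = c at this ⊢
        induction this using Submodule.span_induction with
        | mem c hc =>
          obtain ⟨i, rfl⟩ := hc
          exact (mem_tors b N).1 x.2 i
        | zero => simp
        | add c d _ _ h h' => simp only [Submodule.coe_smul, Submodule.coe_zero] at h h' ⊢; rw [add_smul, h, h', add_zero]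
        | smul c d _ h => simp only [Submodule.coe_smul, Submodule.coe_zero] at h ⊢; rw [smul_assoc, h, smul_zero]
      rw [dep_eq_top_of_kill (tors b N) p _ (fun h => hap (p.isPrime.mem_of_pow_mem _ h)) hkill] at hj
      exact absurd hj (ENat.top_ne_coe j)
  obtain ⟨n, hn⟩ := Groth.L04.AlgKill.exists_pow_kills (tors b N) hω 2 𝔞 𝔞 hBig
  let K : ModuleCat.{u} A := ModuleCat.of A (tors b N)
  have hfin : ∀ j ≤ 2, Module.Finite A (LocCoh.H 𝔞 j K) :=
    finite_H_of_killed 𝔞 2 K n fun j hj a ha => hn a ha j hj
  haveI : Module.Finite A (Coh.HH (Uo : Scheme.{u}) (tM Uo K) i) := by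
    obtain rfl | rfl : i = 0 ∨ i = 1 := by omega
    · haveI : Module.Finite A ((localCohomology 𝔞 1).obj K) := hfin 1 (by omega)
      obtain ⟨-, ⟨c⟩⟩ := Groth.L04.Koszul.Cech.exists_toOpen_punctured 𝔞 K
      let t := (tilde.toOpen (R := CommRingCat.of A) K Uo).hom
      haveI : Module.Finite A ((Groth.L04.PunctLin.sect Uo K : Type u) ⧸ LinearMap.range t) := Module.Finite.equiv c.symm
      haveI : Module.Finite A (LinearMap.range t) := Module.Finite.range t
      haveI : Module.Finite A (Groth.L04.PunctLin.sect Uo K : Type u) :=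
        Module.Finite.of_submodule_quotient (LinearMap.range t)
      exact Module.Finite.equiv (Groth.L04.PunctLin.gamma Uo K).symm
    · haveI : Module.Finite A ((localCohomology 𝔞 2).obj K) := hfin 2 le_rfl
      obtain ⟨ee⟩ := Groth.L04.PunctLin.nonempty_equiv 𝔞 0 K
      exact Module.Finite.equiv ee.symm
  let h := tg Uo S.f ≫ e.hom ≫ g
  haveI : IsNoetherian A (LinearMap.range (Groth.L16.CohLinear.overLin A (hmap h i))) :=
    isNoetherian_of_isNoetherianRing_of_finite A _
  have hle : LinearMap.range (Groth.L16.CohLinear.overLin A (hmap (f ≫ g) i)) ≤ LinearMap.range (Groth.L16.CohLinear.overLin A (hmap h i)) := by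
    rintro _ ⟨x, rfl⟩
    refine ⟨hmap f' i x, ?_⟩
    refine Eq.trans (Groth.L16.CohLinear.hmap_comp f' h i x).symm ?_
    change hmap (f' ≫ h) i x = hmap (f ≫ g) i x
    congr 2
    simp only [h, ← Category.assoc, hf']
    simp
  exact Module.Finite.of_injective (Submodule.inclusion hle) (Submodule.inclusion_injective hle)

end Groth.L29.CdOnePro
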