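import Groth.Agent.L16.Exist.Alg
import Mathlib.RingTheory.Filtration

/-!
Artin-Rees for the relations between compatible families in a system of modules with adic topology and finite images.
-/

set_option autoImplicit false
set_option linter.style.haveILetI false

universe u v

noncomputable section

namespace Groth.L29.RelAR

open Groth.L16.Exist (lim cmod cmod_tower climit isNoetherian_completion isComplete_completion mem_map_pow_smul)

/-- finiteness by successive approximation over a complete ring -/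
theorem finite_of_approx {C : Type u} [CommRing C] (J : Ideal C) [IsAdicComplete J C] {L : Type v} [AddCommGroup L]
    [Module C L] {r : ℕ} (y : Fin r → L) (h : ⊤ ≤ Submodule.span C (Set.range y) ⊔ J • (⊤ : Submodule C L))
    (hsep : ∀ x : L, (∀ m, x ∈ J ^ m • (⊤ : Submodule C L)) → x = 0) : Module.Finite C L := by
  classical
  let Φ : (Fin r → C) →ₗ[C] L := Fintype.linearCombination C y
  have hΦ : LinearMap.range Φ = Submodule.span C (Set.range y) := Fintype.range_linearCombination C y
  have hstep : ∀ p : ℕ, ∀ x ∈ J ^ p • (⊤ : Submodule C L), ∃ β ∈ J ^ p • (⊤ : Submodule C (Fin r → C)),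
      x - Φ β ∈ J ^ (p + 1) • (⊤ : Submodule C L) := by
    intro p x hx
    replace hx := Submodule.smul_mono (le_refl (J ^ p)) h hx
    rw [← hΦ, Submodule.smul_sup, LinearMap.range_eq_map, ← Submodule.map_smul'', ← Submodule.mul_smul, ← pow_succ,
      Submodule.mem_sup] at hx
    obtain ⟨_, ⟨β, hβ, rfl⟩, z, hz, rfl⟩ := hx
    exact ⟨β, hβ, by rwa [add_sub_cancel_left]⟩
  refine Module.Finite.of_surjective Φ fun x => ?_
  choose β hβ hβ' using hstep
  let rem : ∀ p, {z : L // z ∈ J ^ p • (⊤ : Submodule C L)} := fun p =>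
    Nat.rec (motive := fun p => {z : L // z ∈ J ^ p • (⊤ : Submodule C L)}) ⟨x, by simp⟩
      (fun p z => ⟨z.1 - Φ (β p z.1 z.2), hβ' p z.1 z.2⟩) p
  let a : ℕ → Fin r → C := fun m => ∑ p ∈ Finset.range (m + 1), β p (rem p).1 (rem p).2
  obtain ⟨c, hc⟩ := Groth.Agent.S0797.exists_limit J a fun m => by
    simp only [a]
    rw [Finset.sum_range_succ _ (m + 1), add_sub_cancel_left]
    exact hβ _ _ _
  have hrem : ∀ m, x - Φ (a m) = (rem (m + 1)).1 := fun m => by
    induction m with
    | zero => simp [a]; rfl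
    | succ m ih =>
      simp only [a] at ih ⊢
      rw [Finset.sum_range_succ _ (m + 1), map_add, ← sub_sub, ih]
  refine ⟨c, (sub_eq_zero.1 (hsep (x - Φ c) fun m => ?_)).symm⟩
  have h1 : Φ (c - a m) ∈ J ^ (m + 1) • (⊤ : Submodule C L) := by
    have := Submodule.mem_map_of_mem (f := Φ) (hc m)
    rw [Submodule.map_smul''] at this
    exact Submodule.smul_mono le_rfl le_top this
  have h2 := sub_mem (rem (m + 1)).2 h1
  rw [← hrem m, map_sub, sub_sub_sub_cancel_right] at h2
  exact Submodule.smul_mono (Ideal.pow_le_pow_right (Nat.le_succ m)) le_rfl h2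

variable {A : Type u} [CommRing A] {I : Ideal A} (M : ℕ → Type u) [∀ n, AddCommGroup (M n)] [∀ n, Module A (M n)]
  (f : ∀ n, M (n + 1) →ₗ[A] M n)

/-- compatible tuples satisfying a linear relation -/
def Rel {ι : Type} [Fintype ι] (a : ι → A) : Submodule A (ι → ∀ n, M n) where
  carrier := {W | (∀ i, W i ∈ lim M f) ∧ ∀ n, ∑ i, a i • W i n = 0}
  add_mem' {W W'} h h' := ⟨fun i => add_mem (h.1 i) (h'.1 i), fun n => by
    simp only [Pi.add_apply, smul_add, Finset.sum_add_distrib]
    rw [h.2 n, h'.2 n, add_zero]⟩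
  zero_mem' := ⟨fun i => zero_mem _, fun n => Finset.sum_eq_zero fun i _ => smul_zero _⟩
  smul_mem' b W h := ⟨fun i => Submodule.smul_mem _ b (h.1 i), fun n => by
    simp only [Pi.smul_apply, smul_comm _ b]
    rw [← Finset.smul_sum, h.2 n, smul_zero]⟩

variable [IsNoetherianRing A] (hk : ∀ n, ∀ b ∈ I ^ (n + 1), ∀ x : M n, b • x = 0)
  (hdeep : ∀ m, ∃ c, ∀ x ∈ lim M f, x c = 0 →
    ∃ (k : ℕ) (b : Fin k → A) (y : Fin k → ∀ n, M n), (∀ i, b i ∈ I ^ m ∧ y i ∈ lim M f) ∧ x = ∑ i, b i • y i)
  (himage : ∀ n, ∃ Z : Submodule A (M n), Module.Finite A Z ∧ ∀ x ∈ lim M f, x n ∈ Z)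

include hdeep in
omit [IsNoetherianRing A] in
theorem exists_deep (m : ℕ) : letI := fun n => cmod I M hk n
    ∃ c, ∀ x : climit I M f hk, x.1 c = 0 →
      x ∈ (I.map (algebraMap A (AdicCompletion I A))) ^ m • (⊤ : Submodule (AdicCompletion I A) (climit I M f hk)) := by
  letI := fun n => cmod I M hk n
  haveI := fun n => cmod_tower I M hk n
  obtain ⟨c, hc⟩ := hdeep m
  refine ⟨c, fun x hxc => (mem_map_pow_smul I x).2 ?_⟩
  obtain ⟨k, b, y, hby, hxy⟩ := hc x.1 x.2 hxc
  have hsum : x = ∑ i, b i • (⟨y i, (hby i).2⟩ : climit I M f hk) := Subtype.ext (by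
    rw [AddSubmonoidClass.coe_finsetSum]
    exact hxy)
  rw [hsum]
  exact Submodule.sum_mem _ fun i _ => Submodule.smul_mem_smul (hby i).1 trivial

include hdeep himage in
theorem finite_climit : letI := fun n => cmod I M hk n
    Module.Finite (AdicCompletion I A) (climit I M f hk) := by
  letI := fun n => cmod I M hk n
  haveI := fun n => cmod_tower I M hk n
  haveI := isComplete_completion (B := A) I
  obtain ⟨c, hc⟩ := exists_deep M f hk hdeep 1
  let L := climit I M f hk
  let π : L →ₗ[A] M c := (LinearMap.proj c).comp (L.subtype.restrictScalars A)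
  obtain ⟨Z, hZ, hle'⟩ := himage c
  haveI := hZ
  haveI : IsNoetherian A Z := isNoetherian_of_isNoetherianRing_of_finite A Z
  have hle : LinearMap.range π ≤ Z := by
    rintro _ ⟨x, rfl⟩
    exact hle' x.1 x.2
  haveI : Module.Finite A (LinearMap.range π) :=
    Module.Finite.of_injective (Submodule.inclusion hle) (Submodule.inclusion_injective hle)
  obtain ⟨r, w, hw⟩ := Submodule.fg_iff_exists_fin_generating_family.1
    (Module.Finite.iff_fg.1 ‹Module.Finite A (LinearMap.range π)›)
  choose y hy using fun i : Fin r => (hw.le (Submodule.subset_span ⟨i, rfl⟩) : w i ∈ LinearMap.range π)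
  refine finite_of_approx (I.map (algebraMap A (AdicCompletion I A))) y (fun x _ => ?_) fun x hxm =>
    Subtype.ext (funext fun n => ?_)
  · have h1 : π x ∈ (Submodule.span A (Set.range y)).map π := by
      rw [Submodule.map_span, ← Set.range_comp, show π ∘ y = w from funext hy, hw]
      exact ⟨x, rfl⟩
    obtain ⟨z, hz, hzx⟩ := h1
    refine Submodule.mem_sup.2 ⟨z, Submodule.span_le_restrictScalars A _ _ hz, x - z, ?_, add_sub_cancel _ _⟩
    have := hc (x - z) (show π (x - z) = 0 by rw [map_sub, hzx, sub_self])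
    rwa [pow_one] at this
  · refine Submodule.smul_induction_on ((mem_map_pow_smul I x).1 (hxm (n + 1))) (fun b hb z _ => ?_) fun z z' h h' => ?_
    · exact hk n b hb (z.1 n)
    · exact (congrArg₂ (· + ·) h h').trans (zero_add _)

include hk hdeep himage in
/-- relations deep in the topology are combinations of relations with coefficients in a power of the ideal -/
theorem exists_bound_relations (e : ℕ) {ι : Type} [Fintype ι] (a : ι → A) :
    ∃ c : ℕ, ∀ W ∈ Rel M f a, (∀ i, W i c = 0) → W ∈ I ^ e • Rel M f a := by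
  classical
  letI := fun n => cmod I M hk n
  haveI := fun n => cmod_tower I M hk n
  haveI := isNoetherian_completion (B := A) I
  haveI := finite_climit M f hk hdeep himage
  let C := AdicCompletion I A
  let L := climit I M f hk
  let J' : Ideal C := I.map (algebraMap A C)
  let ρ : (ι → L) →ₗ[C] L := ∑ i, algebraMap A C (a i) • LinearMap.proj i
  have hρ' : ∀ (V : ι → L) (n : ℕ), (ρ V).1 n = ∑ i, a i • (V i).1 n := fun V n => by
    simp only [ρ, LinearMap.sum_apply, LinearMap.smul_apply, LinearMap.proj_apply, algebraMap_smul]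
    rw [AddSubmonoidClass.coe_finsetSum, Finset.sum_apply]
    rfl
  obtain ⟨d, hd⟩ := Ideal.exists_pow_inf_eq_pow_smul J' (LinearMap.ker ρ)
  obtain ⟨c, hc⟩ := exists_deep M f hk hdeep (e + d)
  refine ⟨c, fun W hW hWc => ?_⟩
  let W' : ι → L := fun i => ⟨W i, hW.1 i⟩
  have hρ : ρ W' = 0 := Subtype.ext (funext fun n => (hρ' W' n).trans (hW.2 n))
  have h1 : W' ∈ J' ^ (e + d) • (⊤ : Submodule C (ι → L)) := by
    rw [← Finset.univ_sum_single W']
    refine Submodule.sum_mem _ fun i _ => ?_
    have h2 := Submodule.mem_map_of_mem (f := LinearMap.single C (fun _ => L) i) (hc (W' i) (hWc i))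
    rw [Submodule.map_smul''] at h2
    exact Submodule.smul_mono le_rfl le_top h2
  have h3 : W' ∈ J' ^ (e + d) • ⊤ ⊓ LinearMap.ker ρ := ⟨h1, hρ⟩
  rw [hd (e + d) (by omega), Nat.add_sub_cancel] at h3
  have h4 : W' ∈ J' ^ e • LinearMap.ker ρ := Submodule.smul_mono le_rfl inf_le_right h3
  rw [← Ideal.map_pow] at h4
  let em : (ι → L) →ₗ[A] (ι → ∀ n, M n) :=
    LinearMap.pi fun i => (L.subtype.restrictScalars A).comp (LinearMap.proj i)
  have h5 : W' ∈ I ^ e • (LinearMap.ker ρ).restrictScalars A := by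
    rw [← Ideal.smul_restrictScalars]
    exact h4
  have h6 := Submodule.mem_map_of_mem (f := em) h5
  rw [Submodule.map_smul''] at h6
  refine Submodule.smul_mono le_rfl ?_ h6
  rintro _ ⟨V, hV, rfl⟩
  refine ⟨fun i => (V i).2, fun n => (hρ' V n).symm.trans ?_⟩
  rw [show ρ V = 0 from hV]
  rfl

end Groth.L29.RelAR
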