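import Groth.Agent.L29.Formal.CdOneTopology
import Groth.Agent.L29.Formal.RelAR

/-!
Artin-Rees for the relations between compatible families of cohomology classes, in cohomological dimension one.
-/

set_option autoImplicit false
set_option backward.isDefEq.respectTransparency false
set_option backward.isDefEq.respectTransparency.types false
set_option linter.style.haveILetI false

universe u

open CategoryTheory CategoryTheory.Limits AlgebraicGeometry TopologicalSpace Opposite

noncomputable section

namespace Groth.L29.CdOne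

open Groth.L16 Groth.L16.Existence
open Groth.L16.CohLinear (hmap overLin)

variable {A : Type u} [CommRing A] [IsNoetherianRing A] {I : Ideal A} {X : Scheme.{u}}
  [X.Over (Spec (CommRingCat.of A))] {G : ℕᵒᵖ ⥤ X.Modules} (hG : _root_.Formal.IsCohFormal I G)

/-- classes in degree `p` of the levels -/
abbrev Hs (G : ℕᵒᵖ ⥤ X.Modules) (p n : ℕ) : Type u := Coh.HH X (G.obj (op n)) p

/-- transition on classes -/
abbrev ftr (G : ℕᵒᵖ ⥤ X.Modules) (p n : ℕ) : Hs G p (n + 1) →ₗ[A] Hs G p n :=
  overLin A (hmap (tr G n (n + 1) (Nat.le_succ n)) p)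

include hG in
omit [IsNoetherianRing A] in
theorem killed_Hs (p n : ℕ) (b : A) (hb : b ∈ I ^ (n + 1)) (x : Hs G p n) : b • x = 0 := by
  rw [← Rees.hmap_smulMod, hG.2.1 n b hb]
  exact Rees.hmap_zero _ _

omit [IsNoetherianRing A] in
theorem hmap_tr_compat {p : ℕ} (x : ∀ n, Hs G p n) (hx : ∀ n, hmap (tr G n (n + 1) (Nat.le_succ n)) p (x (n + 1)) = x n)
    {n m : ℕ} (h : n ≤ m) : hmap (tr G n m h) p (x m) = x n := by
  induction m, h using Nat.le_induction with
  | base => rw [tr_self]; exact CohLinear.hmap_id p _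
  | succ m hm ih =>
    rw [← tr_comp G hm (Nat.le_succ m), CohLinear.hmap_comp]
    exact (congrArg (hmap _ p) (hx m)).trans ih

variable [AlgebraicGeometry.IsNoetherian X]

include hG in
/-- relations deep in the topology are combinations of relations with coefficients in a power of the ideal -/
theorem exists_bound_relations (hcd : LocCoh.CdLE A I 1) (p : ℕ)
    (himage : ∀ n, ∃ (m : ℕ) (h : n ≤ m), Module.Finite A (LinearMap.range (overLin A (hmap (tr G n m h) p))))
    (e : ℕ) {ι : Type} [Fintype ι] (a : ι → A) :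
    ∃ c : ℕ, ∀ W ∈ RelAR.Rel (Hs G p) (ftr (A := A) G p) a, (∀ i, W i c = 0) →
      W ∈ I ^ e • RelAR.Rel (Hs G p) (ftr (A := A) G p) a := by
  refine RelAR.exists_bound_relations (Hs G p) (ftr (A := A) G p) (killed_Hs hG p) (fun m => ?_) (fun n => ?_) e a
  · obtain ⟨c, hc⟩ := exists_combination hG p hcd m
    refine ⟨c, fun x hx hxc => ?_⟩
    obtain ⟨k, b, y, hby, hxy⟩ := hc x hx hxc
    refine ⟨k, b, y, fun i => hby i, funext fun n => ?_⟩
    rw [Finset.sum_apply]
    exact hxy n
  · obtain ⟨m, hm, hfin⟩ := himage n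
    exact ⟨_, hfin, fun x hx => ⟨x m, hmap_tr_compat x hx hm⟩⟩

end Groth.L29.CdOne
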