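import Groth.Agent.L29.Formal.CdOneAlg
import Groth.Agent.L16.Exist.Systems
import Groth.Agent.L20.ModStalk
import Groth.Agent.L16.CohSupport

/-!
The splitting maps of the deep kernels of a coherent formal module in cohomological dimension one.
-/

set_option autoImplicit false
set_option backward.isDefEq.respectTransparency false
set_option backward.isDefEq.respectTransparency.types false
set_option linter.style.haveILetI false

universe u

open CategoryTheory CategoryTheory.Limits AlgebraicGeometry TopologicalSpace Opposite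

noncomputable section

namespace Groth.L29.CdOne

attribute [local instance] CategoryTheory.Limits.HasFiniteBiproducts.of_hasFiniteProducts

open _root_.Formal (smulMod)
open Groth.L16 Groth.L16.Existence
open Groth.L16.AffineBC (scal)

/-- a morphism out of a quasi-coherent module vanishing on the sections over an affine cover is zero -/
theorem hom_eq_zero_of_affine_cover {X : Scheme.{u}} {M N : X.Modules} [Coh.IsQCoh M] (φ : M ⟶ N)
    (T : Set X.affineOpens) (hT : ∀ x : X, ∃ U ∈ T, x ∈ U.1) (h : ∀ U ∈ T, ∀ m, φ.app U.1 m = 0) : φ = 0 := by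
  refine AffineBC.hom_ext_affine _ _ fun W hW m => ?_
  refine TopCat.Presheaf.section_ext ((Groth.L21.Mod.toAbSh X).obj N) W _ _ fun x hx => ?_
  obtain ⟨U, hU, hxU⟩ := hT x
  change N.presheaf.germ W x hx (φ.app W m) = N.presheaf.germ W x hx ((0 : M ⟶ N).app W m)
  have key : ∀ (V : X.Opens) (hxV : x ∈ V) (s : Γ(M, V)),
      N.presheaf.germ V x hxV (φ.app V s) =
        ((TopCat.Presheaf.stalkFunctor AddCommGrpCat x).map φ.mapPresheaf).hom (M.presheaf.germ V x hxV s) :=
    fun V hxV s => (TopCat.Presheaf.stalkFunctor_map_germ_apply V x hxV φ.mapPresheaf s).symm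
  rw [key]
  let ψ := ((TopCat.Presheaf.stalkFunctor AddCommGrpCat x).map φ.mapPresheaf).hom
  letI := Groth.L20.ModStalk.stalkModule M hxU
  haveI := Groth.L20.ModStalk.isLocalizedModule_germ M U.2 hxU
  obtain ⟨⟨s, t⟩, hst⟩ := IsLocalizedModule.surj (U.2.primeIdealOf ⟨x, hxU⟩).asIdeal.primeCompl
    (Groth.L20.ModStalk.germₗ M hxU) (M.presheaf.germ W x hx m)
  have h1 : ψ (M.presheaf.germ U.1 x hxU s) = 0 := by rw [← key, h U hU s, map_zero]
  let W' : X.Opens := U.1 ⊓ W
  have hxW' : x ∈ W' := ⟨hxU, hx⟩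
  let r : Γ(X, W') := Groth.L18.Frame.ro inf_le_left (t : Γ(X, U.1))
  have hr : X.presheaf.germ W' x hxW' r = X.presheaf.germ U.1 x hxU (t : Γ(X, U.1)) :=
    TopCat.Presheaf.germ_res_apply X.presheaf (homOfLE inf_le_left) x hxW' _
  have hru : IsUnit (X.presheaf.germ W' x hxW' r) := by
    letI := X.presheaf.algebra_section_stalk ⟨x, hxU⟩
    haveI := U.2.isLocalization_stalk ⟨x, hxU⟩
    rw [hr]
    exact IsLocalization.map_units (X.presheaf.stalk x) t
  have h2 : ψ (M.presheaf.germ W' x hxW' (r • Groth.L18.Frame.rs M inf_le_right m)) = 0 := by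
    rw [Groth.L20.ModStalk.germ_smul, Groth.L20.ModStalk.germ_rs, hr]
    exact (congrArg ψ hst).trans h1
  rw [← key W' hxW', Scheme.Modules.Hom.app_smul, Groth.L20.ModStalk.germ_smul, HomSh.app_rs,
    Groth.L20.ModStalk.germ_rs] at h2
  replace h2 := (IsUnit.smul_eq_zero (x := (N.presheaf.germ W x hx (φ.app W m) : N.presheaf.stalk x)) hru).1 h2
  rw [key] at h2
  exact h2.trans (map_zero (N.presheaf.germ W x hx).hom).symm

variable {A : Type u} [CommRing A] [IsNoetherianRing A] {I : Ideal A} {X : Scheme.{u}}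
  [X.Over (Spec (CommRingCat.of A))] [AlgebraicGeometry.IsNoetherian X] {G : ℕᵒᵖ ⥤ X.Modules}
  (hG : _root_.Formal.IsCohFormal I G)

include hG in
omit [IsNoetherianRing A] in
theorem mem_pow_of_tr_eq_zero {U : X.Opens} (hU : IsAffineOpen U) {m n : ℕ} (h : m ≤ n) (x : Γ(G.obj (op n), U))
    (hx : (tr G m n h).app U x = 0) :
    x ∈ I.map (scal A X U) ^ (m + 1) • (⊤ : Submodule Γ(X, U) Γ(G.obj (op n), U)) := by
  induction n, h using Nat.le_induction with
  | base =>
    rw [tr_self] at hx
    rw [show x = 0 from hx]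
    exact zero_mem _
  | succ n hn ih =>
    obtain ⟨-, hsurj, hker⟩ := Exist.sect_spec hG U hU
    have h1 := ih (Exist.trL (G := G) U n x) (by
      rw [← tr_comp G hn (Nat.le_succ n)] at hx
      exact hx)
    rw [← LinearMap.range_eq_top.2 (hsurj n), LinearMap.range_eq_map, ← Submodule.map_smul''] at h1
    obtain ⟨y, hy, hyx⟩ := h1
    have h2 := Submodule.smul_mono (Ideal.pow_le_pow_right (I := I.map (scal A X U)) (Nat.succ_le_succ hn)) le_rfl
      (hker n (x - y) (by rw [map_sub, hyx, sub_self]))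
    simpa using add_mem h2 hy

include hG in
omit [IsNoetherianRing A] in
/-- uniform bound for the sections annihilated by `I^k` over an affine cover -/
theorem exists_bound_cover (T : Finset X.affineOpens) :
    ∃ D : ℕ, ∀ k : ℕ, ∃ s : ℕ, ∀ U ∈ T, ∀ n, s ≤ n → ∀ v : Γ(G.obj (op n), U.1),
      v ∈ I.map (scal A X U.1) ^ D • (⊤ : Submodule Γ(X, U.1) Γ(G.obj (op n), U.1)) →
      (∀ h ∈ I ^ k, (smulMod A (G.obj (op n)) h).app U.1 v = 0) →
      ∀ l (hl : l + s ≤ n), (tr G l n (by omega)).app U.1 v = 0 := by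
  classical
  have hloc : ∀ U : X.affineOpens, ∃ D : ℕ, ∀ k : ℕ, ∃ s : ℕ, ∀ n, s ≤ n → ∀ v : Γ(G.obj (op n), U.1),
      v ∈ I.map (scal A X U.1) ^ D • (⊤ : Submodule Γ(X, U.1) Γ(G.obj (op n), U.1)) →
      (∀ h ∈ I ^ k, (smulMod A (G.obj (op n)) h).app U.1 v = 0) →
      (tr G (n - s) n (Nat.sub_le n s)).app U.1 v = 0 := by
    intro U
    haveI : IsNoetherianRing Γ(X, U.1) := IsLocallyNoetherian.component_noetherian U
    obtain ⟨hfin, hsurj, hker⟩ := Exist.sect_spec hG U.1 U.2
    haveI := hfin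
    let J := I.map (scal A X U.1)
    obtain ⟨D, hD⟩ := exists_bound_levels J (fun n => Γ(G.obj (op n), U.1)) (Exist.trL (G := G) U.1)
      (fun n b hb x => Exist.sect_killed hG U.1 n b hb x) hsurj hker
    refine ⟨D, fun k => ?_⟩
    obtain ⟨s, hDs⟩ := hD k
    refine ⟨s, fun n hn v hvD hv => ?_⟩
    have hv' : ∀ b ∈ J ^ k, b • v = 0 := by
      intro b hb
      rw [← Ideal.map_pow] at hb
      induction hb using Submodule.span_induction with
      | mem b hb =>
        obtain ⟨a, ha, rfl⟩ := hb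
        rw [← HomSh.smulMod_app]
        exact hv a ha
      | zero => exact zero_smul _ v
      | add b c _ _ e e' => rw [add_smul, e, e', add_zero]
      | smul b c _ e => rw [smul_assoc, e, smul_zero]
    refine hDs n hn v hvD hv'
      { toFun := (tr G (n - s) n (Nat.sub_le n s)).app U.1
        map_add' := map_add _
        map_smul' := fun r z => Scheme.Modules.Hom.app_smul _ r z } fun g hg => ?_
    change (tr G (n - s) n (Nat.sub_le n s)).app U.1 (g n) = g (n - s)
    have key : ∀ j, ∀ hj : n - s ≤ j, (tr G (n - s) j hj).app U.1 (g j) = g (n - s) := by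
      intro j hj
      induction j, hj using Nat.le_induction with
      | base => rw [tr_self]; rfl
      | succ j hj ih =>
        rw [← tr_comp G hj (Nat.le_succ j)]
        exact (congrArg ((tr G (n - s) j hj).app U.1) (hg j)).trans ih
    exact key n _
  choose D s hDs using hloc
  refine ⟨T.sup D, fun k => ⟨T.sup fun U => s U k, fun U hU n hn v hvD hv l hl => ?_⟩⟩
  have hD : D U ≤ T.sup D := Finset.le_sup hU
  have hs : s U k ≤ T.sup fun U => s U k := Finset.le_sup (f := fun U => s U k) hU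
  rw [← tr_comp G (show l ≤ n - s U k by omega) (Nat.sub_le n (s U k))]
  exact (congrArg ((tr G l (n - s U k) _).app U.1)
    (hDs U k n (hs.trans hn) v (Submodule.smul_mono (Ideal.pow_le_pow_right hD) le_rfl hvD) hv)).trans (map_zero _)

/-- the kernel of a transition map -/
abbrev Kern (G : ℕᵒᵖ ⥤ X.Modules) (c n : ℕ) (h : c ≤ n) : X.Modules := kernel (tr G c n h)

/-- multiplication by an element of `I^(c+1)` into the kernel -/
def toKern {c n : ℕ} (h : c ≤ n) (g : A) (hg : g ∈ I ^ (c + 1)) : G.obj (op n) ⟶ Kern G c n h :=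
  kernel.lift _ (smulMod A (G.obj (op n)) g) (smul_tr hG h hg)

omit [IsNoetherianRing A] [AlgebraicGeometry.IsNoetherian X] in
theorem toKern_ι {c n : ℕ} (h : c ≤ n) (g : A) (hg : g ∈ I ^ (c + 1)) :
    toKern hG h g hg ≫ kernel.ι _ = smulMod A (G.obj (op n)) g := kernel.lift_ι _ _ _

include hG in
omit [IsNoetherianRing A] [AlgebraicGeometry.IsNoetherian X] in
/-- multiplications by generators cover the kernel -/
theorem epi_desc_toKern {q : ℕ} (g : Fin q → A) (c : ℕ) (hg : Ideal.span (Set.range g) = I ^ (c + 1)) {n : ℕ} (h : c ≤ n) :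
    Epi (biproduct.desc fun l : Fin q => toKern hG h (g l) (hg.le (Ideal.subset_span ⟨l, rfl⟩))) := by
  let E := biproduct.desc fun l : Fin q => toKern hG h (g l) (hg.le (Ideal.subset_span ⟨l, rfl⟩))
  let t := tr G c n h
  let π := cokernel.π (E ≫ kernel.ι t)
  have hπ : ∀ x ∈ I ^ (c + 1), smulMod A (G.obj (op n)) x ≫ π = 0 := fun x hx => by
    rw [← hg] at hx
    induction hx using Submodule.span_induction with
    | mem y hy =>
      obtain ⟨l, rfl⟩ := hy
      have h1 : biproduct.ι (fun _ : Fin q => G.obj (op n)) l ≫ E ≫ kernel.ι t = smulMod A (G.obj (op n)) (g l) := by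
        rw [biproduct.ι_desc_assoc, toKern_ι]
      rw [← h1]
      simp only [π, Category.assoc, cokernel.condition, comp_zero]
    | zero => rw [Rees.smulMod_zero, zero_comp]
    | add y z _ _ h1 h2 => rw [HomSh.smulMod_add, Preadditive.add_comp, h1, h2, add_zero]
    | smul b y _ h1 => rw [smul_eq_mul, mul_comm, Rees.smulMod_mul, Category.assoc, Rees.smulMod_naturality,
        h1, zero_comp]
  obtain ⟨π', hπ'⟩ := exists_desc hG h π hπ
  have h0 : kernel.ι t ≫ π = 0 := by rw [← hπ', ← Category.assoc, kernel.condition, zero_comp]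
  let l : Kern G c n h ⟶ Abelian.image (E ≫ kernel.ι t) := kernel.lift _ (kernel.ι t) h0
  have hl : l ≫ Abelian.image.ι _ = kernel.ι t := kernel.lift_ι _ _ _
  have hE : E ≫ l = Abelian.factorThruImage (E ≫ kernel.ι t) := by
    rw [← cancel_mono (Abelian.image.ι (E ≫ kernel.ι t)), Category.assoc, hl, Abelian.image.fac]
  haveI : Mono l := by
    haveI : Mono (l ≫ Abelian.image.ι _) := by rw [hl]; infer_instance
    exact mono_of_mono l (Abelian.image.ι _)
  haveI : Epi l := by
    haveI : Epi (E ≫ l) := by rw [hE]; infer_instance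
    exact epi_of_epi E l
  haveI : IsIso l := isIso_of_mono_of_epi l
  change Epi E
  rw [show E = Abelian.factorThruImage (E ≫ kernel.ι t) ≫ inv l from (IsIso.eq_comp_inv l).2 hE]
  exact epi_comp _ _

omit [IsNoetherianRing A] [AlgebraicGeometry.IsNoetherian X] in
/-- sections of a map out of a finite sum -/
theorem app_desc {q : ℕ} {M N : X.Modules} (f : Fin q → (M ⟶ N)) (U : X.Opens)
    (u : Γ((⨁ fun _ : Fin q => M), U)) :
    (biproduct.desc f).app U u = ∑ l, (f l).app U ((biproduct.π (fun _ : Fin q => M) l).app U u) := by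
  rw [biproduct.desc_eq]
  exact map_sum (AddMonoidHom.mk' (fun φ : (⨁ fun _ : Fin q => M) ⟶ N => φ.app U u) fun _ _ => rfl) _ _

include hG in
/-- the splitting maps out of the deep kernels -/
theorem exists_split_maps (k : ℕ) : ∃ D s : ℕ, ∀ (ψ : ↥(I ^ k) →ₗ[A] A) {q : ℕ} (g : Fin q → A) (c : ℕ)
    (hc : D + k ≤ c) (hg : Ideal.span (Set.range g) = I ^ (c + 1)) (n N : ℕ) (hnN : n + s ≤ N) (hcN : c ≤ N),
      ∃ Ψ : Kern G c N hcN ⟶ G.obj (op n), ∀ (l : Fin q) (hgl : g l ∈ I ^ (c + 1)) (hgk : g l ∈ I ^ k),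
        toKern hG hcN (g l) hgl ≫ Ψ = smulMod A (G.obj (op N)) (ψ ⟨g l, hgk⟩) ≫ tr G n N (by omega) := by
  classical
  obtain ⟨T, hT⟩ := HomSh.exists_finite_affine_cover X
  obtain ⟨D, hD⟩ := exists_bound_cover hG T
  obtain ⟨s, hDs⟩ := hD k
  refine ⟨D, s, fun ψ {q} g c hc hg n N hnN hcN => ?_⟩
  have hgc : ∀ l, g l ∈ I ^ (c + 1) := fun l => hg.le (Ideal.subset_span ⟨l, rfl⟩)
  have hgk : ∀ l, g l ∈ I ^ k := fun l => Ideal.pow_le_pow_right (by omega) (hgc l)
  have hψD : ∀ l, ψ ⟨g l, hgk l⟩ ∈ I ^ D := fun l => by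
    refine mem_pow_of_mem_pow_add I ψ D _ (Ideal.pow_le_pow_right (by omega) (hgc l)) _
  let M := G.obj (op N)
  let f : Fin q → (M ⟶ G.obj (op n)) := fun l => smulMod A M (ψ ⟨g l, hgk l⟩) ≫ tr G n N (by omega)
  let e : Fin q → (M ⟶ Kern G c N hcN) := fun l => toKern hG hcN (g l) (hgc l)
  haveI : Epi (biproduct.desc e) := epi_desc_toKern hG g c hg hcN
  have hS : Coh.IsCoh (⨁ fun _ : Fin q => M) :=
    CohSupport.isCoh_of_iso (biproduct.isoCoproduct fun _ : Fin q => M).symm (isCoh_sigma _ fun _ => hG.1 N)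
  haveI : Coh.IsQCoh (G.obj (op c)) := (hG.1 c).1
  haveI : Coh.IsQCoh (Kern G c N hcN) := (CohSupport.isCoh_kernel (hG.1 N) _).1
  haveI : Coh.IsQCoh (kernel (biproduct.desc e)) := (CohSupport.isCoh_kernel hS _).1
  have h0 : kernel.ι (biproduct.desc e) ≫ biproduct.desc f = 0 := by
    refine hom_eq_zero_of_affine_cover _ (T : Set X.affineOpens) (fun x => hT x) fun U hU w => ?_
    let u : Γ((⨁ fun _ : Fin q => M), U.1) := (kernel.ι (biproduct.desc e)).app U.1 w
    change (biproduct.desc f).app U.1 u = 0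
    let ul : Fin q → Γ(M, U.1) := fun l => (biproduct.π (fun _ : Fin q => M) l).app U.1 u
    have hu : ∑ l, scal A X U.1 (g l) • ul l = 0 := by
      have h1 : (biproduct.desc e).app U.1 u = 0 :=
        congrArg (fun φ : kernel (biproduct.desc e) ⟶ _ => φ.app U.1 w) (kernel.condition (biproduct.desc e))
      rw [app_desc] at h1
      have h2 := congrArg ((kernel.ι (tr G c N hcN)).app U.1) h1
      rw [map_zero, map_sum] at h2
      refine Eq.trans (Finset.sum_congr rfl fun l _ => ?_) h2
      rw [← HomSh.smulMod_app]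
      exact congrArg (fun φ : M ⟶ M => φ.app U.1 (ul l)) (toKern_ι hG hcN (g l) (hgc l)).symm
    let v : Γ(M, U.1) := ∑ l, scal A X U.1 (ψ ⟨g l, hgk l⟩) • ul l
    have hv : (tr G n N (by omega)).app U.1 v = 0 := by
      refine hDs U hU N (by omega) v ?_ (fun h hh => ?_) n hnN
      · refine Submodule.sum_mem _ fun l _ => Submodule.smul_mem_smul ?_ trivial
        rw [← Ideal.map_pow]
        exact Ideal.mem_map_of_mem _ (hψD l)
      · rw [HomSh.smulMod_app, Finset.smul_sum]
        have h3 : ∀ l, scal A X U.1 h • scal A X U.1 (ψ ⟨g l, hgk l⟩) • ul l =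
            scal A X U.1 (ψ ⟨h, hh⟩) • scal A X U.1 (g l) • ul l := fun l => by
          rw [smul_smul, smul_smul, ← map_mul, ← map_mul]
          congr 2
          rw [← smul_eq_mul, ← map_smul, mul_comm, ← smul_eq_mul, ← map_smul]
          exact congrArg ψ (Subtype.ext (mul_comm _ _))
        rw [Finset.sum_congr rfl fun l _ => h3 l, ← Finset.smul_sum, hu, smul_zero]
    rw [app_desc]
    refine Eq.trans ?_ hv
    rw [map_sum]
    refine Finset.sum_congr rfl fun l _ => ?_
    rw [← HomSh.smulMod_app]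
    rfl
  refine ⟨Abelian.epiDesc (biproduct.desc e) (biproduct.desc f) h0, fun l _ _ => ?_⟩
  have h4 := congrArg (biproduct.ι (fun _ : Fin q => M) l ≫ ·) (Abelian.comp_epiDesc (biproduct.desc e) (biproduct.desc f) h0)
  simp only [biproduct.ι_desc_assoc, biproduct.ι_desc] at h4
  exact h4

end Groth.L29.CdOne
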