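import Groth.Agent.L29.Formal.CdOneSect
import Groth.Agent.L29.Formal.GradedPieces
import Groth.Agent.L21.RR.Coh
import Groth.Agent.L16.Rees.Consequences
import Groth.Prelude.Def_Formal2

/-!
The limit topology on the cohomology of a coherent formal module is adic when the cohomological dimension is one.
-/

set_option autoImplicit false
set_option backward.isDefEq.respectTransparency false
set_option backward.isDefEq.respectTransparency.types false
set_option linter.style.haveILetI false

universe u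

open CategoryTheory CategoryTheory.Limits AlgebraicGeometry TopologicalSpace Opposite

noncomputable section

namespace Groth.L29.CdOne

open _root_.Formal (smulMod)
open Groth.L16 Groth.L16.Existence
open Groth.L16.CohLinear (hmap)

attribute [local instance] CategoryTheory.Limits.HasFiniteBiproducts.of_hasFiniteProducts

variable {A : Type u} [CommRing A] [IsNoetherianRing A] {I : Ideal A} {X : Scheme.{u}}
  [X.Over (Spec (CommRingCat.of A))] {G : ℕᵒᵖ ⥤ X.Modules}
  (hG : _root_.Formal.IsCohFormal I G) (c : ℕ)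

/-- the sequence of a deep kernel -/
abbrev kS (G : ℕᵒᵖ ⥤ X.Modules) (c N : ℕ) (h : c ≤ N) : ShortComplex X.Modules :=
  ShortComplex.mk (kernel.ι (tr G c N h)) (tr G c N h) (kernel.condition _)

include hG in
omit [IsNoetherianRing A] in
theorem kS_shortExact {N : ℕ} (h : c ≤ N) : (kS G c N h).ShortExact :=
  { exact := ShortComplex.exact_of_f_is_kernel _ (kernelIsKernel _), epi_g := epi_tr hG h }

/-- transition between deep kernels -/
def κ (N : ℕ) (h : c ≤ N) : Kern G c (N + 1) (h.trans (Nat.le_succ N)) ⟶ Kern G c N h :=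
  kernel.lift _ (kernel.ι _ ≫ tr G N (N + 1) (Nat.le_succ N)) (by rw [Category.assoc, tr_comp, kernel.condition])

omit [IsNoetherianRing A] in
theorem κ_ι (N : ℕ) (h : c ≤ N) :
    κ (G := G) c N h ≫ kernel.ι _ = kernel.ι _ ≫ tr G N (N + 1) (Nat.le_succ N) := kernel.lift_ι _ _ _

variable (p : ℕ)

include hG in
omit [IsNoetherianRing A] in
/-- classes dying in the level lift along the deep kernels -/
theorem exists_lift_ker (N : ℕ) (h : c ≤ N) (d : Coh.HH X (Kern G c N h) p)
    (hd : hmap (kernel.ι (tr G c N h)) p d = 0) :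
    ∃ d' : Coh.HH X (Kern G c (N + 1) (h.trans (Nat.le_succ N))) p,
      hmap (kernel.ι (tr G c (N + 1) _)) p d' = 0 ∧ hmap (κ (G := G) c N h) p d' = d := by
  cases p with
  | zero =>
    refine ⟨0, map_zero _, ?_⟩
    rw [map_zero]
    exact (Groth.L21.RR.injective_hmap_zero (kernel.ι (tr G c N h)) (hd.trans (map_zero _).symm)).symm
  | succ p =>
    obtain ⟨w, rfl⟩ := (CohLinear.exact_delta_hmap (kS_shortExact hG c h) p d).1 hd
    refine ⟨CohLinear.delta (kS_shortExact hG c (h.trans (Nat.le_succ N))) p w,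
      (CohLinear.exact_delta_hmap (kS_shortExact hG c _) p _).2 ⟨w, rfl⟩, ?_⟩
    have := Rees.delta_naturality (kS_shortExact hG c (h.trans (Nat.le_succ N))) (kS_shortExact hG c h)
      (ShortComplex.homMk (κ (G := G) c N h) (tr G N (N + 1) (Nat.le_succ N)) (𝟙 _) (κ_ι c N h)
        (by change _ ≫ tr G c N h = tr G c (N + 1) _ ≫ 𝟙 _; rw [tr_comp, Category.comp_id])) (n := p) w
    exact this.symm.trans (congrArg (CohLinear.delta _ p) (CohLinear.hmap_id p w))

include hG in
omit [IsNoetherianRing A] in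
/-- a family vanishing at level `c` lifts compatibly to the deep kernels -/
theorem exists_family (x : ∀ n, Coh.HH X (G.obj (op n)) p)
    (hx : ∀ n, hmap (tr G n (n + 1) (Nat.le_succ n)) p (x (n + 1)) = x n) (hxc : x c = 0) :
    ∃ z : ∀ j, Coh.HH X (Kern G c (c + j) (Nat.le_add_right c j)) p,
      (∀ j, hmap (kernel.ι (tr G c (c + j) (Nat.le_add_right c j))) p (z j) = x (c + j)) ∧
        ∀ j, hmap (κ (G := G) c (c + j) (Nat.le_add_right c j)) p (z (j + 1)) = z j := by
  have htr : ∀ j, hmap (tr G c (c + j) (Nat.le_add_right c j)) p (x (c + j)) = 0 := fun j => by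
    induction j with
    | zero => rw [tr_self]; exact (CohLinear.hmap_id p _).trans hxc
    | succ j ih =>
      rw [← tr_comp G (Nat.le_add_right c j) (Nat.le_succ (c + j)), CohLinear.hmap_comp]
      exact (congrArg (hmap _ p) (hx (c + j))).trans ih
  have hlift : ∀ j, ∃ z : Coh.HH X (Kern G c (c + j) (Nat.le_add_right c j)) p,
      hmap (kernel.ι (tr G c (c + j) (Nat.le_add_right c j))) p z = x (c + j) := fun j =>
    (CohLinear.exact_hmap_hmap (kS_shortExact hG c (Nat.le_add_right c j)) p (x (c + j))).1 (htr j)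
  have hstep : ∀ j, ∀ z : {z : Coh.HH X (Kern G c (c + j) (Nat.le_add_right c j)) p //
        hmap (kernel.ι (tr G c (c + j) (Nat.le_add_right c j))) p z = x (c + j)},
      ∃ z' : {z : Coh.HH X (Kern G c (c + (j + 1)) (Nat.le_add_right c (j + 1))) p //
        hmap (kernel.ι (tr G c (c + (j + 1)) (Nat.le_add_right c (j + 1)))) p z = x (c + (j + 1))},
        hmap (κ (G := G) c (c + j) (Nat.le_add_right c j)) p z'.1 = z.1 := by
    intro j z
    obtain ⟨z', hz'⟩ := hlift (j + 1)
    let d := z.1 - hmap (κ (G := G) c (c + j) (Nat.le_add_right c j)) p z'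
    have hd : hmap (kernel.ι (tr G c (c + j) (Nat.le_add_right c j))) p d = 0 := by
      rw [map_sub, z.2, ← CohLinear.hmap_comp, κ_ι, CohLinear.hmap_comp]
      exact sub_eq_zero.2 (((congrArg (hmap _ p) hz').trans (hx (c + j))).symm)
    obtain ⟨d', hd', hd''⟩ := exists_lift_ker hG c p (c + j) (Nat.le_add_right c j) d hd
    refine ⟨⟨z' + d', ?_⟩, ?_⟩
    · exact (map_add _ _ _).trans ((congrArg₂ (· + ·) hz' hd').trans (add_zero _))
    · change hmap _ p (z' + d') = z.1
      rw [map_add]
      exact (congrArg (_ + ·) hd'').trans (add_sub_cancel _ _)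
  choose nxt hnxt using hstep
  let z : ∀ j, {z : Coh.HH X (Kern G c (c + j) (Nat.le_add_right c j)) p //
        hmap (kernel.ι (tr G c (c + j) (Nat.le_add_right c j))) p z = x (c + j)} := fun j =>
    Nat.rec (motive := fun j => {z : Coh.HH X (Kern G c (c + j) (Nat.le_add_right c j)) p //
      hmap (kernel.ι (tr G c (c + j) (Nat.le_add_right c j))) p z = x (c + j)})
      ⟨(hlift 0).choose, (hlift 0).choose_spec⟩ (fun j z => nxt j z) j
  exact ⟨fun j => (z j).1, fun j => (z j).2, fun j => hnxt j (z j)⟩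

variable [AlgebraicGeometry.IsNoetherian X]

omit [IsNoetherianRing A] [AlgebraicGeometry.IsNoetherian X] in
theorem smulMod_sum {M : X.Modules} {ι : Type*} (s : Finset ι) (a : ι → A) :
    smulMod A M (∑ i ∈ s, a i) = ∑ i ∈ s, smulMod A M (a i) :=
  map_sum (AddMonoidHom.mk' (fun b => smulMod A M b) fun b b' => HomSh.smulMod_add M b b') a s

include hG in
theorem exists_combination (hcd : LocCoh.CdLE A I 1) (m : ℕ) :
    ∃ c : ℕ, ∀ x : ∀ n, Coh.HH X (G.obj (op n)) p,
      (∀ n, hmap (tr G n (n + 1) (Nat.le_succ n)) p (x (n + 1)) = x n) → x c = 0 →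
        ∃ (k : ℕ) (a : Fin k → A) (y : Fin k → ∀ n, Coh.HH X (G.obj (op n)) p),
          (∀ i, a i ∈ I ^ m ∧ ∀ n, hmap (tr G n (n + 1) (Nat.le_succ n)) p (y i (n + 1)) = y i n) ∧
            ∀ n, x n = ∑ i, a i • y i n := by
  classical
  obtain ⟨ι, _, a, k, ψ, ha, hψ⟩ := exists_splitting_pow I hcd m
  obtain ⟨D, s, hsplit⟩ := exists_split_maps hG k
  obtain ⟨q, g, hg⟩ := Submodule.fg_iff_exists_fin_generating_family.1 (IsNoetherian.noetherian (I ^ (D + k + 1)))
  refine ⟨D + k, fun x hx hxc => ?_⟩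
  let c := D + k
  have hg' : Ideal.span (Set.range g) = I ^ (c + 1) := hg
  have hgc : ∀ l, g l ∈ I ^ (c + 1) := fun l => hg'.le (Ideal.subset_span ⟨l, rfl⟩)
  have hgk : ∀ l, g l ∈ I ^ k := fun l => Ideal.pow_le_pow_right (by omega) (hgc l)
  obtain ⟨z, hz, hzκ⟩ := exists_family hG c p x hx hxc
  have hN : ∀ n, n + s ≤ c + (s + n) := fun n => by omega
  have hcN : ∀ j, c ≤ c + j := fun j => Nat.le_add_right c j
  choose Ψ hΨ using fun (i : ι) (n : ℕ) => hsplit (ψ i) g c le_rfl hg' n (c + (s + n)) (hN n) (hcN _)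
  have hΨκ : ∀ i n, Ψ i (n + 1) ≫ tr G n (n + 1) (Nat.le_succ n) = κ (G := G) c (c + (s + n)) (hcN _) ≫ Ψ i n := by
    intro i n
    haveI := epi_desc_toKern hG g c hg' (hcN (s + (n + 1)))
    rw [← cancel_epi (biproduct.desc fun l => toKern hG (hcN (s + (n + 1))) (g l) (hgc l))]
    refine biproduct.hom_ext' _ _ fun l => ?_
    rw [biproduct.ι_desc_assoc, biproduct.ι_desc_assoc, ← Category.assoc, hΨ i (n + 1) l (hgc l) (hgk l)]
    have h1 : toKern hG (hcN (s + (n + 1))) (g l) (hgc l) ≫ κ (G := G) c (c + (s + n)) (hcN _) =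
        tr G (c + (s + n)) (c + (s + n) + 1) (Nat.le_succ _) ≫ toKern hG (hcN (s + n)) (g l) (hgc l) := by
      rw [← cancel_mono (kernel.ι (tr G c (c + (s + n)) (hcN _))), Category.assoc, κ_ι, ← Category.assoc,
        toKern_ι, Category.assoc, toKern_ι]
      exact Rees.smulMod_naturality A (tr G (c + (s + n)) (c + (s + n) + 1) (Nat.le_succ _)) (g l)
    refine Eq.trans ?_ (((congrArg (· ≫ Ψ i n) h1).symm.trans (Category.assoc _ _ _)))
    rw [Category.assoc, Category.assoc, tr_comp, hΨ i n l (hgc l) (hgk l), ← Category.assoc,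
      ← Rees.smulMod_naturality, Category.assoc, tr_comp]
  have hΨsum : ∀ n, ∑ i, Ψ i n ≫ smulMod A (G.obj (op n)) (a i) =
      kernel.ι (tr G c (c + (s + n)) (hcN _)) ≫ tr G n (c + (s + n)) (by omega) := by
    intro n
    haveI := epi_desc_toKern hG g c hg' (hcN (s + n))
    rw [← cancel_epi (biproduct.desc fun l => toKern hG (hcN (s + n)) (g l) (hgc l))]
    refine biproduct.hom_ext' _ _ fun l => ?_
    rw [biproduct.ι_desc_assoc, biproduct.ι_desc_assoc, Preadditive.comp_sum, ← Category.assoc, toKern_ι]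
    calc ∑ i, toKern hG (hcN (s + n)) (g l) (hgc l) ≫ Ψ i n ≫ smulMod A (G.obj (op n)) (a i)
        = ∑ i, smulMod A (G.obj (op (c + (s + n)))) (a i * ψ i ⟨g l, hgk l⟩) ≫ tr G n (c + (s + n)) (by omega) :=
          Finset.sum_congr rfl fun i _ => by
            rw [← Category.assoc, hΨ i n l (hgc l) (hgk l), Category.assoc, ← Rees.smulMod_naturality,
              Rees.smulMod_mul, Category.assoc]
      _ = _ := by rw [← Preadditive.sum_comp, ← smulMod_sum, ← hψ ⟨g l, hgk l⟩]
  let e := (Fintype.equivFin ι).symm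
  refine ⟨Fintype.card ι, fun i => a (e i), fun i n => hmap (Ψ (e i) n) p (z (s + n)),
    fun i => ⟨ha _, fun n => ?_⟩, fun n => ?_⟩
  · rw [← CohLinear.hmap_comp, hΨκ, CohLinear.hmap_comp]
    exact congrArg (hmap (Ψ (e i) n) p) (hzκ (s + n))
  · have hxn : ∀ N, ∀ h : n ≤ N, hmap (tr G n N h) p (x N) = x n := fun N h => by
      induction N, h using Nat.le_induction with
      | base => rw [tr_self, CohLinear.hmap_id]
      | succ N hN ih =>
        rw [← tr_comp G hN (Nat.le_succ N), CohLinear.hmap_comp]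
        exact (congrArg (hmap _ p) (hx N)).trans ih
    rw [Equiv.sum_comp e fun i => a i • hmap (Ψ i n) p (z (s + n))]
    simp only [← Rees.hmap_smulMod, ← CohLinear.hmap_comp]
    rw [← Groth.L29.Graded.hmap_sum, hΨsum, CohLinear.hmap_comp, hz]
    exact (hxn _ _).symm

end Groth.L29.CdOne
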