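import Groth.Agent.L29.Formal.CechNat
import Groth.Agent.L29.Formal.CechCompl

/-!
Čech cohomology of a finite module versus the compatible families along the powers of an ideal.
-/

set_option autoImplicit false
set_option backward.isDefEq.respectTransparency false
set_option backward.isDefEq.respectTransparency.types false
set_option backward.defeqAttrib.useBackward true
set_option linter.style.haveILetI false

universe u v

open CategoryTheory CategoryTheory.Limits DerCA
open scoped TensorProduct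

attribute [local instance] HasDerivedCategory.standard

noncomputable section

namespace Groth.L29.CechLimit

open Groth.L29.CechTerms Groth.L29.CechNat Groth.L10.AdicTower

/-- A Mittag-Leffler system has vanishing `lim¹`. -/
theorem lim1 {X : ℕ → Type v} [∀ n, AddCommGroup (X n)] (T : ∀ {n l : ℕ}, n ≤ l → (X l →+ X n))
    (hT : ∀ {n k l : ℕ} (h : n ≤ k) (h' : k ≤ l) (x : X l), T h (T h' x) = T (h.trans h') x)
    (hT₀ : ∀ {n : ℕ} (x : X n), T (le_refl n) x = x)
    (hML : ∀ n, ∃ (k : ℕ) (h : n ≤ k), ∀ (l : ℕ) (h' : k ≤ l) (x : X k), ∃ x' : X l, T (h.trans h') x' = T h x)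
    (e : ∀ n, X n) : ∃ u : ∀ n, X n, ∀ n, T (Nat.le_succ n) (u (n + 1)) - u n = e n := by
  choose K₀ hK₀ hK₁ using hML
  let K : ℕ → ℕ := fun n => Nat.rec (K₀ 0 + 1) (fun j r => max r (K₀ (j + 1) + (j + 2))) n
  have hKge : ∀ n, K₀ n ≤ K n ∧ n < K n := fun n => by
    cases n with
    | zero => exact ⟨Nat.le_succ _, Nat.succ_pos _⟩
    | succ j =>
      exact ⟨(Nat.le_add_right _ _).trans (le_max_right _ _),
        lt_of_lt_of_le (show j + 1 < K₀ (j + 1) + (j + 2) by omega) (le_max_right _ _)⟩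
  have hKmono : ∀ n, K n ≤ K (n + 1) := fun n => le_max_left _ _
  let S : ∀ n, X n → Prop := fun n x => ∀ (l : ℕ) (h : n ≤ l), ∃ y, T h y = x
  have hS : ∀ {n j : ℕ} (h : n ≤ j) (_ : K₀ n ≤ j) (y : X j), S n (T h y) := fun {n j} h hj y l hl => by
    obtain ⟨x', hx'⟩ := hK₁ n (max l (K₀ n)) (le_max_right _ _) (T hj y)
    refine ⟨T (le_max_left l (K₀ n)) x', ?_⟩
    rw [hT]
    exact hx'.trans (hT _ _ _)
  have hsurj : ∀ n x, S n x → ∃ x' : X (n + 1), S (n + 1) x' ∧ T (Nat.le_succ n) x' = x := fun n x hx => by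
    obtain ⟨y, hy⟩ := hx (K (n + 1)) ((Nat.le_succ n).trans (hKge (n + 1)).2.le)
    exact ⟨T (hKge (n + 1)).2.le y, hS _ (hKge (n + 1)).1 y, (hT _ _ _).trans hy⟩
  let g : ∀ n, ℕ → X n := fun n j => if h : n ≤ j then T h (e j) else 0
  have hg : ∀ n j, n + 1 ≤ j → T (Nat.le_succ n) (g (n + 1) j) = g n j := fun n j h => by
    simp only [g, dif_pos h, dif_pos ((Nat.le_succ n).trans h), hT]
  let v : ∀ n, X n := fun n => -∑ j ∈ Finset.Ico n (K n), g n j
  let s : ∀ n, X n := fun n => ∑ j ∈ Finset.Ico (K n) (K (n + 1)), g n j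
  have hSadd : ∀ {n} {x y : X n}, S n x → S n y → S n (x + y) := fun hx hy l hl => by
    obtain ⟨a, rfl⟩ := hx l hl
    obtain ⟨b, rfl⟩ := hy l hl
    exact ⟨a + b, map_add _ _ _⟩
  have hSzero : ∀ n, S n 0 := fun n l hl => ⟨0, map_zero _⟩
  have hs : ∀ n, S n (s n) := fun n => Finset.sum_induction _ (S n) (fun a b => hSadd) (hSzero n) fun j hj => by
    have hj' := (Finset.mem_Ico.1 hj).1
    simp only [g, dif_pos ((hKge n).2.le.trans hj')]
    exact hS _ ((hKge n).1.trans hj') _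
  choose σ hσS hσ using hsurj
  let w : ∀ n, {x : X n // S n x} := fun n => Nat.rec ⟨0, hSzero 0⟩
    (fun j r => ⟨σ j (r.1 + s j) (hSadd r.2 (hs j)), hσS j _ _⟩) n
  refine ⟨fun n => v n + (w n).1, fun n => ?_⟩
  have h1 : T (Nat.le_succ n) (w (n + 1)).1 = (w n).1 + s n := hσ n _ _
  have h2 : T (Nat.le_succ n) (v (n + 1)) = -∑ j ∈ Finset.Ico (n + 1) (K (n + 1)), g n j := by
    simp only [v, map_neg, map_sum]
    exact congrArg _ (Finset.sum_congr rfl fun j hj => hg n j (Finset.mem_Ico.1 hj).1)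
  have h3 := Finset.sum_Ico_consecutive (g n) (hKge n).2.le (hKmono n)
  rw [Finset.sum_eq_sum_Ico_succ_bot ((hKge n).2.trans_le (hKmono n)),
    show g n n = e n by simp only [g, dif_pos (le_refl n), hT₀]] at h3
  rw [map_add, h1, h2]
  change _ - ((-∑ j ∈ Finset.Ico n (K n), g n j) + (w n).1) = e n
  rw [show s n = ∑ j ∈ Finset.Ico (K n) (K (n + 1)), g n j from rfl, show (∑ j ∈ Finset.Ico (n + 1) (K (n + 1)), g n j) =
    (∑ j ∈ Finset.Ico n (K n), g n j) + (∑ j ∈ Finset.Ico (K n) (K (n + 1)), g n j) - e n by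
      rw [h3, add_sub_cancel_left]]
  abel

variable {A : Type u} [CommRing A] (I : Ideal A) (M : Type u) [AddCommGroup M] [Module A M] (fs : List A)

/-- transition from level `l` to level `n` -/
abbrev fm {n l : ℕ} (h : n ≤ l) : lvl I M l ⟶ lvl I M n := ModuleCat.ofHom (Submodule.factorPow I M h)

theorem fm_succ (n : ℕ) : fm I M (Nat.le_succ n) = tr I M n :=
  ModuleCat.hom_ext (LinearMap.ext fun z => by
    obtain ⟨m, rfl⟩ := Submodule.Quotient.mk_surjective _ z
    rfl)

theorem fm_comp {n k l : ℕ} (h : n ≤ k) (h' : k ≤ l) : fm I M h' ≫ fm I M h = fm I M (h.trans h') :=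
  ModuleCat.hom_ext (LinearMap.ext fun z => by
    obtain ⟨m, rfl⟩ := Submodule.Quotient.mk_surjective _ z
    rfl)

theorem fm_refl (n : ℕ) : fm I M (le_refl n) = 𝟙 (lvl I M n) :=
  ModuleCat.hom_ext (LinearMap.ext fun z => by
    obtain ⟨m, rfl⟩ := Submodule.Quotient.mk_surjective _ z
    rfl)

/-- Mittag-Leffler for the Čech cohomology of the levels -/
def ML (r : ℤ) : Prop :=
  ∀ n, ∃ (k : ℕ) (h : n ≤ k), ∀ (l : ℕ) (h' : k ≤ l) (x : (C fs (lvl I M k)).homology r),
    ∃ x' : (C fs (lvl I M l)).homology r, (cmap fs (fm I M (h.trans h')) r).hom x' = (cmap fs (fm I M h) r).hom x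

/-- level projection of the limit complex -/
abbrev proG (n : ℕ) : Groth.L10.AdicTowerRlim.G I M (K fs) ⟶ C fs (lvl I M n) :=
  (NatTrans.mapHomologicalComplex (incl I M ≫ proj I M n) (ComplexShape.up ℤ)).app (K fs)

/-- `C(M) ⟶ lim` -/
abbrev kap : C fs (ModuleCat.of A M) ⟶ Groth.L10.AdicTowerRlim.G I M (K fs) :=
  (NatTrans.mapHomologicalComplex (kappa I M) (ComplexShape.up ℤ)).app (K fs)

theorem kap_proG (n : ℕ) : kap I M fs ≫ proG I M fs n = Cm fs (pr I M n) := by
  refine HomologicalComplex.Hom.ext (funext fun p => ?_)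
  exact congrArg (fun t => t.app ((K fs).X p)) (kappa_incl_proj I M n)

theorem cmap_pr_eq (n : ℕ) (q : ℤ) (x : (C fs (ModuleCat.of A M)).homology q) :
    (cmap fs (pr I M n) q).hom x =
      (HomologicalComplex.homologyMap (proG I M fs n) q).hom ((HomologicalComplex.homologyMap (kap I M fs) q).hom x) := by
  rw [cmap, ← kap_proG, HomologicalComplex.homologyMap_comp]
  rfl

theorem bijective_kap [IsNoetherianRing A] [Module.Finite A M] [DRing.HasDerivedCompletion I]
    [DRing.HasRgammaI (Ideal.span {x : A | x ∈ fs})] (q : ℤ)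
    (hb : Function.Bijective ((DerivedCategory.homologyFunctor (ModuleCat.{u} A) q).map
      (DRing.toDerivedCompletion I ((DRing.RgammaI (Ideal.span {x : A | x ∈ fs})).obj (Dual.inD A M)))).hom) :
    Function.Bijective (HomologicalComplex.homologyMap (kap I M fs) q).hom := by
  let J : Ideal A := Ideal.span {x : A | x ∈ fs}
  obtain ⟨gM, -⟩ := Groth.L10.GammaTensor.exists_gamma_iso J (ModuleCat.of A M) fs rfl
  obtain ⟨e, he⟩ := Groth.L10.CompletionFormula.exists_iso I
    (Groth.L10.CompletionFormula.cbij_toDerivedCompletion I ((DRing.RgammaI J).obj (Dual.inD A M)))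
    (Groth.L10.CompletionFormula.Cbij.comp I (Groth.L10.CompletionFormula.cbij_iso I gM.inv)
      (Groth.L10.AdicTowerRlim.cbij_kappa I M fs))
    ((DRing.derivedCompletion I).obj _).property (Groth.L10.AdicTowerRlim.isComplete_G I M (K fs))
  let H := DerivedCategory.homologyFunctor (ModuleCat.{u} A) q
  have h2 : DerivedCategory.Q.map (kap I M fs) =
      gM.hom ≫ DRing.toDerivedCompletion I ((DRing.RgammaI J).obj (Dual.inD A M)) ≫ e.hom := by
    rw [he, Iso.hom_inv_id_assoc]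
  haveI : IsIso (H.map (DRing.toDerivedCompletion I ((DRing.RgammaI J).obj (Dual.inD A M)))) :=
    (ConcreteCategory.isIso_iff_bijective _).2 hb
  haveI : IsIso (H.map (DerivedCategory.Q.map (kap I M fs))) := by
    rw [h2, H.map_comp, H.map_comp]
    infer_instance
  have h3 := (DerivedCategory.homologyFunctorFactors (ModuleCat.{u} A) q).hom.naturality (kap I M fs)
  haveI : IsIso ((DerivedCategory.homologyFunctorFactors (ModuleCat.{u} A) q).hom.app (C fs (ModuleCat.of A M)) ≫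
      HomologicalComplex.homologyMap (kap I M fs) q) := by
    change IsIso (_ ≫ (HomologicalComplex.homologyFunctor (ModuleCat.{u} A) (ComplexShape.up ℤ) q).map (kap I M fs))
    rw [← h3]
    exact IsIso.comp_isIso' ‹_› inferInstance
  haveI := IsIso.of_isIso_comp_left ((DerivedCategory.homologyFunctorFactors (ModuleCat.{u} A) q).hom.app
    (C fs (ModuleCat.of A M))) (HomologicalComplex.homologyMap (kap I M fs) q)
  exact ConcreteCategory.bijective_of_isIso (HomologicalComplex.homologyMap (kap I M fs) q)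

theorem surjective_tr (p : ℤ) (n : ℕ) : Function.Surjective ((tr I M n).hom.lTensor ((K fs).X p)) :=
  LinearMap.lTensor_surjective _ fun z => by
    obtain ⟨m, rfl⟩ := Submodule.Quotient.mk_surjective _ z
    exact ⟨Submodule.Quotient.mk m, rfl⟩

theorem d_lTensor {N N' : ModuleCat.{u} A} (g : N ⟶ N') (p q : ℤ) (x : ((K fs).X p : Type u) ⊗[A] N) :
    g.hom.lTensor _ (((K fs).d p q).hom.rTensor N x) = ((K fs).d p q).hom.rTensor N' (g.hom.lTensor _ x) :=
  (LinearMap.congr_fun (LinearMap.lTensor_comp_rTensor _ _ _) x).trans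
    (LinearMap.congr_fun (LinearMap.rTensor_comp_lTensor _ _ _) x).symm

/-- Compatible classes lift. -/
theorem surjective_lim (q : ℤ) (hs : Function.Surjective (HomologicalComplex.homologyMap (kap I M fs) q).hom)
    (c : ∀ n, (C fs (lvl I M n)).homology q) (hc : ∀ n, (cmap fs (tr I M n) q).hom (c (n + 1)) = c n) :
    ∃ x : (C fs (ModuleCat.of A M)).homology q, ∀ n, (cmap fs (pr I M n) q).hom x = c n := by
  have hstep : ∀ n, ∀ z : Groth.L28.Kun.Z (C fs (lvl I M n)) q, Groth.L28.Kun.cl _ q z = c n →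
      ∃ z' : Groth.L28.Kun.Z (C fs (lvl I M (n + 1))) q, Groth.L28.Kun.cl _ q z' = c (n + 1) ∧
        (tr I M n).hom.lTensor ((K fs).X q) z'.1 = z.1 := by
    intro n z hz
    obtain ⟨z', hz'⟩ := Groth.L28.Kun.cl_surjective _ q (c (n + 1))
    have h : (cmap fs (tr I M n) q).hom (Groth.L28.Kun.cl _ q z') = Groth.L28.Kun.cl _ q z := by rw [hz', hc, hz]
    rw [show (cmap fs (tr I M n) q).hom (Groth.L28.Kun.cl _ q z') = _ from Groth.L28.Kun.homologyMap_cl _ z',
      ← sub_eq_zero, ← map_sub, Groth.L28.Kun.cl_eq_zero_iff _ (sub_add_cancel q 1)] at h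
    obtain ⟨b, hb⟩ := h
    obtain ⟨b', rfl⟩ := surjective_tr I M fs (q - 1) n b
    let db : Groth.L28.Kun.Z (C fs (lvl I M (n + 1))) q :=
      ⟨(C fs (lvl I M (n + 1))).d (q - 1) q b', Groth.L28.Kun.d_mem_Z (C fs (lvl I M (n + 1))) (q - 1) q b'⟩
    refine ⟨z' - db, ?_, ?_⟩
    · rw [map_sub, (Groth.L28.Kun.cl_eq_zero_iff _ (sub_add_cancel q 1) db).2 ⟨b', rfl⟩, sub_zero, hz']
    · let x' : ((K fs).X q : Type u) ⊗[A] lvl I M (n + 1) := z'.1
      change (tr I M n).hom.lTensor _ (x' - ((K fs).d (q - 1) q).hom.rTensor _ b') = _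
      rw [map_sub, d_lTensor]
      exact sub_eq_of_eq_add' (eq_add_of_sub_eq hb.symm)
  choose step hstep₁ hstep₂ using hstep
  obtain ⟨z₀, hz₀⟩ := Groth.L28.Kun.cl_surjective _ q (c 0)
  let zz : ∀ n, {z : Groth.L28.Kun.Z (C fs (lvl I M n)) q // Groth.L28.Kun.cl _ q z = c n} := fun n =>
    Nat.rec ⟨z₀, hz₀⟩ (fun j r => ⟨step j r.1 r.2, hstep₁ j r.1 r.2⟩) n
  have hzz : ∀ n, (tr I M n).hom.lTensor ((K fs).X q) (zz (n + 1)).1.1 = (zz n).1.1 := fun n =>
    hstep₂ n (zz n).1 (zz n).2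
  let G := Groth.L10.AdicTowerRlim.G I M (K fs)
  let w : (G.X q : Type u) := ⟨fun n => (zz n).1.1, LinearMap.mem_ker.2 (funext fun n => by
    rw [deltaMap_apply, hzz]; exact sub_self _)⟩
  have hw : (G.d q (q + 1)).hom w = 0 := Subtype.ext (funext fun n => (zz n).1.2)
  obtain ⟨x, hx⟩ := hs (Groth.L28.Kun.cl G q ⟨w, hw⟩)
  refine ⟨x, fun n => ?_⟩
  rw [cmap_pr_eq, hx]
  exact (Groth.L28.Kun.homologyMap_cl (proG I M fs n) _).trans (zz n).2

/-- With Mittag-Leffler in the degree below, a class vanishing on all levels vanishes. -/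
theorem injective_lim (r q : ℤ) (hrq : r + 1 = q)
    (hi : Function.Injective (HomologicalComplex.homologyMap (kap I M fs) q).hom) (hML : ML I M fs r)
    (x : (C fs (ModuleCat.of A M)).homology q) (hx : ∀ n, (cmap fs (pr I M n) q).hom x = 0) : x = 0 := by
  let G := Groth.L10.AdicTowerRlim.G I M (K fs)
  refine hi (Eq.trans ?_ (map_zero _).symm)
  obtain ⟨⟨w, hw⟩, hwx⟩ := Groth.L28.Kun.cl_surjective G q ((HomologicalComplex.homologyMap (kap I M fs) q).hom x)
  rw [← hwx]
  have hb : ∀ n, ∃ b : ((K fs).X r : Type u) ⊗[A] lvl I M n, ((K fs).d r q).hom.rTensor _ b = w.1 n := fun n => by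
    have h := hx n
    rw [cmap_pr_eq, ← hwx, show (HomologicalComplex.homologyMap (proG I M fs n) q).hom
      (Groth.L28.Kun.cl G q ⟨w, hw⟩) = _ from Groth.L28.Kun.homologyMap_cl (proG I M fs n) ⟨w, hw⟩,
      Groth.L28.Kun.cl_eq_zero_iff _ hrq] at h
    exact h
  choose b hb using hb
  have hwc : ∀ n, (tr I M n).hom.lTensor _ (w.1 (n + 1)) = w.1 n := fun n =>
    (sub_eq_zero.1 (congrFun (LinearMap.mem_ker.1 w.2) n)).symm
  have he : ∀ n, (C fs (lvl I M n)).d r (r + 1) ((tr I M n).hom.lTensor _ (b (n + 1)) - b n) = 0 := fun n => by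
    subst hrq
    change ((K fs).d r (r + 1)).hom.rTensor _ _ = 0
    rw [map_sub, ← d_lTensor, hb, hb, hwc, sub_self]
  obtain ⟨u, hu⟩ := lim1 (X := fun n => ((C fs (lvl I M n)).homology r : Type u))
    (fun {n l} h => (cmap fs (fm I M h) r).hom.toAddMonoidHom)
    (fun {n k l} h h' x => by
      change (cmap fs _ r).hom ((cmap fs _ r).hom x) = (cmap fs _ r).hom x
      rw [← cmap_comp, fm_comp])
    (fun {n} x => by
      change (cmap fs _ r).hom x = x
      rw [fm_refl, cmap, Cm_id, HomologicalComplex.homologyMap_id]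
      rfl)
    hML (fun n => Groth.L28.Kun.cl (C fs (lvl I M n)) r ⟨_, he n⟩)
  choose û hû using fun n => Groth.L28.Kun.cl_surjective (C fs (lvl I M n)) r (u n)
  let û₁ : ∀ n, ((K fs).X r : Type u) ⊗[A] lvl I M n := fun n => (û n).1
  let β : ∀ n, ((K fs).X r : Type u) ⊗[A] lvl I M n := fun n => b n - û₁ n
  have hf : ∀ n, ∃ f : ((K fs).X (r - 1) : Type u) ⊗[A] lvl I M n,
      ((K fs).d (r - 1) r).hom.rTensor _ f = (tr I M n).hom.lTensor _ (β (n + 1)) - β n := fun n => by
    have h : Groth.L28.Kun.cl (C fs (lvl I M n)) r ⟨_, he n⟩ -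
        ((cmap fs (tr I M n) r).hom (u (n + 1)) - u n) = 0 := by
      have h2 : (cmap fs (fm I M (Nat.le_succ n)) r).hom (u (n + 1)) - u n =
        Groth.L28.Kun.cl (C fs (lvl I M n)) r ⟨_, he n⟩ := hu n
      rw [fm_succ] at h2
      exact sub_eq_zero.2 h2.symm
    rw [← hû (n + 1), ← hû n, show (cmap fs (tr I M n) r).hom (Groth.L28.Kun.cl _ r (û (n + 1))) = _ from
      Groth.L28.Kun.homologyMap_cl _ (û (n + 1)), ← map_sub, ← map_sub,
      Groth.L28.Kun.cl_eq_zero_iff _ (sub_add_cancel r 1)] at h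
    obtain ⟨f, hf⟩ := h
    refine ⟨f, hf.trans ?_⟩
    change ((tr I M n).hom.lTensor _ (b (n + 1)) - b n) -
      ((tr I M n).hom.lTensor _ (û₁ (n + 1)) - û₁ n) = _
    simp only [β, map_sub]
    abel
  choose f hf using hf
  choose lift hlift using surjective_tr I M fs (r - 1)
  let g : ∀ n, ((K fs).X (r - 1) : Type u) ⊗[A] lvl I M n := fun n => Nat.rec 0 (fun j gj => lift j (f j + gj)) n
  let β' : ∀ n, ((K fs).X r : Type u) ⊗[A] lvl I M n := fun n => β n - ((K fs).d (r - 1) r).hom.rTensor _ (g n)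
  have hβ : ∀ n, (tr I M n).hom.lTensor _ (β' (n + 1)) = β' n := fun n => by
    change (tr I M n).hom.lTensor _ (β (n + 1) - ((K fs).d (r - 1) r).hom.rTensor _ (lift n (f n + g n))) =
      β n - ((K fs).d (r - 1) r).hom.rTensor _ (g n)
    rw [map_sub, d_lTensor, hlift, map_add, hf]
    abel
  refine (Groth.L28.Kun.cl_eq_zero_iff G hrq _).2
    ⟨⟨β', LinearMap.mem_ker.2 (funext fun n => by rw [deltaMap_apply, hβ]; exact sub_self _)⟩,
      Subtype.ext (funext fun n => ?_)⟩
  change ((K fs).d r q).hom.rTensor _ (β' n) = w.1 n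
  subst hrq
  have h0 : ((K fs).d r (r + 1)).hom.rTensor (lvl I M n) (û₁ n) = 0 := (û n).2
  change ((K fs).d r (r + 1)).hom.rTensor _ (b n - û₁ n - ((K fs).d (r - 1) r).hom.rTensor _ (g n)) = _
  rw [map_sub, map_sub, hb, h0, sub_zero, ← LinearMap.rTensor_comp_apply, ← ModuleCat.hom_comp,
    HomologicalComplex.d_comp_d, ModuleCat.hom_zero, LinearMap.rTensor_zero, LinearMap.zero_apply, sub_zero]

end Groth.L29.CechLimit
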