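import Groth.Agent.L29.Formal.CechSect
import Groth.Agent.L29.Formal.ProZeroPunct
import Groth.Agent.L04.RGamma.Derived
import Groth.Agent.L10.DRing.CechTorsion
import Mathlib.Algebra.Homology.HomologySequenceLemmas
import Mathlib.Algebra.Homology.HomologicalComplexAbelian

/-!
`H^{p+1}(V, N~)` is the Čech cohomology in degree `p + 2`, naturally in `N`.
-/

set_option autoImplicit false
set_option backward.isDefEq.respectTransparency false
set_option backward.isDefEq.respectTransparency.types false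
set_option backward.defeqAttrib.useBackward true
set_option linter.style.haveILetI false

universe u

open CategoryTheory CategoryTheory.Limits AlgebraicGeometry TopologicalSpace Opposite
open scoped TensorProduct

attribute [local instance] HasDerivedCategory.standard

noncomputable section

namespace Groth.L29.CechNat

open Groth.L29.CechTerms Groth.L29.CechSect Groth.L29.Formal Groth.L29.ProZeroPunct

variable {A : Type u} [CommRing A] (fs : List A)

/-- the complex of a module -/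
abbrev C (N : ModuleCat.{u} A) : DRing.Cx A := (Groth.L10.CompletionAdic.tC N).obj (K fs)

/-- functoriality -/
abbrev Cm {N N' : ModuleCat.{u} A} (g : N ⟶ N') : C fs N ⟶ C fs N' := (Groth.L10.CompletionAdic.tau g).app (K fs)

theorem Cm_f {N N' : ModuleCat.{u} A} (g : N ⟶ N') (p : ℤ) (x : ((K fs).X p : Type u) ⊗[A] N) :
    ((Cm fs g).f p).hom x = g.hom.lTensor ((K fs).X p) x := rfl

/-- functoriality on cohomology -/
abbrev cmap {N N' : ModuleCat.{u} A} (g : N ⟶ N') (q : ℤ) : (C fs N).homology q ⟶ (C fs N').homology q :=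
  HomologicalComplex.homologyMap (Cm fs g) q

theorem Cm_comp {M N P : ModuleCat.{u} A} (g : M ⟶ N) (h : N ⟶ P) : Cm fs (g ≫ h) = Cm fs g ≫ Cm fs h := by
  refine HomologicalComplex.Hom.ext (funext fun p => ModuleCat.hom_ext ?_)
  exact LinearMap.lTensor_comp ((K fs).X p) h.hom g.hom

theorem Cm_id (N : ModuleCat.{u} A) : Cm fs (𝟙 N) = 𝟙 (C fs N) := by
  refine HomologicalComplex.Hom.ext (funext fun p => ModuleCat.hom_ext ?_)
  exact LinearMap.lTensor_id ((K fs).X p) N

theorem cmap_comp {M N P : ModuleCat.{u} A} (g : M ⟶ N) (h : N ⟶ P) (q : ℤ) (x : (C fs M).homology q) :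
    (cmap fs (g ≫ h) q).hom x = (cmap fs h q).hom ((cmap fs g q).hom x) := by
  rw [cmap, Cm_comp, HomologicalComplex.homologyMap_comp]
  rfl

/-- sequence of complexes -/
def CS (S : ShortComplex (ModuleCat.{u} A)) : ShortComplex (DRing.Cx A) :=
  ShortComplex.mk (Cm fs S.f) (Cm fs S.g) (by
    refine HomologicalComplex.Hom.ext (funext fun p => ModuleCat.hom_ext ?_)
    change S.g.hom.lTensor ((K fs).X p) ∘ₗ S.f.hom.lTensor ((K fs).X p) = 0
    rw [← LinearMap.lTensor_comp, ← ModuleCat.hom_comp, S.zero, ModuleCat.hom_zero, LinearMap.lTensor_zero])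

theorem CS_shortExact {S : ShortComplex (ModuleCat.{u} A)} (hS : S.ShortExact) : (CS fs S).ShortExact :=
  HomologicalComplex.shortExact_of_degreewise_shortExact _ fun p => by
    haveI : Module.Flat A ((K fs).X p) := Groth.L10.CechTorsion.termwiseFlat fs p
    exact
    { exact := (ShortComplex.moduleCat_exact_iff _).2 fun x hx =>
        (lTensor_exact ((K fs).X p) ((ShortComplex.ShortExact.moduleCat_exact_iff_function_exact _).1 hS.exact)
          ((ModuleCat.epi_iff_surjective S.g).1 hS.epi_g) x).1 hx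
      mono_f := (ModuleCat.mono_iff_injective _).2
        (Module.Flat.lTensor_preserves_injective_linearMap S.f.hom ((ModuleCat.mono_iff_injective S.f).1 hS.mono_f))
      epi_g := (ModuleCat.epi_iff_surjective _).2
        (LinearMap.lTensor_surjective _ ((ModuleCat.epi_iff_surjective S.g).1 hS.epi_g)) }

/-- connecting map -/
def δC {S : ShortComplex (ModuleCat.{u} A)} (hS : S.ShortExact) (q r : ℤ) (h : q + 1 = r) :
    (C fs S.X₃).homology q ⟶ (C fs S.X₁).homology r :=
  (CS_shortExact fs hS).δ q r h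

theorem exact₁ {S : ShortComplex (ModuleCat.{u} A)} (hS : S.ShortExact) (q r : ℤ) (h : q + 1 = r)
    (x : (C fs S.X₁).homology r) (hx : (cmap fs S.f r).hom x = 0) : ∃ y, (δC fs hS q r h).hom y = x :=
  (ShortComplex.moduleCat_exact_iff _).1 ((CS_shortExact fs hS).homology_exact₁ q r h) x hx

theorem exact₃ {S : ShortComplex (ModuleCat.{u} A)} (hS : S.ShortExact) (q r : ℤ) (h : q + 1 = r)
    (x : (C fs S.X₃).homology q) (hx : (δC fs hS q r h).hom x = 0) : ∃ y, (cmap fs S.g q).hom y = x :=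
  (ShortComplex.moduleCat_exact_iff _).1 ((CS_shortExact fs hS).homology_exact₃ q r h) x hx

theorem δC_cmap {S : ShortComplex (ModuleCat.{u} A)} (hS : S.ShortExact) (q r : ℤ) (h : q + 1 = r)
    (x : (C fs S.X₂).homology q) : (δC fs hS q r h).hom ((cmap fs S.g q).hom x) = 0 :=
  ConcreteCategory.congr_hom ((CS_shortExact fs hS).comp_δ q r h) x

theorem δC_natural {S S' : ShortComplex (ModuleCat.{u} A)} (hS : S.ShortExact) (hS' : S'.ShortExact) (φ : S ⟶ S')
    (q r : ℤ) (h : q + 1 = r) (x : (C fs S.X₃).homology q) :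
    (cmap fs φ.τ₁ r).hom ((δC fs hS q r h).hom x) = (δC fs hS' q r h).hom ((cmap fs φ.τ₃ q).hom x) := by
  let Φ : CS fs S ⟶ CS fs S' := ShortComplex.homMk (Cm fs φ.τ₁) (Cm fs φ.τ₂) (Cm fs φ.τ₃)
    (show Cm fs φ.τ₁ ≫ Cm fs S'.f = Cm fs S.f ≫ Cm fs φ.τ₂ by rw [← Cm_comp, ← Cm_comp, φ.comm₁₂])
    (show Cm fs φ.τ₂ ≫ Cm fs S'.g = Cm fs S.g ≫ Cm fs φ.τ₃ by rw [← Cm_comp, ← Cm_comp, φ.comm₂₃])
  exact ConcreteCategory.congr_hom
    (HomologicalComplex.HomologySequence.δ_naturality Φ (CS_shortExact fs hS) (CS_shortExact fs hS') q r h) x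

variable [IsNoetherianRing A]

theorem subsingleton_of_injective (E : ModuleCat.{u} A) [Injective E] (q : ℤ) (hq : 0 < q) :
    Subsingleton ((C fs E).homology q : Type u) := by
  let J : Ideal A := Ideal.span {x : A | x ∈ fs}
  haveI := Groth.L10.DualUnbounded.hasRgammaI J
  obtain ⟨g, -⟩ := Groth.L10.GammaTensor.exists_gamma_iso J E fs rfl
  let X := (HomologicalComplex.single (ModuleCat.{u} A) (ComplexShape.up ℤ) 0).obj E
  have hX : ∀ n, Injective (X.X n) := fun n => by
    by_cases hn : n = 0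
    · subst hn
      exact Injective.of_iso (HomologicalComplex.singleObjXSelf (ComplexShape.up ℤ) 0 E).symm inferInstance
    · exact (HomologicalComplex.isZero_single_obj_X (ComplexShape.up ℤ) 0 E n hn).injective
  haveI := Groth.L04.RGamma.isIso_toR J X hX
  have hz : IsZero (((Groth.L04.RGamma.gammaCx J).obj X).homology q) := by
    refine ShortComplex.isZero_homology_of_isZero_X₂ _ ?_
    exact Functor.map_isZero (DRing.gammaI J) (HomologicalComplex.isZero_single_obj_X (ComplexShape.up ℤ) 0 E q hq.ne')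
  let F := DerivedCategory.homologyFunctor (ModuleCat.{u} A) q
  let e₀ : Groth.L04.RGamma.qq.obj X ≅ (DerivedCategory.singleFunctor (ModuleCat.{u} A) 0).obj E :=
    (DerivedCategory.quotientCompQhIso _).app X ≪≫ ((DerivedCategory.singleFunctorIsoCompQ (ModuleCat.{u} A) 0).app E).symm
  have h1 : IsZero (F.obj ((DRing.RgammaI J).obj (Groth.L04.RGamma.qq.obj X))) :=
    hz.of_iso ((F.mapIso (asIso (Groth.L04.RGamma.toR J X))).symm ≪≫ Groth.L04.RGamma.hdIso _ q)
  refine ModuleCat.subsingleton_of_isZero (h1.of_iso ?_)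
  exact ((DerivedCategory.homologyFunctorFactors _ q).app (C fs E)).symm ≪≫ F.mapIso g ≪≫
    F.mapIso ((DRing.RgammaI J).mapIso e₀.symm)

variable {V : (Spec (CommRingCat.of A)).Opens}

/-- a natural surjection onto Čech cohomology, reflecting images of surjections -/
def Good (p : ℕ) (q : ℤ) (Φ : ∀ N : ModuleCat.{u} A, H V N p →+ ((C fs N).homology q : Type u)) : Prop :=
  (∀ N, Function.Surjective (Φ N)) ∧
  (∀ {N N' : ModuleCat.{u} A} (g : N ⟶ N') (x : H V N p), Φ N' (hm g V p x) = (cmap fs g q).hom (Φ N x)) ∧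
  ∀ {S : ShortComplex (ModuleCat.{u} A)}, S.ShortExact → ∀ y : H V S.X₃ p,
    (∃ w, Φ S.X₃ y = (cmap fs S.g q).hom w) → ∃ y', hm S.g V p y' = y

theorem exists_succ (hE : ∀ (E : ModuleCat.{u} A) [Injective E] (p : ℕ), Subsingleton (H V E (p + 1)))
    {p : ℕ} {q r : ℤ} (h : q + 1 = r) (hr : 0 < r)
    {Φ : ∀ N : ModuleCat.{u} A, H V N p →+ ((C fs N).homology q : Type u)} (hΦ : Good fs p q Φ) :
    ∃ Ψ : ∀ N : ModuleCat.{u} A, H V N (p + 1) ≃+ ((C fs N).homology r : Type u),
      ∀ {N N' : ModuleCat.{u} A} (g : N ⟶ N') (x : H V N (p + 1)),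
        Ψ N' (hm g V (p + 1) x) = (cmap fs g r).hom (Ψ N x) := by
  obtain ⟨hsurj, hnat, hrefl⟩ := hΦ
  have hdl : ∀ N, Function.Surjective (dl V (emb_shortExact N) p) := fun N x => by
    haveI := hE (Injective.under N) p
    exact exists_dl_of_hm_f_eq_zero V (emb_shortExact N) p x
      (Subsingleton.elim (α := H V (Injective.under N) (p + 1)) _ _)
  let f : ∀ N, H V (emb N).X₃ p →+ ((C fs N).homology r : Type u) := fun N =>
    (δC fs (emb_shortExact N) q r h).hom.toAddMonoidHom.comp (Φ _)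
  have hker : ∀ N y, f N y = 0 ↔ dl V (emb_shortExact N) p y = 0 := fun N y => by
    refine ⟨fun h0 => ?_, fun h0 => ?_⟩
    · obtain ⟨w, hw⟩ := exact₃ fs (emb_shortExact N) q r h _ h0
      obtain ⟨y', rfl⟩ := hrefl (emb_shortExact N) y ⟨w, hw.symm⟩
      exact hm_g_dl_eq_zero V (emb_shortExact N) p y'
    · obtain ⟨y', rfl⟩ := exists_of_dl_eq_zero V (emb_shortExact N) p y h0
      change (δC fs (emb_shortExact N) q r h).hom (Φ _ (hm (emb N).g V p y')) = 0
      rw [hnat]
      exact δC_cmap fs (emb_shortExact N) q r h _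
  have hf : ∀ N, Function.Surjective (f N) := fun N c => by
    haveI := subsingleton_of_injective fs (Injective.under N) r hr
    obtain ⟨b, hb⟩ := exact₁ fs (emb_shortExact N) q r h c
      (Subsingleton.elim (α := ((C fs (Injective.under N)).homology r : Type u)) _ _)
    obtain ⟨y, rfl⟩ := hsurj _ b
    exact ⟨y, hb⟩
  choose σ hσ using hdl
  have hwd : ∀ N y y', dl V (emb_shortExact N) p y = dl V (emb_shortExact N) p y' → f N y = f N y' :=
    fun N y y' hy => sub_eq_zero.1 ((map_sub (f N) y y').symm.trans ((hker N _).2 (by rw [map_sub, hy, sub_self])))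
  let Ψ : ∀ N : ModuleCat.{u} A, H V N (p + 1) →+ ((C fs N).homology r : Type u) := fun N =>
    AddMonoidHom.mk' (fun x => f N (σ N x)) fun a b =>
      (hwd N (σ N (a + b)) (σ N a + σ N b) (by simp only [map_add, hσ])).trans (map_add (f N) _ _)
  have hΨ : ∀ N y, Ψ N (dl V (emb_shortExact N) p y) = f N y := fun N y => hwd N _ _ (hσ N _)
  have hbij : ∀ N, Function.Bijective (Ψ N) := fun N => by
    refine ⟨(injective_iff_map_eq_zero _).2 fun x hx => ?_, fun c => ?_⟩
    · rw [← hσ N x]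
      exact (hker N _).1 hx
    · obtain ⟨y, rfl⟩ := hf N c
      exact ⟨_, hΨ N y⟩
  refine ⟨fun N => AddEquiv.ofBijective (Ψ N) (hbij N), fun {N N'} g x => ?_⟩
  change Ψ N' (hm g V (p + 1) x) = (cmap fs g r).hom (Ψ N x)
  obtain ⟨y, rfl⟩ : ∃ y, dl V (emb_shortExact N) p y = x := ⟨_, hσ N x⟩
  rw [show hm g V (p + 1) (dl V (emb_shortExact N) p y) = dl V (emb_shortExact N') p (hm (embMap g).τ₃ V p y) from
    dl_natural V (emb_shortExact N) (emb_shortExact N') (embMap g) p y, hΨ, hΨ]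
  change (δC fs (emb_shortExact N') q r h).hom (Φ _ (hm (embMap g).τ₃ V p y)) =
    (cmap fs g r).hom ((δC fs (emb_shortExact N) q r h).hom (Φ _ y))
  rw [hnat]
  exact (δC_natural fs (emb_shortExact N) (emb_shortExact N') (embMap g) q r h _).symm

omit [IsNoetherianRing A] in
theorem good_of_equiv {p : ℕ} {q : ℤ} (Ψ : ∀ N : ModuleCat.{u} A, H V N p ≃+ ((C fs N).homology q : Type u))
    (hΨ : ∀ {N N' : ModuleCat.{u} A} (g : N ⟶ N') (x : H V N p), Ψ N' (hm g V p x) = (cmap fs g q).hom (Ψ N x)) :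
    Good fs p q fun N => (Ψ N).toAddMonoidHom :=
  ⟨fun N => (Ψ N).surjective, hΨ, fun {S} _ y ⟨w, hw⟩ => ⟨(Ψ S.X₂).symm w, (Ψ S.X₃).injective (by
    rw [hΨ, AddEquiv.apply_symm_apply]; exact hw.symm)⟩⟩

variable (hV : V = ⨆ j : Fin fs.length, D fs[j])

include hV in
/-- degree zero -/
theorem exists_zero : ∃ Φ : ∀ N : ModuleCat.{u} A, H V N 0 →+ ((C fs N).homology 1 : Type u), Good fs 0 1 Φ := by
  have hle : ∀ j : Fin fs.length, D fs[j] ≤ V := fun j => (le_iSup (fun j : Fin fs.length => D fs[j]) j).trans hV.ge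
  choose z hz hz' using fun (N : ModuleCat.{u} A) (s : sec V N) => exists_cocycle fs N hle s
  let Zf : ∀ N : ModuleCat.{u} A, (sec V N : Type u) →+ Groth.L28.Kun.Z (C fs N) 1 := fun N =>
    AddMonoidHom.mk' (fun s => ⟨z N s, hz N s⟩) fun a b => Subtype.ext ((bijective_cmp fs N).1 (funext fun j => by
      change cmp fs N j (z N (a + b)) = cmp fs N j (z N a + z N b)
      rw [map_add, hz', hz', hz', map_add]))
  let Φ : ∀ N : ModuleCat.{u} A, H V N 0 →+ ((C fs N).homology 1 : Type u) := fun N =>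
    (Groth.L28.Kun.cl (C fs N) 1).toAddMonoidHom.comp ((Zf N).comp (h0 V N).toAddMonoidHom)
  have hzn : ∀ {N N' : ModuleCat.{u} A} (g : N ⟶ N') (s : sec V N),
      z N' ((secMap V g).hom s) = g.hom.lTensor _ (z N s) := fun {N N'} g s =>
    (bijective_cmp fs N').1 (funext fun j => by
      change cmp fs N' j _ = cmp fs N' j _
      rw [cmp_natural, hz', hz', secMap_res])
  refine ⟨Φ, fun N c => ?_, fun {N N'} g x => ?_, fun {S} hS y ⟨w, hw⟩ => ?_⟩
  · obtain ⟨⟨c, hc⟩, rfl⟩ := Groth.L28.Kun.cl_surjective (C fs N) 1 c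
    obtain ⟨s, hs⟩ := exists_section fs N hle hV.le c hc
    refine ⟨(h0 V N).symm s, congrArg (Groth.L28.Kun.cl (C fs N) 1) (Subtype.ext ((bijective_cmp fs N).1
      (funext fun j => ?_)))⟩
    change cmp fs N j (z N (h0 V N ((h0 V N).symm s))) = cmp fs N j c
    rw [AddEquiv.apply_symm_apply, hz', hs]
  · change Groth.L28.Kun.cl (C fs N') 1 ⟨z N' (h0 V N' (hm g V 0 x)), _⟩ =
      (cmap fs g 1).hom (Groth.L28.Kun.cl (C fs N) 1 ⟨z N (h0 V N x), _⟩)
    refine Eq.trans ?_ (Groth.L28.Kun.homologyMap_cl (Cm fs g) _).symm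
    refine congrArg (Groth.L28.Kun.cl (C fs N') 1) (Subtype.ext ?_)
    change z N' (h0 V N' (hm g V 0 x)) = _
    rw [h0_hm, hzn]
    rfl
  · obtain ⟨⟨w, hwZ⟩, rfl⟩ := Groth.L28.Kun.cl_surjective (C fs S.X₂) 1 w
    change Groth.L28.Kun.cl (C fs S.X₃) 1 ⟨z S.X₃ (h0 V S.X₃ y), _⟩ = _ at hw
    rw [show (cmap fs S.g 1).hom (Groth.L28.Kun.cl (C fs S.X₂) 1 ⟨w, hwZ⟩) = _ from
      Groth.L28.Kun.homologyMap_cl (Cm fs S.g) ⟨w, hwZ⟩, ← sub_eq_zero, ← map_sub,
      Groth.L28.Kun.cl_eq_zero_iff (C fs S.X₃) (show (0 : ℤ) + 1 = 1 from rfl)] at hw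
    obtain ⟨b, hb⟩ := hw
    let w' : ((K fs).X 1 : Type u) ⊗[A] S.X₂ := w
    obtain ⟨e, rfl⟩ := LinearMap.lTensor_surjective ((K fs).X 0) ((ModuleCat.epi_iff_surjective S.g).1 hS.epi_g) b
    have hb' : z S.X₃ (h0 V S.X₃ y) = S.g.hom.lTensor _ (w' + ((K fs).d 0 1).hom.rTensor S.X₂ e) := by
      rw [map_add, ← sub_eq_iff_eq_add', show S.g.hom.lTensor _ (((K fs).d 0 1).hom.rTensor S.X₂ e) =
          ((K fs).d 0 1).hom.rTensor S.X₃ (S.g.hom.lTensor _ e) from
        (LinearMap.congr_fun (LinearMap.lTensor_comp_rTensor _ _ _) e).trans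
          (LinearMap.congr_fun (LinearMap.rTensor_comp_lTensor _ _ _) e).symm]
      exact hb.symm
    obtain ⟨s, hs⟩ := exists_section fs S.X₂ hle hV.le (w' + ((K fs).d 0 1).hom.rTensor S.X₂ e) (by
      rw [map_add, d_d, add_zero]; exact hwZ)
    refine ⟨(h0 V S.X₂).symm s, (h0 V S.X₃).injective (eq_of_res fs S.X₃ hle hV.le _ _ fun j => ?_)⟩
    rw [h0_hm, AddEquiv.apply_symm_apply, secMap_res, hs, ← cmp_natural, ← hb', hz']

include hV in
/-- higher degrees -/
theorem exists_equiv (p : ℕ) : ∀ q : ℤ, q = p + 2 →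
    ∃ Ψ : ∀ N : ModuleCat.{u} A, H V N (p + 1) ≃+ ((C fs N).homology q : Type u),
      ∀ {N N' : ModuleCat.{u} A} (g : N ⟶ N') (x : H V N (p + 1)),
        Ψ N' (hm g V (p + 1) x) = (cmap fs g q).hom (Ψ N x) := by
  have hVJ : V = LocCoh.puncturedOpen A (Ideal.span {x : A | x ∈ fs}) := by
    rw [hV]
    ext r
    simp only [SetLike.mem_coe, Opens.mem_iSup]
    refine ⟨fun ⟨j, hj⟩ h => hj (h (Ideal.subset_span (List.getElem_mem j.2))), fun h => ?_⟩
    by_contra hc
    refine h fun a ha => ?_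
    refine Ideal.span_le.2 (fun g hg => ?_) ha
    obtain ⟨i, hi, rfl⟩ := List.getElem_of_mem hg
    by_contra hn
    exact hc ⟨⟨i, hi⟩, hn⟩
  have hE : ∀ (E : ModuleCat.{u} A) [Injective E] (p : ℕ), Subsingleton (H V E (p + 1)) := by
    intro E _ p
    rw [hVJ]
    exact subsingleton_H_injective _ E p
  induction p with
  | zero =>
    intro q hq
    obtain ⟨Φ, hΦ⟩ := exists_zero fs hV
    exact exists_succ fs hE (by omega) (by omega) hΦ
  | succ p ih =>
    intro q hq
    obtain ⟨Ψ, hΨ⟩ := ih ((p : ℤ) + 2) rfl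
    exact exists_succ fs hE (by omega) (by omega) (good_of_equiv fs Ψ hΨ)

end Groth.L29.CechNat
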