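import Groth.Agent.L10.DRing.GammaTensor

/-!
Terms of the extended Čech complex of the ring in degrees zero and one, tensored with a module.
-/

set_option autoImplicit false
set_option backward.isDefEq.respectTransparency false
set_option backward.isDefEq.respectTransparency.types false
set_option backward.defeqAttrib.useBackward true
set_option linter.style.haveILetI false

universe u

open CategoryTheory CategoryTheory.Limits CochainComplex DerCA HomologicalComplex
open scoped TensorProduct

noncomputable section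

namespace Groth.L29.CechTerms

variable {A : Type u} [CommRing A]

/-- the complex -/
abbrev K (fs : List A) : DRing.Cx A := extCech (ModuleCat.of A A) fs

/-- localisation target -/
abbrev L (f : A) : Type u := LocalizedModule (Submonoid.powers f) A

section step

variable (f : A) (fs : List A)

local notation "φ" => locCxUnit (Submonoid.powers f) (K fs)

/-- first projection -/
abbrev pK (p : ℤ) : (K (f :: fs)).X p ⟶ (K fs).X p := (mappingCocone.fst φ).f p

/-- second projection -/
abbrev pL (p q : ℤ) (h : p + -1 = q) : (K (f :: fs)).X p ⟶ (locFunctor (Submonoid.powers f)).obj ((K fs).X q) :=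
  (mappingCocone.snd φ).v p q h

/-- first inclusion -/
abbrev iK (p : ℤ) : (K fs).X p ⟶ (K (f :: fs)).X p := (mappingCocone.inl φ).v p p (add_zero p)

/-- second inclusion -/
abbrev iL (p q : ℤ) (h : p + -1 = q) : (locFunctor (Submonoid.powers f)).obj ((K fs).X q) ⟶ (K (f :: fs)).X p :=
  (mappingCocone.inr φ).1.v q p (by omega)

theorem iK_pK (p : ℤ) (x : (K fs).X p) : (pK f fs p).hom ((iK f fs p).hom x) = x :=
  ConcreteCategory.congr_hom (mappingCocone.inl_v_fst_f φ p) x

theorem iK_pL (p q : ℤ) (h : p + -1 = q) (x : (K fs).X p) : (pL f fs p q h).hom ((iK f fs p).hom x) = 0 :=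
  ConcreteCategory.congr_hom (mappingCocone.inl_v_snd_v φ p q h) x

theorem iL_pK (p q : ℤ) (h : p + -1 = q) (x : ((locFunctor (Submonoid.powers f)).obj ((K fs).X q) : Type u)) :
    (pK f fs p).hom ((iL f fs p q h).hom x) = 0 :=
  ConcreteCategory.congr_hom (mappingCocone.inr_v_fst_f φ q p (by omega)) x

theorem iL_pL (p q : ℤ) (h : p + -1 = q) (x : ((locFunctor (Submonoid.powers f)).obj ((K fs).X q) : Type u)) :
    (pL f fs p q h).hom ((iL f fs p q h).hom x) = x :=
  ConcreteCategory.congr_hom (mappingCocone.inr_v_snd_v φ q p (by omega)) x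

theorem decomp (p q : ℤ) (h : p + -1 = q) (x : (K (f :: fs)).X p) :
    (iK f fs p).hom ((pK f fs p).hom x) + (iL f fs p q h).hom ((pL f fs p q h).hom x) = x :=
  ConcreteCategory.congr_hom (mappingCocone.id_X φ p q h) x

theorem d_pL (x : (K (f :: fs)).X 0) :
    (pL f fs 1 0 (by norm_num)).hom (((K (f :: fs)).d 0 1).hom x) =
      -((locUnit (Submonoid.powers f)).app ((K fs).X 0)).hom ((pK f fs 0).hom x) := by
  let β : HomComplex.Cochain ((locCx (Submonoid.powers f)).obj (K fs))
      ((locCx (Submonoid.powers f)).obj (K fs)) 0 := HomComplex.Cochain.ofHom (𝟙 _)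
  have hs : mappingCocone.snd φ = mappingCocone.descCochain φ 0 β (show (-1 : ℤ) + 1 = 0 by norm_num) := by
    ext p q hpq
    rw [← Category.id_comp ((mappingCocone.snd φ).v p q hpq),
      ← Category.id_comp ((mappingCocone.descCochain φ 0 β _).v p q hpq), ← mappingCocone.id_X φ p q hpq,
      Preadditive.add_comp, Preadditive.add_comp, Category.assoc, Category.assoc, Category.assoc, Category.assoc]
    simp [β]
  have hδ := mappingCocone.δ_descCochain φ (0 : HomComplex.Cochain (K fs) _ (-1)) β
    (show (-1 : ℤ) + 1 = 0 by norm_num) 1 (by norm_num)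
  rw [← hs] at hδ
  have h : (K (f :: fs)).d 0 1 ≫ pL f fs 1 0 (by norm_num) =
      -(pK f fs 0 ≫ (φ).f 0) - pL f fs 0 (-1) (by norm_num) ≫ ((locCx (Submonoid.powers f)).obj (K fs)).d (-1) 0 := by
    have h0 := HomComplex.Cochain.congr_v hδ 0 0 (add_zero 0)
    rw [HomComplex.δ_v (-1) 0 (by norm_num) _ 0 0 (add_zero 0) (-1) 1 (by norm_num) (by norm_num)] at h0
    simp [β] at h0
    rw [eq_sub_iff_add_eq, add_comm]
    exact h0
  have h' := ConcreteCategory.congr_hom h x
  refine h'.trans ?_
  rw [show pL f fs 0 (-1) (by norm_num) = 0 from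
    ((locFunctor (Submonoid.powers f)).map_isZero (Groth.L10.CechTorsion.isZero_X _ fs (-1) (Or.inl (by omega)))).eq_of_tgt _ _]
  simp
  rfl

theorem subsingleton_loc_neg (q : ℤ) (hq : q < 0) :
    Subsingleton ((locFunctor (Submonoid.powers f)).obj ((K fs).X q) : Type u) :=
  ModuleCat.subsingleton_of_isZero
    ((locFunctor (Submonoid.powers f)).map_isZero (Groth.L10.CechTorsion.isZero_X _ fs q (Or.inl hq)))

end step

/-- degree zero is the ring -/
def aug (fs : List A) : ((K fs).X 0 : Type u) →ₗ[A] A :=
  ((Groth.L10.GammaTensor.augE fs).f 0 ≫ (singleObjXSelf (ComplexShape.up ℤ) 0 (ModuleCat.of A A)).hom).hom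

theorem aug_cons (f : A) (fs : List A) (x : (K (f :: fs)).X 0) :
    aug (f :: fs) x = aug fs ((pK f fs 0).hom x) := rfl

theorem bijective_aug : ∀ fs : List A, Function.Bijective (aug fs)
  | [] => by
    haveI : IsIso ((Groth.L10.GammaTensor.augE ([] : List A)).f 0) := by
      rw [Groth.L10.GammaTensor.augE]; infer_instance
    exact ConcreteCategory.bijective_of_isIso ((Groth.L10.GammaTensor.augE ([] : List A)).f 0 ≫
      (singleObjXSelf (ComplexShape.up ℤ) 0 (ModuleCat.of A A)).hom)
  | f :: fs => by
    haveI := subsingleton_loc_neg f fs (-1) (by norm_num)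
    refine ⟨fun x y h => ?_, fun a => ?_⟩
    · have h' : (pK f fs 0).hom x = (pK f fs 0).hom y := (bijective_aug fs).1 h
      rw [← decomp f fs 0 (-1) (by norm_num) x, ← decomp f fs 0 (-1) (by norm_num) y,
        h', Subsingleton.elim ((pL f fs 0 (-1) (by norm_num)).hom x)]
    · obtain ⟨z, rfl⟩ := (bijective_aug fs).2 a
      exact ⟨(iK f fs 0).hom z, (aug_cons f fs _).trans (congrArg _ (iK_pK f fs 0 z))⟩

/-- components in degree one -/
def comp : ∀ (fs : List A) (j : Fin fs.length), ((K fs).X 1 : Type u) →ₗ[A] L fs[j]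
  | [], j => j.elim0
  | f :: fs, ⟨0, _⟩ =>
    -((locFunctor (Submonoid.powers f)).map (ModuleCat.ofHom (Y := A) (aug fs))).hom ∘ₗ
      (pL f fs 1 0 (by norm_num)).hom
  | f :: fs, ⟨j + 1, h⟩ => comp fs ⟨j, Nat.lt_of_succ_lt_succ h⟩ ∘ₗ (pK f fs 1).hom

theorem comp_d : ∀ (fs : List A) (j : Fin fs.length) (x : (K fs).X 0),
    comp fs j (((K fs).d 0 1).hom x) = LocalizedModule.mkLinearMap (Submonoid.powers fs[j]) A (aug fs x)
  | [], j, _ => j.elim0
  | f :: fs, ⟨0, _⟩, x => by
    change -(((locFunctor (Submonoid.powers f)).map (ModuleCat.ofHom (Y := A) (aug fs))).hom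
      ((pL f fs 1 0 (by norm_num)).hom (((K (f :: fs)).d 0 1).hom x))) = _
    rw [d_pL, map_neg, neg_neg, aug_cons]
    exact (ConcreteCategory.congr_hom ((locUnit (Submonoid.powers f)).naturality
      (ModuleCat.ofHom (Y := A) (aug fs))) _).symm
  | f :: fs, ⟨j + 1, h⟩, x => by
    simp only [comp, LinearMap.comp_apply]
    rw [aug_cons]
    refine Eq.trans (congrArg _ ?_) (comp_d fs ⟨j, Nat.lt_of_succ_lt_succ h⟩ _)
    exact (ConcreteCategory.congr_hom ((mappingCocone.fst (locCxUnit (Submonoid.powers f) (K fs))).comm 0 1) x).symm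

section tensor

variable (N : Type u) [AddCommGroup N] [Module A N]

/-- degree zero tensored with `N` -/
def augN (fs : List A) : ((K fs).X 0 : Type u) ⊗[A] N →ₗ[A] N :=
  (TensorProduct.lid A N).toLinearMap ∘ₗ (aug fs).rTensor N

theorem bijective_augN (fs : List A) : Function.Bijective (augN N fs) :=
  (TensorProduct.lid A N).bijective.comp
    (LinearEquiv.rTensor N (LinearEquiv.ofBijective _ (bijective_aug fs))).bijective

/-- components tensored with `N` -/
def compN (fs : List A) (j : Fin fs.length) : ((K fs).X 1 : Type u) ⊗[A] N →ₗ[A] L fs[j] ⊗[A] N :=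
  (comp fs j).rTensor N

theorem compN_d (fs : List A) (j : Fin fs.length) (x : ((K fs).X 0 : Type u) ⊗[A] N) :
    compN N fs j (((K fs).d 0 1).hom.rTensor N x) =
      LocalizedModule.mkLinearMap (Submonoid.powers fs[j]) A 1 ⊗ₜ[A] augN N fs x := by
  induction x using TensorProduct.induction_on with
  | zero => exact (map_zero (compN N fs j ∘ₗ ((K fs).d 0 1).hom.rTensor N)).trans (by rw [map_zero, TensorProduct.tmul_zero])
  | add a b ha hb => simp only [map_add, ha, hb, TensorProduct.tmul_add]
  | tmul e n =>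
    simp only [compN, augN, LinearMap.rTensor_tmul, LinearMap.comp_apply, LinearEquiv.coe_coe,
      TensorProduct.lid_tmul, comp_d, TensorProduct.tmul_smul, TensorProduct.smul_tmul']
    rw [← map_smul, smul_eq_mul, mul_one]

variable (f : A) (fs : List A)

theorem decompN (p q : ℤ) (h : p + -1 = q) (x : ((K (f :: fs)).X p : Type u) ⊗[A] N) :
    (iK f fs p).hom.rTensor N ((pK f fs p).hom.rTensor N x) +
      (iL f fs p q h).hom.rTensor N ((pL f fs p q h).hom.rTensor N x) = x := by
  rw [← LinearMap.rTensor_comp_apply, ← LinearMap.rTensor_comp_apply, ← LinearMap.add_apply,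
    ← LinearMap.rTensor_add]
  convert LinearMap.rTensor_id_apply N _ x
  exact LinearMap.ext (decomp f fs p q h)

end tensor

theorem bijective_compN (N : Type u) [AddCommGroup N] [Module A N] : ∀ fs : List A,
    Function.Bijective fun (x : ((K fs).X 1 : Type u) ⊗[A] N) (j : Fin fs.length) => compN N fs j x
  | [] => by
    haveI : Subsingleton ((K ([] : List A)).X 1) :=
      ModuleCat.subsingleton_of_isZero (Groth.L10.CechTorsion.isZero_X _ [] 1 (Or.inr (by norm_num)))
    haveI : Subsingleton (((K ([] : List A)).X 1 : Type u) ⊗[A] N) := inferInstance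
    exact ⟨fun x y _ => Subsingleton.elim x y, fun w => ⟨0, funext fun j => j.elim0⟩⟩
  | f :: fs => by
    have ih := bijective_compN N fs
    let e := (LinearEquiv.ofBijective _ (bijective_aug fs))
    let eL : ((locFunctor (Submonoid.powers f)).obj ((K fs).X 0) : Type u) ≃ₗ[A] L f :=
      ((locFunctor (Submonoid.powers f)).mapIso e.toModuleIso).toLinearEquiv
    refine ⟨fun x y hxy => ?_, fun w => ?_⟩
    · rw [← decompN N f fs 1 0 (by norm_num) x, ← decompN N f fs 1 0 (by norm_num) y]
      congr 1
      · refine congrArg _ (ih.1 (funext fun j => ?_))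
        simp only [compN, ← LinearMap.rTensor_comp_apply]
        exact congrFun hxy j.succ
      · refine congrArg _ ((LinearEquiv.rTensor N (eL.trans (LinearEquiv.neg A))).injective ?_)
        have h := congrFun hxy ⟨0, Nat.succ_pos _⟩
        have he : ∀ z : ((K (f :: fs)).X 1 : Type u) ⊗[A] N,
            LinearEquiv.rTensor N (eL.trans (LinearEquiv.neg A)) ((pL f fs 1 0 (by norm_num)).hom.rTensor N z) =
              compN N (f :: fs) ⟨0, Nat.succ_pos _⟩ z := fun z =>
          (LinearMap.rTensor_comp_apply N _ _ z).symm.trans (congrFun (congrArg DFunLike.coe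
            (congrArg (LinearMap.rTensor N) (LinearMap.ext fun w => rfl))) z)
        exact (he x).trans (h.trans (he y).symm)
    · obtain ⟨a, ha⟩ := ih.2 fun j => w j.succ
      refine ⟨(iK f fs 1).hom.rTensor N a + (iL f fs 1 0 (by norm_num)).hom.rTensor N
        ((LinearEquiv.rTensor N (eL.trans (LinearEquiv.neg A))).symm (w ⟨0, Nat.succ_pos _⟩)), funext fun j => ?_⟩
      rcases j with ⟨(_ | j), hj⟩
      · simp only [compN, comp, map_add, ← LinearMap.rTensor_comp_apply]
        rw [show (-((locFunctor (Submonoid.powers f)).map (ModuleCat.ofHom (Y := A) (aug fs))).hom ∘ₗ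
            (pL f fs 1 0 (by norm_num)).hom) ∘ₗ (iK f fs 1).hom = 0 from
          LinearMap.ext fun z => by simp [iK_pL],
          show (-((locFunctor (Submonoid.powers f)).map (ModuleCat.ofHom (Y := A) (aug fs))).hom ∘ₗ
            (pL f fs 1 0 (by norm_num)).hom) ∘ₗ (iL f fs 1 0 (by norm_num)).hom = (eL.trans (LinearEquiv.neg A)).toLinearMap from
          LinearMap.ext fun z => by simp [iL_pL]; rfl]
        simp only [LinearMap.rTensor_zero, LinearMap.zero_apply, zero_add]
        exact (LinearEquiv.rTensor N (eL.trans (LinearEquiv.neg A))).apply_symm_apply _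
      · simp only [compN, comp, map_add, ← LinearMap.rTensor_comp_apply]
        rw [LinearMap.comp_assoc, LinearMap.comp_assoc,
          show (pK f fs 1).hom ∘ₗ (iK f fs 1).hom = LinearMap.id from LinearMap.ext (iK_pK f fs 1),
          show (pK f fs 1).hom ∘ₗ (iL f fs 1 0 (by norm_num)).hom = 0 from LinearMap.ext (iL_pK f fs 1 0 _),
          LinearMap.comp_id, LinearMap.comp_zero, LinearMap.rTensor_zero, LinearMap.zero_apply, add_zero]
        exact congrFun ha ⟨j, Nat.lt_of_succ_lt_succ hj⟩

theorem bijective_smul_rTensor {X : Type u} [AddCommGroup X] [Module A X] (N : Type u) [AddCommGroup N] [Module A N]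
    {g : A} (hg : Function.Bijective fun x : X => g • x) : Function.Bijective fun x : X ⊗[A] N => g • x := by
  let e : X ≃ₗ[A] X := LinearEquiv.ofBijective (g • LinearMap.id) hg
  have h : e.toLinearMap.rTensor N = g • LinearMap.id := by
    refine TensorProduct.ext' fun x n => ?_
    simp [e, TensorProduct.smul_tmul']
  have := (LinearEquiv.rTensor N e).bijective
  rw [← LinearEquiv.coe_toLinearMap, LinearEquiv.coe_rTensor, h] at this
  exact this

theorem eq_zero_of_torsion (N : Type u) [AddCommGroup N] [Module A N] : ∀ (fs : List A) (p : ℤ), 0 < p →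
    ∀ x : ((K fs).X p : Type u) ⊗[A] N, (∀ g ∈ fs, ∃ k : ℕ, g ^ k • x = 0) → x = 0
  | [], p, hp, x, _ => by
    haveI : Subsingleton ((K ([] : List A)).X p) :=
      ModuleCat.subsingleton_of_isZero (Groth.L10.CechTorsion.isZero_X _ [] p (Or.inr (by simpa using hp)))
    exact Subsingleton.elim _ _
  | f :: fs, p, hp, x, hx => by
    rw [← decompN N f fs p (p + -1) rfl x, eq_zero_of_torsion N fs p hp ((pK f fs p).hom.rTensor N x) fun g hg => by
      obtain ⟨k, hk⟩ := hx g (List.mem_cons_of_mem _ hg)
      exact ⟨k, by rw [← map_smul, hk, map_zero]⟩]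
    obtain ⟨k, hk⟩ := hx f (List.mem_cons_self ..)
    have hb : Function.Bijective fun z : ((locFunctor (Submonoid.powers f)).obj ((K fs).X (p + -1)) : Type u) =>
        f ^ k • z :=
      (Module.End.isUnit_iff _).1 (IsLocalizedModule.map_units
        (LocalizedModule.mkLinearMap (Submonoid.powers f) ((K fs).X (p + -1))) (⟨f ^ k, Submonoid.mem_powers_iff _ _ |>.2 ⟨k, rfl⟩⟩ : Submonoid.powers f))
    rw [(bijective_smul_rTensor N hb).1 (a₁ := (pL f fs p (p + -1) rfl).hom.rTensor N x) (a₂ := 0)
      (by simp only [smul_zero]; rw [← map_smul, hk, map_zero]), map_zero, map_zero, add_zero]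

end Groth.L29.CechTerms
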