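import Groth.Agent.L29.Formal.CechLimit
import Groth.Agent.L29.Formal.ColimZero
import Groth.Agent.L29.Formal.ProZeroPunct
import Groth.Agent.S9405

/-!
Sections on a union of basic opens as the limit of the sections of the levels.
-/

set_option autoImplicit false
set_option backward.isDefEq.respectTransparency false
set_option backward.isDefEq.respectTransparency.types false
set_option backward.defeqAttrib.useBackward true
set_option linter.style.haveILetI false

universe u

open CategoryTheory CategoryTheory.Limits AlgebraicGeometry TopologicalSpace Opposite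
open scoped TensorProduct

attribute [local instance] HasDerivedCategory.standard

noncomputable section

namespace Groth.L29.CechZero

open Groth.L29.CechTerms Groth.L29.CechSect Groth.L29.Formal Groth.L29.CechNat Groth.L29.CechLimit Groth.L10.AdicTower
  Groth.L29.ColimZero

variable {A : Type u} [CommRing A] [IsNoetherianRing A] (I : Ideal A) [IsAdicComplete I A]
  (M : Type u) [AddCommGroup M] [Module A M] [Module.Finite A M] (fs : List A)
  {V : (Spec (CommRingCat.of A)).Opens} (hV : V = ⨆ j : Fin fs.length, D fs[j])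

include hV in
theorem eq_zero_of_levels (hi : Function.Injective (HomologicalComplex.homologyMap (kap I M fs) 1).hom)
    (hs : Function.Surjective (HomologicalComplex.homologyMap (kap I M fs) 0).hom)
    (x : Formal2.HV A M 0 V) (hx : ∀ n, Formal2.HVmap A (Formal2.quotPowπ A I M n) 0 V x = 0) : x = 0 := by
  haveI : IsAdicComplete I M := Groth.Agent.S9405.isAdicComplete_of_finite _ M
  have hle : ∀ j : Fin fs.length, D fs[j] ≤ V := fun j => (le_iSup (fun j : Fin fs.length => D fs[j]) j).trans hV.ge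
  let s := h0 V (ModuleCat.of A M) x
  have hs0 : ∀ n, (secMap V (pr I M n)).hom s = 0 := fun n => by
    have h1 : (secMap V (pr I M (n + 1))).hom s = 0 := by
      refine (h0_map (Formal2.quotPowπ A I M n) x).symm.trans ?_
      rw [hx, map_zero]
    rw [show pr I M n = pr I M (n + 1) ≫ tr I M n from ModuleCat.hom_ext (LinearMap.ext fun _ => rfl),
      ← Groth.L29.ProZeroPunct.secMap_secMap, h1, map_zero]
  obtain ⟨z, hz, hz'⟩ := exists_cocycle fs (ModuleCat.of A M) hle s
  have hz0 : ∀ n, (pr I M n).hom.lTensor ((K fs).X 1) z = 0 := fun n => (bijective_cmp fs (lvl I M n)).1 (funext fun j => by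
    change cmp fs _ j _ = cmp fs _ j 0
    rw [cmp_natural, hz', map_zero, ← secMap_res, hs0, map_zero])
  let C₀ := C fs (ModuleCat.of A M)
  let G := Groth.L10.AdicTowerRlim.G I M (K fs)
  have h1 : Groth.L28.Kun.cl C₀ 1 ⟨z, hz⟩ = 0 := hi (by
    rw [map_zero]
    refine (Groth.L28.Kun.homologyMap_cl (kap I M fs) ⟨z, hz⟩).trans ?_
    refine (congrArg (Groth.L28.Kun.cl G 1) (Subtype.ext ?_)).trans (map_zero _)
    exact Subtype.ext (funext fun n => hz0 n))
  obtain ⟨e, he⟩ := (Groth.L28.Kun.cl_eq_zero_iff C₀ (show (0 : ℤ) + 1 = 1 from rfl) _).1 h1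
  let e' : ((K fs).X 0 : Type u) ⊗[A] M := e
  have he' : ((K fs).d 0 1).hom.rTensor M e' = z := he
  have heG : (G.d 0 (0 + 1)).hom ((kap I M fs).f 0 e) = 0 := by
    refine Subtype.ext (funext fun n => ?_)
    change ((K fs).d 0 1).hom.rTensor (lvl I M n) ((pr I M n).hom.lTensor _ e') = 0
    rw [← d_lTensor fs (pr I M n) 0 1 e', he']
    exact hz0 n
  obtain ⟨c, hc⟩ := hs (Groth.L28.Kun.cl G 0 ⟨_, heG⟩)
  obtain ⟨⟨t, ht⟩, rfl⟩ := Groth.L28.Kun.cl_surjective C₀ 0 c
  rw [Groth.L28.Kun.homologyMap_cl, ← sub_eq_zero, ← map_sub,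
    Groth.L28.Kun.cl_eq_zero_iff G (show (-1 : ℤ) + 1 = 0 from rfl)] at hc
  obtain ⟨y, hy⟩ := hc
  haveI : Subsingleton (G.X (-1) : Type u) := ModuleCat.subsingleton_of_isZero
    ((limF I M).map_isZero (Groth.L10.CechTorsion.isZero_X _ fs (-1) (Or.inl (by norm_num))))
  rw [Subsingleton.elim y 0, map_zero] at hy
  let t' : ((K fs).X 0 : Type u) ⊗[A] M := t
  have h2 : ∀ n, (pr I M n).hom.lTensor ((K fs).X 0) t' = (pr I M n).hom.lTensor ((K fs).X 0) e' := fun n =>
    sub_eq_zero.1 (congrFun (congrArg Subtype.val hy.symm) n)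
  have h3 : augN M fs t' = augN M fs e' := by
    refine sub_eq_zero.1 (IsHausdorff.haus (I := I) inferInstance _ fun n => ?_)
    rw [SModEq.zero, ← Submodule.Quotient.mk_eq_zero, Submodule.Quotient.mk_sub, sub_eq_zero]
    exact (Groth.L29.CechCompl.augN_lTensor fs (pr I M n).hom t').symm.trans
      ((congrArg _ (h2 n)).trans (Groth.L29.CechCompl.augN_lTensor fs (pr I M n).hom e'))
  have h4 : z = 0 := by
    rw [← he', ← (bijective_augN M fs).1 h3]
    exact ht
  refine (h0 V (ModuleCat.of A M)).injective (Eq.trans ?_ (map_zero _).symm)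
  refine eq_of_res fs _ hle hV.le s 0 fun j => ?_
  rw [← hz', h4, map_zero, map_zero]

include hV in
theorem exists_of_compat (hs : Function.Surjective (HomologicalComplex.homologyMap (kap I M fs) 1).hom)
    (y : ∀ n, Formal2.HV A (Formal2.quotPow A I M n) 0 V)
    (hy : ∀ n, Formal2.HVmap A (Formal2.quotPowTrans A I M n) 0 V (y (n + 1)) = y n) :
    ∃ x : Formal2.HV A M 0 V, ∀ n, Formal2.HVmap A (Formal2.quotPowπ A I M n) 0 V x = y n := by
  haveI : IsAdicComplete I M := Groth.Agent.S9405.isAdicComplete_of_finite _ M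
  have hle : ∀ j : Fin fs.length, D fs[j] ≤ V := fun j => (le_iSup (fun j : Fin fs.length => D fs[j]) j).trans hV.ge
  choose w hw hw' using fun n => exists_cocycle fs (lvl I M (n + 1)) hle (h0 V (lvl I M (n + 1)) (y n))
  let z : ∀ n, ((K fs).X 1 : Type u) ⊗[A] (lvl I M n) := fun n => Nat.casesOn n 0 w
  have hz : ∀ n, ((K fs).d 1 2).hom.rTensor (lvl I M n) (z n) = 0
    | 0 => map_zero _
    | n + 1 => hw n
  have hc : ∀ n, (tr I M n).hom.lTensor ((K fs).X 1) (z (n + 1)) = z n
    | 0 => by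
      haveI : Subsingleton (lvl I M 0) := Submodule.Quotient.subsingleton_iff.2 (by simp)
      haveI : Subsingleton (((K fs).X 1 : Type u) ⊗[A] (lvl I M 0)) := inferInstance
      exact Subsingleton.elim _ _
    | n + 1 => (bijective_cmp fs (lvl I M (n + 1))).1 (funext fun j => by
        change cmp fs _ j ((tr I M (n + 1)).hom.lTensor _ (w (n + 1))) = cmp fs _ j (w n)
        rw [cmp_natural, hw', hw', ← secMap_res]
        refine congrArg (res (hle j) _) ?_
        rw [← hy n, h0_map]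
        rfl)
  let G := Groth.L10.AdicTowerRlim.G I M (K fs)
  let wG : (G.X 1 : Type u) := ⟨z, LinearMap.mem_ker.2 (funext fun n => by
    rw [deltaMap_apply, hc]; exact sub_self (z n))⟩
  have hwG : (G.d 1 (1 + 1)).hom wG = 0 := Subtype.ext (funext fun n => hz n)
  obtain ⟨c, hcw⟩ := hs (Groth.L28.Kun.cl G 1 ⟨wG, hwG⟩)
  obtain ⟨⟨v, hv⟩, rfl⟩ := Groth.L28.Kun.cl_surjective (C fs (ModuleCat.of A M)) 1 c
  rw [Groth.L28.Kun.homologyMap_cl, ← sub_eq_zero, ← map_sub,
    Groth.L28.Kun.cl_eq_zero_iff G (show (0 : ℤ) + 1 = 1 from rfl)] at hcw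
  obtain ⟨g, hg⟩ := hcw
  have hgc : ∀ n, (tr I M n).hom.lTensor ((K fs).X 0) (g.1 (n + 1)) = g.1 n := fun n =>
    (sub_eq_zero.1 (congrFun (LinearMap.mem_ker.1 g.2) n)).symm
  obtain ⟨m, hm⟩ := Groth.L29.CechCompl.exists_lim I M (fun n => augN (lvl I M n) fs (g.1 n)) fun n => by
    rw [← Groth.L29.CechCompl.augN_lTensor, hgc]
  obtain ⟨e₀, he₀⟩ := (bijective_augN M fs).2 m
  let v' : ((K fs).X 1 : Type u) ⊗[A] M := v
  obtain ⟨s, hs'⟩ := exists_section fs (ModuleCat.of A M) hle hV.le (v' - ((K fs).d 0 1).hom.rTensor M e₀) (by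
    rw [map_sub, show ((K fs).d 1 2).hom.rTensor M v' = 0 from hv]
    exact (congrArg (0 - ·) (d_d fs (ModuleCat.of A M) e₀)).trans (sub_zero _))
  refine ⟨(h0 V (ModuleCat.of A M)).symm s, fun n => (h0 V (lvl I M (n + 1))).injective ?_⟩
  refine (h0_map (Formal2.quotPowπ A I M n) _).trans ?_
  rw [AddEquiv.apply_symm_apply]
  refine eq_of_res fs _ hle hV.le _ _ fun j => ?_
  rw [secMap_res, hs', ← cmp_natural, ← hw']
  refine congrArg (cmp fs _ j) ?_
  have h1 : ((K fs).d 0 1).hom.rTensor (lvl I M (n + 1)) (g.1 (n + 1)) =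
      (pr I M (n + 1)).hom.lTensor ((K fs).X 1) v' - w n := congrFun (congrArg Subtype.val hg) (n + 1)
  have h2 : (pr I M (n + 1)).hom.lTensor ((K fs).X 0) e₀ = g.1 (n + 1) :=
    (bijective_augN (lvl I M (n + 1)) fs).1 (by rw [Groth.L29.CechCompl.augN_lTensor, he₀]; exact hm (n + 1))
  change (pr I M (n + 1)).hom.lTensor ((K fs).X 1) (v' - ((K fs).d 0 1).hom.rTensor M e₀) = w n
  rw [map_sub, d_lTensor fs (pr I M (n + 1)) 0 1 e₀, h2, h1, sub_sub_cancel]

end Groth.L29.CechZero
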