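import Groth.Agent.L29.Formal.LevelCoh
import Mathlib.RingTheory.Filtration

/-!
Algebraisable formal sections near `V(I)`: gluing from multiples, and stability under extensions.
-/

set_option autoImplicit false
set_option backward.isDefEq.respectTransparency false
set_option backward.isDefEq.respectTransparency.types false
set_option linter.style.haveILetI false

universe u

open CategoryTheory CategoryTheory.Limits AlgebraicGeometry TopologicalSpace Opposite

noncomputable section

namespace Groth.L29.Extension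

open Groth.L29.Formal Groth.L29.CechSect Groth.L29.ColimZero Groth.L29.ProZeroPunct Groth.L29.LevelCoh

variable {A : Type u} [CommRing A]

theorem smul_injective_of_le_D {a : A} {W : (Spec (CommRingCat.of A)).Opens} (hW : W ≤ D a) (N : ModuleCat.{u} A)
    {x y : sec W N} (h : a • x = a • y) : x = y := by
  let ι := {g : A // D g ≤ W}
  refine (modulesSpecToSheaf.obj (tilde (R := CommRingCat.of A) N)).eq_of_locally_eq' (fun g : ι => D g.1) W
    (fun g => homOfLE g.2) (fun p hp => ?_) _ _ fun g => ?_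
  · obtain ⟨_, ⟨g, rfl⟩, hpg, hgW⟩ := (PrimeSpectrum.isTopologicalBasis_basic_opens (R := A)).exists_subset_of_mem_open
      (u := {p : PrimeSpectrum A | p ∈ W}) hp W.isOpen
    exact Opens.mem_iSup.2 ⟨⟨g, hgW⟩, hpg⟩
  · change res g.2 N x = res g.2 N y
    obtain ⟨e, he⟩ := PrimeSpectrum.basicOpen_le_basicOpen_iff g.1 a |>.1 (g.2.trans hW)
    obtain ⟨c, hc⟩ := Ideal.mem_span_singleton'.1 he
    refine (smul_bij_D g.1 g.1 dvd_rfl N e).1 ?_
    change g.1 ^ e • _ = g.1 ^ e • _
    rw [← hc, mul_smul, mul_smul, ← map_smul (res g.2 N) a x, ← map_smul (res g.2 N) a y, h]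

theorem exists_smul_eq_of_le_D {a : A} {W : (Spec (CommRingCat.of A)).Opens} (hW : W ≤ D a) (N : ModuleCat.{u} A)
    (y : sec W N) : ∃ x : sec W N, a • x = y := by
  let ι := {g : A // D g ≤ W}
  have hcov : W ≤ ⨆ g : ι, D g.1 := fun p hp => by
    obtain ⟨_, ⟨g, rfl⟩, hpg, hgW⟩ := (PrimeSpectrum.isTopologicalBasis_basic_opens (R := A)).exists_subset_of_mem_open
      (u := {p : PrimeSpectrum A | p ∈ W}) hp W.isOpen
    exact Opens.mem_iSup.2 ⟨⟨g, hgW⟩, hpg⟩
  have hx : ∀ g : ι, ∃ x : sec (D g.1) N, a • x = res g.2 N y := fun g => by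
    obtain ⟨e, he⟩ := PrimeSpectrum.basicOpen_le_basicOpen_iff g.1 a |>.1 (g.2.trans hW)
    obtain ⟨c, hc⟩ := Ideal.mem_span_singleton'.1 he
    obtain ⟨z, hz⟩ := (smul_bij_D g.1 g.1 dvd_rfl N e).2 (res g.2 N y)
    exact ⟨c • z, by rw [← mul_smul, mul_comm a c, hc]; exact hz⟩
  choose x hx using hx
  let F := modulesSpecToSheaf.obj (tilde (R := CommRingCat.of A) N)
  obtain ⟨s, hs, -⟩ := F.existsUnique_gluing' (fun g : ι => D g.1) W (fun g => homOfLE g.2) hcov x fun g g' => by
    change res inf_le_left N (x g) = res inf_le_right N (x g')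
    refine smul_injective_of_le_D (inf_le_left.trans (g.2.trans hW)) N ?_
    rw [← map_smul, ← map_smul, hx, hx, res_res, res_res]
  refine ⟨s, F.eq_of_locally_eq' (fun g : ι => D g.1) W (fun g => homOfLE g.2) hcov _ _ fun g => ?_⟩
  change res g.2 N (a • s) = res g.2 N y
  rw [map_smul, show res g.2 N s = x g from hs g, hx]

/-- a section of a torsion module vanishing near `V(I)` vanishes -/
theorem eq_of_res_eq (I : Ideal A) {V V' : (Spec (CommRingCat.of A)).Opens} (h : V' ≤ V)
    (hVI : ∀ r ∈ V, I ≤ r.asIdeal → r ∈ V') {N : ModuleCat.{u} A} (hN : LocCoh.IsPowerTorsion I N) {s t : sec V N}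
    (hst : res h N s = res h N t) : s = t := by
  let W : Option ↥I → (Spec (CommRingCat.of A)).Opens := fun o => o.elim V' fun f => V ⊓ D f.1
  have hle : ∀ o, W o ≤ V := fun o => by
    cases o with
    | none => exact h
    | some f => exact inf_le_left
  have hcov : V ≤ ⨆ o, W o := fun r hr => by
    by_cases hI : I ≤ r.asIdeal
    · exact Opens.mem_iSup.2 ⟨none, hVI r hr hI⟩
    · obtain ⟨f, hf, hfr⟩ := SetLike.not_le_iff_exists.1 hI
      exact Opens.mem_iSup.2 ⟨some ⟨f, hf⟩, ⟨hr, hfr⟩⟩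
  refine (modulesSpecToSheaf.obj (tilde (R := CommRingCat.of A) N)).eq_of_locally_eq' W V
    (fun o => homOfLE (hle o)) hcov s t fun o => ?_
  cases o with
  | none => exact hst
  | some f =>
    have htor : ∀ m : N, ∃ n : ℕ, f.1 ^ n • m = 0 := fun m => by
      obtain ⟨n, hn⟩ := hN m
      exact ⟨n, hn _ (Ideal.pow_mem_pow f.2 n)⟩
    exact (eq_zero_of_le_D htor inf_le_right _).trans (eq_zero_of_le_D htor inf_le_right _).symm

theorem isPowerTorsion_quotPow (I : Ideal A) (M : Type u) [AddCommGroup M] [Module A M] (n : ℕ) :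
    LocCoh.IsPowerTorsion I (ModuleCat.of A (Formal2.quotPow A I M n) : Type u) :=
  isPowerTorsion_lvl I M (n + 1)

variable [IsNoetherianRing A] (I 𝔞 : Ideal A) (M : Type u) [AddCommGroup M] [Module A M] [Module.Finite A M]

local notation "U" => LocCoh.puncturedOpen A 𝔞

/-- A compatible family is algebraisable as soon as its multiples by elements cutting out `U ∩ V(I)` are. -/
theorem glue (G : Finset A) (hG : ∀ q : PrimeSpectrum A, I ≤ q.asIdeal → (∀ a ∈ G, a ∈ q.asIdeal) → 𝔞 ≤ q.asIdeal)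
    (y : ∀ n, sec U (ModuleCat.of A (Formal2.quotPow A I M n)))
    (h : ∀ a ∈ G, ∃ (V : (Spec (CommRingCat.of A)).Opens) (hV : Formal2.Admissible A I U V)
      (t : sec V (ModuleCat.of A M)), ∀ n,
        (secMap V (ModuleCat.ofHom (Formal2.quotPowπ A I M n))).hom t = a • res hV.1 _ (y n)) :
    ∃ (V : (Spec (CommRingCat.of A)).Opens) (hV : Formal2.Admissible A I U V) (x : sec V (ModuleCat.of A M)),
      ∀ n, (secMap V (ModuleCat.ofHom (Formal2.quotPowπ A I M n))).hom x = res hV.1 _ (y n) := by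
  classical
  choose V hV t ht using fun a : G => h a.1 a.2
  let Mc := ModuleCat.of A M
  have key : ∀ i j : G, ∃ (W : (Spec (CommRingCat.of A)).Opens) (hW : Formal2.Admissible A I U W)
      (hi : W ≤ V i) (hj : W ≤ V j), i.1 • res hj Mc (t j) = j.1 • res hi Mc (t i) := fun i j => by
    have hadm : Formal2.Admissible A I U (V i ⊓ V j) :=
      ⟨inf_le_left.trans (hV i).1, fun r hr hrI => ⟨(hV i).2 r hr hrI, (hV j).2 r hr hrI⟩⟩
    let d := i.1 • res (inf_le_right : V i ⊓ V j ≤ V j) Mc (t j) - j.1 • res (inf_le_left : V i ⊓ V j ≤ V i) Mc (t i)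
    obtain ⟨W, hW, h0W⟩ := colim_injective I M U (V i ⊓ V j) hadm ((h0 _ Mc).symm d) fun n => by
      refine (h0 _ _).injective ?_
      rw [h0_map, AddEquiv.apply_symm_apply, map_zero, map_sub, map_smul, map_smul, ← secMap_res, ← secMap_res, ht, ht,
        map_smul, map_smul, res_res, res_res, smul_comm, sub_self]
    refine ⟨W, hW.1, hW.2.trans inf_le_left, hW.2.trans inf_le_right, sub_eq_zero.1 ?_⟩
    have h1 := congrArg (h0 W Mc) h0W
    rw [h0_res, AddEquiv.apply_symm_apply, map_zero, map_sub, map_smul, map_smul, res_res, res_res] at h1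
    exact h1
  choose W hW hWi hWj hWeq using key
  let ι := G × G
  let V₁ : (Spec (CommRingCat.of A)).Opens :=
    U ⊓ (Finset.univ : Finset ι).inf (fun p => W p.1 p.2)
  let J : Ideal A := Ideal.span (G : Set A)
  let V' : (Spec (CommRingCat.of A)).Opens := V₁ ⊓ LocCoh.puncturedOpen A J
  have hadm : Formal2.Admissible A I U V' := by
    refine ⟨inf_le_left.trans inf_le_left, fun r hr hrI => ⟨⟨hr, ?_⟩, fun hrJ => hr (hG r hrI fun a ha => hrJ
      (Ideal.subset_span ha))⟩⟩
    refine Finset.inf_induction (p := fun O : (Spec (CommRingCat.of A)).Opens => r ∈ O) trivial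
      (fun O h₁ O' h₂ => ⟨h₁, h₂⟩) fun p _ => (hW p.1 p.2).2 r hr hrI
  have hVW : ∀ i j : G, V' ≤ W i j := fun i j =>
    inf_le_left.trans (inf_le_right.trans (Finset.inf_le (f := fun p : ι => W p.1 p.2) (Finset.mem_univ (i, j))))
  have hVV : ∀ i : G, V' ≤ V i := fun i => (hVW i i).trans (hWi i i)
  let O : G → (Spec (CommRingCat.of A)).Opens := fun i => V' ⊓ D i.1
  choose s hs using fun i : G => exists_smul_eq_of_le_D (W := O i) (a := i.1) inf_le_right Mc
    (res (inf_le_left.trans (hVV i)) Mc (t i))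
  have hcov : V' ≤ ⨆ i, O i := fun r hr => by
    by_contra hc
    refine hr.2 fun a ha => ?_
    refine Ideal.span_le.2 (fun b hb => ?_) ha
    by_contra hbr
    exact hc (Opens.mem_iSup.2 ⟨⟨b, hb⟩, ⟨hr, hbr⟩⟩)
  let F := modulesSpecToSheaf.obj (tilde (R := CommRingCat.of A) Mc)
  obtain ⟨x, hx, -⟩ := F.existsUnique_gluing' O V' (fun i => homOfLE inf_le_left) hcov s fun i j => by
    change res inf_le_left Mc (s i) = res inf_le_right Mc (s j)
    refine smul_injective_of_le_D (a := i.1) (inf_le_left.trans inf_le_right) Mc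
      (smul_injective_of_le_D (a := j.1) (inf_le_right.trans inf_le_right) Mc ?_)
    rw [← map_smul, hs, smul_comm j.1 i.1, ← map_smul]
    conv_rhs => rw [← map_smul, hs]
    rw [map_smul, res_res, res_res]
    have h1 := congrArg (res (show O i ⊓ O j ≤ W i j from (inf_le_left.trans inf_le_left).trans (hVW i j)) Mc) (hWeq i j)
    rw [map_smul, map_smul, res_res, res_res] at h1
    exact h1.symm
  refine ⟨V', hadm, x, fun n => ?_⟩
  refine (modulesSpecToSheaf.obj (tilde (R := CommRingCat.of A) _)).eq_of_locally_eq' O V'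
    (fun i => homOfLE inf_le_left) hcov _ _ fun i => smul_injective_of_le_D (a := i.1) inf_le_right _ ?_
  change i.1 • res inf_le_left _ _ = i.1 • res inf_le_left _ _
  rw [secMap_res, show res (inf_le_left : O i ≤ V') Mc x = s i from hx i, ← map_smul, hs, ← secMap_res, ht, map_smul,
    res_res, res_res]

variable (M' M'' : Type u) [AddCommGroup M'] [Module A M'] [AddCommGroup M''] [Module A M''] [Module.Finite A M']
  (f : M' →ₗ[A] M) (g : M →ₗ[A] M'') (hf : Function.Injective f) (hg : Function.Surjective g)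
  (hfg : LinearMap.range f = LinearMap.ker g)

/-- the induced filtration -/
abbrev P (n : ℕ) : Submodule A M' := (I ^ (n + 1) • (⊤ : Submodule A M)).comap f

/-- the kernel of the levels -/
def φ (n : ℕ) : M' ⧸ P I M M' f n →ₗ[A] Formal2.quotPow A I M n :=
  (P I M M' f n).liftQ ((Formal2.quotPowπ A I M n).comp f) fun m hm => (Submodule.Quotient.mk_eq_zero _).2 hm

/-- functoriality of the levels -/
def lmap {N N' : Type u} [AddCommGroup N] [Module A N] [AddCommGroup N'] [Module A N'] (h : N →ₗ[A] N') (n : ℕ) :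
    Formal2.quotPow A I N n →ₗ[A] Formal2.quotPow A I N' n :=
  Submodule.mapQ _ _ h (Submodule.smul_le.2 fun a ha m _ => by
    rw [Submodule.mem_comap, map_smul]
    exact Submodule.smul_mem_smul ha trivial)

omit [IsNoetherianRing A] [Module.Finite A M] [Module.Finite A M'] in
theorem φ_injective (n : ℕ) : Function.Injective (φ I M M' f n) := (injective_iff_map_eq_zero _).2 fun x hx => by
  obtain ⟨m, rfl⟩ := Submodule.Quotient.mk_surjective _ x
  exact (Submodule.Quotient.mk_eq_zero _).2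
    (show f m ∈ I ^ (n + 1) • (⊤ : Submodule A M) from (Submodule.Quotient.mk_eq_zero (I ^ (n + 1) • (⊤ : Submodule A M))).1 hx)

/-- the sequence of the levels -/
abbrev seq (n : ℕ) : ShortComplex (ModuleCat.{u} A) :=
  ShortComplex.mk (ModuleCat.ofHom (φ I M M' f n)) (ModuleCat.ofHom (lmap I g n ∘ₗ LinearMap.id))
    (ModuleCat.hom_ext (LinearMap.ext fun x => by
      obtain ⟨m, rfl⟩ := Submodule.Quotient.mk_surjective _ x
      change Submodule.Quotient.mk (g (f m)) = (0 : Formal2.quotPow A I M'' n)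
      rw [show g (f m) = 0 from hfg.le (LinearMap.mem_range_self f m)]
      rfl))

include hg in
omit [IsNoetherianRing A] [Module.Finite A M] [Module.Finite A M'] in
theorem seq_shortExact (n : ℕ) : (seq I M M' M'' f g hfg n).ShortExact :=
  { exact := (ShortComplex.moduleCat_exact_iff _).2 fun x hx => by
      obtain ⟨m, rfl⟩ := Submodule.Quotient.mk_surjective _ x
      have h1 : g m ∈ (I ^ (n + 1) • (⊤ : Submodule A M)).map g := by
        rw [Submodule.map_smul'', Submodule.map_top, LinearMap.range_eq_top.2 hg]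
        exact (Submodule.Quotient.mk_eq_zero _).1 hx
      obtain ⟨i, hi, hgi⟩ := h1
      obtain ⟨m', hm'⟩ := hfg.ge (LinearMap.mem_ker.2 (show g (m - i) = 0 by rw [map_sub, hgi, sub_self]))
      refine ⟨Submodule.Quotient.mk m', ?_⟩
      change (Submodule.Quotient.mk (f m') : Formal2.quotPow A I M n) = Submodule.Quotient.mk m
      rw [Submodule.Quotient.eq, hm', sub_sub_cancel_left]
      exact neg_mem hi
    mono_f := (ModuleCat.mono_iff_injective _).2 (φ_injective I M M' f n)
    epi_g := (ModuleCat.epi_iff_surjective _).2 fun x => by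
      obtain ⟨m'', rfl⟩ := Submodule.Quotient.mk_surjective _ x
      obtain ⟨m, rfl⟩ := hg m''
      exact ⟨Submodule.Quotient.mk m, rfl⟩ }

include hf in
omit [Module.Finite A M'] in
theorem exists_shift : ∃ c : ℕ, ∀ n, P I M M' f (c + n) ≤ I ^ (n + 1) • (⊤ : Submodule A M') := by
  obtain ⟨k, hk⟩ := Ideal.exists_pow_inf_eq_pow_smul I (LinearMap.range f)
  refine ⟨k, fun n m hm => ?_⟩
  have h1 : f m ∈ I ^ (k + n + 1) • (⊤ : Submodule A M) ⊓ LinearMap.range f := ⟨hm, LinearMap.mem_range_self f m⟩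
  rw [hk (k + n + 1) (by omega), show k + n + 1 - k = n + 1 by omega] at h1
  have h2 : f m ∈ (I ^ (n + 1) • (⊤ : Submodule A M')).map f := by
    rw [Submodule.map_smul'', Submodule.map_top]
    exact Submodule.smul_mono le_rfl inf_le_right h1
  obtain ⟨m', hm', hfm⟩ := h2
  exact hf hfm ▸ hm'

omit [IsNoetherianRing A] [Module.Finite A M] in
theorem lmap_trans {N N' : Type u} [AddCommGroup N] [Module A N] [AddCommGroup N'] [Module A N'] (h : N →ₗ[A] N') (n : ℕ) :
    ModuleCat.ofHom (lmap I h (n + 1)) ≫ ModuleCat.ofHom (Formal2.quotPowTrans A I N' n) =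
      ModuleCat.ofHom (Formal2.quotPowTrans A I N n) ≫ ModuleCat.ofHom (lmap I h n) :=
  ModuleCat.hom_ext (LinearMap.ext fun z => by
    obtain ⟨m, rfl⟩ := Submodule.Quotient.mk_surjective _ z
    rfl)

/-- iterated transition -/
abbrev fac {n l : ℕ} (h : n ≤ l) : ModuleCat.of A (Formal2.quotPow A I M l) ⟶ ModuleCat.of A (Formal2.quotPow A I M n) :=
  ModuleCat.ofHom (Submodule.factor
    (Submodule.smul_mono_left (N := (⊤ : Submodule A M)) (Ideal.pow_le_pow_right (I := I) (Nat.succ_le_succ h))))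

omit [IsNoetherianRing A] [Module.Finite A M] in
theorem fac_mk {n l : ℕ} (h : n ≤ l) (m : M) :
    (fac I M h).hom (Formal2.quotPowπ A I M l m) = Formal2.quotPowπ A I M n m := by
  simp [fac, Submodule.factor]

omit [IsNoetherianRing A] [Module.Finite A M] in
theorem trans_mk (n : ℕ) (m : M) :
    Formal2.quotPowTrans A I M n (Formal2.quotPowπ A I M (n + 1) m) = Formal2.quotPowπ A I M n m := by
  simp [Formal2.quotPowTrans]

omit [IsNoetherianRing A] [Module.Finite A M] in
theorem fac_refl (n : ℕ) : fac I M (le_refl n) = 𝟙 (ModuleCat.of A (Formal2.quotPow A I M n)) :=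
  ModuleCat.hom_ext (LinearMap.ext fun z => by
    obtain ⟨m, rfl⟩ := Submodule.mkQ_surjective _ z
    exact fac_mk I M _ m)

omit [IsNoetherianRing A] [Module.Finite A M] in
theorem trans_fac {n l : ℕ} (h : n ≤ l) :
    ModuleCat.ofHom (Formal2.quotPowTrans A I M l) ≫ fac I M h = fac I M (h.trans (Nat.le_succ l)) :=
  ModuleCat.hom_ext (LinearMap.ext fun z => by
    obtain ⟨m, rfl⟩ := Submodule.mkQ_surjective _ z
    change (fac I M h).hom (Formal2.quotPowTrans A I M l (Formal2.quotPowπ A I M (l + 1) m)) = _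
    rw [trans_mk, fac_mk]
    exact (fac_mk I M (h.trans (Nat.le_succ l)) m).symm)

omit [IsNoetherianRing A] [Module.Finite A M] in
theorem secMap_id (V : (Spec (CommRingCat.of A)).Opens) (N : ModuleCat.{u} A) (x : sec V N) :
    (secMap V (𝟙 N)).hom x = x := by
  obtain ⟨v, rfl⟩ := (h0 V N).surjective x
  rw [← h0_hm, hm_apply, CategoryTheory.Functor.map_id, Abelian.Ext.comp_mk₀_id]

omit [IsNoetherianRing A] [Module.Finite A M] in
theorem fac_compat (u : ∀ n, sec U (ModuleCat.of A (Formal2.quotPow A I M n)))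
    (hu : ∀ n, (secMap U (ModuleCat.ofHom (Formal2.quotPowTrans A I M n))).hom (u (n + 1)) = u n) {n l : ℕ} (hl : n ≤ l) :
    (secMap U (fac I M hl)).hom (u l) = u n := by
  induction l, hl using Nat.le_induction with
  | base => rw [fac_refl, secMap_id]
  | succ l hl ih =>
    refine Eq.trans ?_ ih
    rw [← hu l, secMap_secMap, trans_fac I M hl]

omit [IsNoetherianRing A] [Module.Finite A M] [Module.Finite A M'] in
theorem φ_trans (k : ℕ) (h : P I M M' f (k + 1) ≤ P I M M' f k) :
    ModuleCat.ofHom (Submodule.factor h) ≫ ModuleCat.ofHom (φ I M M' f k) =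
      ModuleCat.ofHom (φ I M M' f (k + 1)) ≫ ModuleCat.ofHom (Formal2.quotPowTrans A I M k) :=
  ModuleCat.hom_ext (LinearMap.ext fun z => by
    obtain ⟨z, rfl⟩ := Submodule.Quotient.mk_surjective _ z
    rfl)

omit [IsNoetherianRing A] [Module.Finite A M] [Module.Finite A M'] in
theorem factor_trans (c n : ℕ) (hP : P I M M' f (c + n + 1) ≤ P I M M' f (c + n))
    (h₁ : P I M M' f (c + (n + 1)) ≤ I ^ (n + 1 + 1) • (⊤ : Submodule A M'))
    (h₀ : P I M M' f (c + n) ≤ I ^ (n + 1) • (⊤ : Submodule A M')) :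
    ModuleCat.ofHom (Submodule.factor h₁) ≫ ModuleCat.ofHom (Formal2.quotPowTrans A I M' n) =
      ModuleCat.ofHom (Submodule.factor hP) ≫ ModuleCat.ofHom (Submodule.factor h₀) :=
  ModuleCat.hom_ext (LinearMap.ext fun z => by
    obtain ⟨z, rfl⟩ := Submodule.Quotient.mk_surjective _ z
    rfl)

omit [IsNoetherianRing A] [Module.Finite A M] [Module.Finite A M'] in
theorem factor_lmap (c n : ℕ) (h₀ : P I M M' f (c + n) ≤ I ^ (n + 1) • (⊤ : Submodule A M')) :
    ModuleCat.ofHom (Submodule.factor h₀) ≫ ModuleCat.ofHom (lmap I f n) =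
      ModuleCat.ofHom (φ I M M' f (c + n)) ≫ fac I M (Nat.le_add_left n c) :=
  ModuleCat.hom_ext (LinearMap.ext fun z => by
    obtain ⟨z, rfl⟩ := Submodule.Quotient.mk_surjective _ z
    rfl)

include hf hg hfg in
omit [Module.Finite A M'] in
/-- a compatible family dying in the quotient comes from the submodule -/
theorem exists_family (u : ∀ n, sec U (ModuleCat.of A (Formal2.quotPow A I M n)))
    (hu : ∀ n, (secMap U (ModuleCat.ofHom (Formal2.quotPowTrans A I M n))).hom (u (n + 1)) = u n)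
    (hu0 : ∀ n, (secMap U (ModuleCat.ofHom (lmap I g n))).hom (u n) = 0) :
    ∃ z : ∀ n, sec U (ModuleCat.of A (Formal2.quotPow A I M' n)),
      (∀ n, (secMap U (ModuleCat.ofHom (Formal2.quotPowTrans A I M' n))).hom (z (n + 1)) = z n) ∧
      ∀ n, (secMap U (ModuleCat.ofHom (lmap I f n))).hom (z n) = u n := by
  have hS := fun n => seq_shortExact I M M' M'' f g hg hfg n
  have hw : ∀ n, ∃ w : sec U (ModuleCat.of A (M' ⧸ P I M M' f n)),
      (secMap U (ModuleCat.ofHom (φ I M M' f n))).hom w = u n := fun n => by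
    obtain ⟨w, hw⟩ := exists_of_hm_g_eq_zero U (hS n) 0 ((h0 U _).symm (u n))
      ((h0 U _).injective (by rw [h0_hm, AddEquiv.apply_symm_apply, map_zero]; exact hu0 n))
    exact ⟨h0 U _ w, by rw [← h0_hm]; exact (congrArg _ hw).trans (AddEquiv.apply_symm_apply _ _)⟩
  choose w hw using hw
  have hP : ∀ k, P I M M' f (k + 1) ≤ P I M M' f k := fun k =>
    Submodule.comap_mono (Submodule.smul_mono_left (Ideal.pow_le_pow_right (Nat.le_succ (k + 1))))
  have hτ : ∀ k, (secMap U (ModuleCat.ofHom (Submodule.factor (hP k)))).hom (w (k + 1)) = w k := fun k => by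
    haveI : Mono (ModuleCat.ofHom (φ I M M' f k)) := (hS k).mono_f
    refine secMap_injective (ModuleCat.ofHom (φ I M M' f k)) U ?_
    rw [secMap_secMap, φ_trans, ← secMap_secMap, hw, hu, hw]
  obtain ⟨c, hc⟩ := exists_shift I M M' f hf
  refine ⟨fun n => (secMap U (ModuleCat.ofHom (Submodule.factor (hc n)))).hom (w (c + n)), fun n => ?_, fun n => ?_⟩
  · rw [secMap_secMap, factor_trans I M M' f c n (hP (c + n)) (hc (n + 1)) (hc n), ← secMap_secMap]
    exact congrArg _ (hτ (c + n))
  · rw [secMap_secMap, factor_lmap, ← secMap_secMap, hw]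
    exact fac_compat I 𝔞 M u hu (Nat.le_add_left n c)

omit [Module.Finite A M] in
/-- multiples of a section near `V(I)` come from the module -/
theorem exists_multiples (J₁ : Ideal A) (hJ : ∀ q : PrimeSpectrum A, I ≤ q.asIdeal → J₁ ≤ q.asIdeal → 𝔞 ≤ q.asIdeal)
    (s : sec (LocCoh.puncturedOpen A J₁) (ModuleCat.of A M)) :
    ∃ G : Finset A, (∀ q : PrimeSpectrum A, I ≤ q.asIdeal → (∀ a ∈ G, a ∈ q.asIdeal) → 𝔞 ≤ q.asIdeal) ∧
      ∀ a ∈ G, ∃ m : M, a • s =
        (tilde.toOpen (R := CommRingCat.of A) (ModuleCat.of A M) (LocCoh.puncturedOpen A J₁)).hom m := by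
  obtain ⟨-, ⟨c⟩⟩ := Groth.L04.Koszul.Cech.exists_toOpen_punctured J₁ (ModuleCat.of A M)
  obtain ⟨N, hN⟩ := Groth.L04.LC.isPowerTorsion_H J₁ 1 (ModuleCat.of A M) (c (Submodule.Quotient.mk s))
  obtain ⟨G, hG⟩ := (isNoetherianRing_iff_ideal_fg A).1 inferInstance (J₁ ^ N)
  refine ⟨G, fun q hqI hq => hJ q hqI (q.2.le_of_pow_le (n := N) (hG ▸ Ideal.span_le.2 hq)), fun a ha => ?_⟩
  have h1 : (Submodule.Quotient.mk (a • s) : _ ⧸ LinearMap.range
      (tilde.toOpen (R := CommRingCat.of A) (ModuleCat.of A M) (LocCoh.puncturedOpen A J₁)).hom) = 0 := by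
    refine c.injective ?_
    rw [Submodule.Quotient.mk_smul, map_smul, hN a (hG ▸ Ideal.subset_span ha), map_zero]
  obtain ⟨m, hm⟩ := (Submodule.Quotient.mk_eq_zero _).1 h1
  exact ⟨m, hm.symm⟩

omit [IsNoetherianRing A] [Module.Finite A M] in
theorem secMap_π_toOpen (V : (Spec (CommRingCat.of A)).Opens) (n : ℕ) (m : M) :
    (secMap V (ModuleCat.ofHom (Formal2.quotPowTrans A I M n))).hom
      ((tilde.toOpen (R := CommRingCat.of A) (ModuleCat.of A (Formal2.quotPow A I M (n + 1))) V).hom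
        (Formal2.quotPowπ A I M (n + 1) m)) =
      (tilde.toOpen (R := CommRingCat.of A) (ModuleCat.of A (Formal2.quotPow A I M n)) V).hom
        (Formal2.quotPowπ A I M n m) :=
  (secMap_toOpen V _ _).trans (congrArg _ rfl)

include hf hg hfg in
/-- The middle term. -/
theorem colimBijective (h' : Formal2.FormalCohColimBijective A I M' 0 U)
    (h'' : Formal2.FormalCohColimBijective A I M'' 0 U) : Formal2.FormalCohColimBijective A I M 0 U := by
  refine ⟨colim_injective I M _, fun y hy => ?_⟩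
  let ys : ∀ n, sec U (ModuleCat.of A (Formal2.quotPow A I M n)) := fun n => h0 U _ (y n)
  have hys : ∀ n, (secMap U (ModuleCat.ofHom (Formal2.quotPowTrans A I M n))).hom (ys (n + 1)) = ys n := fun n => by
    rw [← h0_map, hy]
  suffices h : ∃ (V : (Spec (CommRingCat.of A)).Opens) (hV : Formal2.Admissible A I U V) (x : sec V (ModuleCat.of A M)),
      ∀ n, (secMap V (ModuleCat.ofHom (Formal2.quotPowπ A I M n))).hom x = res hV.1 _ (ys n) by
    obtain ⟨V, hV, x, hx⟩ := h
    refine ⟨V, hV, (h0 V _).symm x, fun n => (h0 V _).injective ?_⟩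
    rw [h0_res, h0_map, AddEquiv.apply_symm_apply, hx]
  let y'' : ∀ n, Formal2.HV A (Formal2.quotPow A I M'' n) 0 U := fun n =>
    (h0 U (ModuleCat.of A (Formal2.quotPow A I M'' n))).symm ((secMap U (ModuleCat.ofHom (lmap I g n))).hom (ys n))
  obtain ⟨V, hV, x'', hx''⟩ := h''.2 y'' fun n => by
    refine (h0 U _).injective ?_
    refine (h0_map (Formal2.quotPowTrans A I M'' n) _).trans ?_
    refine (congrArg _ (AddEquiv.apply_symm_apply _ _)).trans (Eq.trans ?_ (AddEquiv.apply_symm_apply _ _).symm)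
    exact (secMap_secMap _ _ _ _).trans ((congrArg (fun e => (secMap U e).hom (ys (n + 1))) (lmap_trans I g n)).trans
      ((secMap_secMap _ _ _ _).symm.trans (congrArg _ (hys n))))
  obtain ⟨J₁, rfl⟩ := exists_eq_punctured V
  obtain ⟨G, hG, hlift⟩ := exists_multiples I 𝔞 M'' J₁
    (fun q hqI hq => by_contra fun hqa => hV.2 q hqa hqI hq) (h0 _ (ModuleCat.of A M'') x'')
  refine glue I 𝔞 M G hG ys fun a ha => ?_
  obtain ⟨m'', hm''⟩ := hlift a ha
  obtain ⟨m, rfl⟩ := hg m''
  let u : ∀ n, sec U (ModuleCat.of A (Formal2.quotPow A I M n)) := fun n =>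
    a • ys n - (tilde.toOpen (R := CommRingCat.of A) _ U).hom (Formal2.quotPowπ A I M n m)
  have hu : ∀ n, (secMap U (ModuleCat.ofHom (Formal2.quotPowTrans A I M n))).hom (u (n + 1)) = u n := fun n => by
    rw [map_sub, map_smul, hys, secMap_π_toOpen]
  have hu0 : ∀ n, (secMap U (ModuleCat.ofHom (lmap I g n))).hom (u n) = 0 := fun n => by
    refine eq_of_res_eq I hV.1 (fun r hr hrI => hV.2 r hr hrI) (isPowerTorsion_quotPow I M'' n) ?_
    have h1 : res hV.1 (ModuleCat.of A (Formal2.quotPow A I M'' n)) ((secMap U (ModuleCat.ofHom (lmap I g n))).hom (ys n)) =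
        (secMap _ (ModuleCat.ofHom (Formal2.quotPowπ A I M'' n))).hom (h0 _ _ x'') := by
      have h1' := congrArg (h0 _ _) (hx'' n)
      rw [h0_res, AddEquiv.apply_symm_apply, h0_map] at h1'
      exact h1'
    rw [map_zero, map_sub, map_smul, secMap_toOpen, map_sub, map_smul, res_toOpen, h1, ← map_smul, hm'',
      secMap_toOpen, sub_eq_zero]
    rfl
  obtain ⟨z, hz, hzu⟩ := exists_family I 𝔞 M M' M'' f g hf hg hfg u hu hu0
  obtain ⟨V', hV', x', hx'⟩ := h'.2
    (fun n => (h0 U (ModuleCat.of A (Formal2.quotPow A I M' n))).symm (z n)) fun n => by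
    refine (h0 U _).injective ?_
    rw [h0_map, AddEquiv.apply_symm_apply, AddEquiv.apply_symm_apply, hz]
  refine ⟨V', hV', (secMap V' (ModuleCat.ofHom f)).hom (h0 V' _ x') +
    (tilde.toOpen (R := CommRingCat.of A) (ModuleCat.of A M) V').hom m, fun n => ?_⟩
  have h2 : (secMap V' (ModuleCat.ofHom (Formal2.quotPowπ A I M' n))).hom (h0 V' _ x') = res hV'.1 _ (z n) := by
    rw [← h0_map, ← hx' n, h0_res, AddEquiv.apply_symm_apply]
  rw [map_add, secMap_secMap, show ModuleCat.ofHom f ≫ ModuleCat.ofHom (Formal2.quotPowπ A I M n) =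
      ModuleCat.ofHom (Formal2.quotPowπ A I M' n) ≫ ModuleCat.ofHom (lmap I f n) from rfl,
    ← secMap_secMap, h2, ← secMap_res, hzu, secMap_toOpen, map_sub, map_smul, res_toOpen]
  exact sub_add_cancel _ _

end Groth.L29.Extension
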