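import Groth.Agent.L29.Formal.GradedStalks

/-!
Splitting of the monomial maps from a free basis of a graded piece.
-/

set_option autoImplicit false
set_option backward.isDefEq.respectTransparency false
set_option backward.isDefEq.respectTransparency.types false
set_option linter.style.haveILetI false

universe u

open CategoryTheory CategoryTheory.Limits AlgebraicGeometry TopologicalSpace Opposite

noncomputable section

namespace Groth.L29.Graded

open _root_.Formal (smulMod)
open Groth.L16 Groth.L16.Existence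
open _root_.Algz (toStalk stalkIdeal stalkMapₗ)

variable {A : Type u} [CommRing A] {X : Scheme.{u}} [X.Over (Spec (CommRingCat.of A))]
  {I : Ideal A} {G : ℕᵒᵖ ⥤ X.Modules} (hG : _root_.Formal.IsCohFormal I G)

/-- the map of chosen elements -/
def Qb {N : ℕ} (n : ℕ) (b : Fin N → A) (hb : ∀ j, b j ∈ I ^ (n + 1)) : (⨁ fun _ : Fin N => G.obj (op 0)) ⟶ K G n :=
  biproduct.desc fun j => μ hG n (b j) (hb j)

theorem Qb_tr {N : ℕ} (n : ℕ) (b : Fin N → A) (hb : ∀ j, b j ∈ I ^ (n + 1)) (y : X)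
    (m : Fin N → (G.obj (op (n + 1))).presheaf.stalk y) :
    stalkMapₗ (kernel.ι (tr G n (n + 1) (Nat.le_succ n))) y (stalkMapₗ (Qb hG n b hb) y
      (∑ j, stalkMapₗ (biproduct.ι (fun _ : Fin N => G.obj (op 0)) j) y
        (stalkMapₗ (tr G 0 (n + 1) (Nat.zero_le _)) y (m j)))) = ∑ j, toStalk A X y (b j) • m j := by
  rw [map_sum, map_sum]
  refine Finset.sum_congr rfl fun j _ => ?_
  rw [← stalkMapₗ_comp (biproduct.ι _ j) (Qb hG n b hb), Qb, biproduct.ι_desc, stalk_μ]

variable {r : ℕ} (a : Fin r → A) (hI : I = Ideal.span (Set.range a))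

include hG hI in
theorem isIso_Qb {N : ℕ} (n : ℕ) (b : Fin N → A) (hb : ∀ j, b j ∈ I ^ (n + 1))
    (hspan : ∀ y : X, stalkIdeal I y ^ (n + 1) ≤
      Ideal.span (Set.range fun j => toStalk A X y (b j)) ⊔ stalkIdeal I y ^ (n + 2))
    (hrel : ∀ (y : X) (m : Fin N → (G.obj (op (n + 1))).presheaf.stalk y), ∑ j, toStalk A X y (b j) • m j = 0 →
      ∀ j, m j ∈ stalkIdeal I y • (⊤ : Submodule (X.presheaf.stalk y) ((G.obj (op (n + 1))).presheaf.stalk y))) :
    IsIso (Qb hG n b hb) := by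
  classical
  have hι : ∀ y, Function.Injective (stalkMapₗ (kernel.ι (tr G n (n + 1) (Nat.le_succ n))) y) := fun y =>
    (Groth.L21.Mod.mono_iff_stalk_injective _).1 inferInstance y
  haveI : Mono (Qb hG n b hb) := (Groth.L21.Mod.mono_iff_stalk_injective _).2 fun y => by
    refine (injective_iff_map_eq_zero _).2 fun z hz => ?_
    choose m hm using fun j => surjective_stalk_tr hG (Nat.zero_le (n + 1)) y
      (stalkMapₗ (biproduct.π (fun _ : Fin N => G.obj (op 0)) j) y z)
    have hzm : z = ∑ j, stalkMapₗ (biproduct.ι (fun _ : Fin N => G.obj (op 0)) j) y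
        (stalkMapₗ (tr G 0 (n + 1) (Nat.zero_le _)) y (m j)) :=
      (stalk_biproduct _ y z).trans (Finset.sum_congr rfl fun j _ => by rw [hm j])
    subst hzm
    have h0 : ∑ j, toStalk A X y (b j) • m j = 0 := by
      rw [← Qb_tr hG n b hb y m]
      exact (congrArg _ (show stalkMapₗ (Qb hG n b hb) y _ = 0 from hz)).trans (map_zero _)
    refine Finset.sum_eq_zero fun j _ => ?_
    suffices h : stalkMapₗ (tr G 0 (n + 1) (Nat.zero_le _)) y (m j) = 0 by rw [h, map_zero]
    refine Submodule.smul_induction_on (hrel y m h0 j) (fun c hc v _ => ?_) fun p q hp hq => by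
      rw [map_add, hp, hq, add_zero]
    rw [map_smul]
    exact smul_stalk_eq_zero hG 0 y (by rwa [zero_add, pow_one]) _
  haveI : Epi (Qb hG n b hb) := (Groth.L21.Mod.epi_iff_stalk_surjective _).2 fun y k => by
    have hk : stalkMapₗ (tr G n (n + 1) (Nat.le_succ n)) y
        (stalkMapₗ (kernel.ι (tr G n (n + 1) (Nat.le_succ n))) y k) = 0 := by
      rw [← stalkMapₗ_comp, kernel.condition, stalkMapₗ_zero]
    obtain ⟨m, hm⟩ : ∃ m : Fin N → (G.obj (op (n + 1))).presheaf.stalk y,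
        ∑ j, toStalk A X y (b j) • m j = stalkMapₗ (kernel.ι _) y k := by
      refine Submodule.smul_induction_on (exists_of_stalk_tr_eq_zero hG a hI n y _ hk) (fun c hc v _ => ?_)
        fun p q ⟨m, hm⟩ ⟨m', hm'⟩ => ⟨m + m', by simp [Finset.sum_add_distrib, smul_add, hm, hm']⟩
      obtain ⟨c₁, hc₁, c₂, hc₂, rfl⟩ := Submodule.mem_sup.1 (hspan y hc)
      obtain ⟨l, hl⟩ := (Ideal.mem_span_range_iff_exists_fun).1 hc₁
      refine ⟨fun j => l j • v, ?_⟩
      rw [add_smul, smul_stalk_eq_zero hG (n + 1) y hc₂ v, add_zero, ← hl, Finset.sum_smul]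
      exact Finset.sum_congr rfl fun j _ => by rw [smul_smul, mul_comm]
    exact ⟨∑ j, stalkMapₗ (biproduct.ι (fun _ : Fin N => G.obj (op 0)) j) y
      (stalkMapₗ (tr G 0 (n + 1) (Nat.zero_le _)) y (m j)), hι y ((Qb_tr hG n b hb y m).trans hm)⟩
  exact isIso_of_mono_of_epi _

include hG hI in
/-- multiplication by an element of a power of the ideal is a combination of monomials -/
theorem exists_μ_eq (n : ℕ) (x : A) (hx : x ∈ I ^ (n + 1)) :
    ∃ l : Sn r n → A, μ hG n x hx = ∑ e, smulMod A (G.obj (op 0)) (l e) ≫ μe hG a hI n e := by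
  classical
  obtain ⟨l, hl⟩ : ∃ l : Sn r n → A, ∑ e, l e * aE a e.1 = x := by
    have h1 := pow_le_span a hI (n + 1) hx
    rw [show {z | ∃ e : Fin r →₀ ℕ, e.degree = n + 1 ∧ aE a e = z} = Set.range fun e : Sn r n => aE a e.1 from
      Set.ext fun z => ⟨fun ⟨e, he, h⟩ => ⟨⟨e, he⟩, h⟩, fun ⟨e, h⟩ => ⟨e.1, e.2, h⟩⟩] at h1
    exact Ideal.mem_span_range_iff_exists_fun.1 h1
  refine ⟨l, ?_⟩
  haveI := epi_tr hG (Nat.zero_le (n + 1))
  rw [← cancel_mono (kernel.ι _), μ, kernel.lift_ι, Preadditive.sum_comp,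
    ← cancel_epi (tr G 0 (n + 1) (Nat.zero_le _)), tr_mul, Preadditive.comp_sum]
  have h : ∀ e, tr G 0 (n + 1) (Nat.zero_le _) ≫ (smulMod A (G.obj (op 0)) (l e) ≫ μe hG a hI n e) ≫ kernel.ι _ =
      smulMod A (G.obj (op (n + 1))) (l e * aE a e.1) := fun e => by
    rw [Category.assoc, μe, μ, kernel.lift_ι, ← Category.assoc, ← Rees.smulMod_naturality, Category.assoc, tr_mul,
      ← Rees.smulMod_mul, mul_comm]
  rw [Finset.sum_congr rfl fun e _ => h e, ← hl]
  exact map_sum (AddMonoidHom.mk' (fun c => smulMod A (G.obj (op (n + 1))) c) fun c c' =>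
    HomSh.smulMod_add _ c c') _ _

include hG hI in
/-- the monomial maps split when every graded piece has a basis -/
theorem split_of_isIso (h : ∀ n, ∃ (N : ℕ) (b : Fin N → A) (hb : ∀ j, b j ∈ I ^ (n + 1)), IsIso (Qb hG n b hb)) :
    Split hG a hI := by
  classical
  intro n
  obtain ⟨N, b, hb, hiso⟩ := h n
  choose l hl using fun j => exists_μ_eq hG a hI n (b j) (hb j)
  refine ⟨fun e => ∑ j, inv (Qb hG n b hb) ≫ biproduct.π (fun _ : Fin N => G.obj (op 0)) j ≫
    smulMod A (G.obj (op 0)) (l j e), ?_⟩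
  simp only [Preadditive.sum_comp, Category.assoc]
  rw [Finset.sum_comm]
  simp only [← Preadditive.comp_sum]
  simp only [← hl]
  rw [show ∑ j, biproduct.π (fun _ : Fin N => G.obj (op 0)) j ≫ μ hG n (b j) (hb j) = Qb hG n b hb from by
    rw [Qb, biproduct.desc_eq], IsIso.inv_hom_id]

end Groth.L29.Graded
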