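import Groth.Agent.L29.Formal.RegularHatStalk
import Groth.Agent.L29.Formal.GradedIso
import Mathlib.RingTheory.Flat.EquationalCriterion
import Mathlib.RingTheory.Finiteness.Nakayama

/-!
Graded pieces of a formal module with completed stalks flat over a local ring.
-/

set_option autoImplicit false
set_option backward.isDefEq.respectTransparency false
set_option backward.isDefEq.respectTransparency.types false
set_option linter.style.haveILetI false

universe u

open CategoryTheory CategoryTheory.Limits AlgebraicGeometry TopologicalSpace Opposite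

noncomputable section

namespace Groth.L29.FlatHat

open Groth.L16 Groth.L16.Existence
open Groth.L29.Graded Groth.L29.RegHat
open _root_.Algz (toStalk stalkIdeal stalkMapₗ hatStalk hatRing hatTrans)
open IsLocalRing (maximalIdeal)

/-- generators of a power of the maximal ideal which are independent modulo the next power -/
theorem exists_basis (R : Type u) [CommRing R] [IsNoetherianRing R] [IsLocalRing R] (k : ℕ) :
    ∃ (N : ℕ) (b : Fin N → R), Ideal.span (Set.range b) = maximalIdeal R ^ k ∧
      ∀ c : Fin N → R, ∑ j, c j * b j ∈ maximalIdeal R ^ (k + 1) → ∀ j, c j ∈ maximalIdeal R := by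
  classical
  obtain ⟨T, hT, hmin⟩ : ∃ T : Finset R, Ideal.span (T : Set R) = maximalIdeal R ^ k ∧
      ∀ T' : Finset R, Ideal.span (T' : Set R) = maximalIdeal R ^ k → T.card ≤ T'.card := by
    obtain ⟨T₀, hT₀⟩ : (maximalIdeal R ^ k).FG := IsNoetherian.noetherian _
    have hex : ∃ n, ∃ T : Finset R, Ideal.span (T : Set R) = maximalIdeal R ^ k ∧ T.card = n := ⟨_, T₀, hT₀, rfl⟩
    obtain ⟨T, hT, hc⟩ := Nat.find_spec hex
    exact ⟨T, hT, fun T' hT' => hc.trans_le (Nat.find_min' hex ⟨T', hT', rfl⟩)⟩
  refine ⟨T.card, fun j => T.equivFin.symm j, ?_, fun c hc j => ?_⟩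
  · rw [← hT]
    congr 1
    ext x
    exact ⟨fun ⟨j, hj⟩ => hj ▸ (T.equivFin.symm j).2, fun hx => ⟨T.equivFin ⟨x, hx⟩, by simp⟩⟩
  by_contra hcj
  rw [IsLocalRing.mem_maximalIdeal, mem_nonunits_iff, not_not] at hcj
  let t : T := T.equivFin.symm j
  let J : Ideal R := Ideal.span ((T.erase t.1 : Finset R) : Set R)
  have ht : (t.1 : R) ∈ J ⊔ maximalIdeal R ^ (k + 1) := by
    rw [← Finset.add_sum_erase _ _ (Finset.mem_univ j)] at hc
    have h2 : ∑ i ∈ Finset.univ.erase j, c i * (T.equivFin.symm i).1 ∈ J := Ideal.sum_mem _ fun i hi =>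
      Ideal.mul_mem_left _ _ (Ideal.subset_span (Finset.mem_erase.2
        ⟨fun h => (Finset.mem_erase.1 hi).1 (T.equivFin.symm.injective (Subtype.ext h)), (T.equivFin.symm i).2⟩))
    have h3 : c j * t.1 ∈ J ⊔ maximalIdeal R ^ (k + 1) := by
      have := sub_mem (Submodule.mem_sup_right hc) (Submodule.mem_sup_left h2 : _ ∈ J ⊔ maximalIdeal R ^ (k + 1))
      rwa [add_sub_cancel_right] at this
    obtain ⟨u, hu⟩ := hcj
    have := Ideal.mul_mem_left _ (↑u⁻¹ : R) h3
    rwa [← hu, Units.inv_mul_cancel_left] at this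
  have hle : maximalIdeal R ^ k ≤ J ⊔ maximalIdeal R • maximalIdeal R ^ k := by
    rw [smul_eq_mul, ← pow_succ']
    conv_lhs => rw [← hT]
    refine Ideal.span_le.2 fun x hx => ?_
    by_cases h : x = t.1
    · exact h ▸ ht
    · exact Submodule.mem_sup_left (Ideal.subset_span (Finset.mem_erase.2 ⟨h, hx⟩))
  have hJ : J = maximalIdeal R ^ k := le_antisymm
    (hT ▸ Ideal.span_mono (Finset.erase_subset _ _))
    (Submodule.le_of_le_smul_of_le_jacobson_bot (IsNoetherian.noetherian _)
      (IsLocalRing.maximalIdeal_le_jacobson ⊥) hle)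
  exact (Finset.card_erase_lt_of_mem t.2).not_ge (hmin _ hJ)

variable {A : Type u} [CommRing A] {X : Scheme.{u}} [X.Over (Spec (CommRingCat.of A))] [IsLocallyNoetherian X]
  {I : Ideal A} {G : ℕᵒᵖ ⥤ X.Modules} (hG : _root_.Formal.IsCohFormal I G)
  {r : ℕ} (a : Fin r → A) (hI : I = Ideal.span (Set.range a)) (y : X)
  {R : Type u} [CommRing R] [IsLocalRing R] (φ : R →+* A)
  (hφ : I = Ideal.map φ (maximalIdeal R))

include hG hI hφ in
/-- coefficients of a relation among independent elements lie in the ideal -/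
theorem mem_smul_top_of_relation
    (hflat : @Module.Flat R ↥(hatStalk I G y) _ _ (Module.compHom ↥(hatStalk I G y)
        ((algebraMap (X.presheaf.stalk y) (hatRing I y)).comp ((toStalk A X y).comp φ))))
    (n N : ℕ) (b : Fin N → R) (hb : ∀ c : Fin N → R, ∑ j, c j * b j ∈ maximalIdeal R ^ (n + 2) → ∀ j, c j ∈ maximalIdeal R)
    (m : Fin N → (G.obj (op (n + 1))).presheaf.stalk y) (hm : ∑ j, toStalk A X y (φ (b j)) • m j = 0) (j : Fin N) :
    m j ∈ stalkIdeal I y • (⊤ : Submodule (X.presheaf.stalk y) ((G.obj (op (n + 1))).presheaf.stalk y)) := by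
  classical
  let ψ : R →+* X.presheaf.stalk y := (toStalk A X y).comp φ
  letI : Module R ↥(hatStalk I G y) := Module.compHom ↥(hatStalk I G y)
        ((algebraMap (X.presheaf.stalk y) (hatRing I y)).comp ψ)
  haveI : Module.Flat R ↥(hatStalk I G y) := hflat
  have hsm : ∀ (t : R) (h : hatStalk I G y), t • h = ψ t • h := fun t h => algebraMap_smul (hatRing I y) (ψ t) h
  have hJ : ∀ k, stalkIdeal I y ^ k = (maximalIdeal R ^ k).map ψ := fun k => by
    rw [Ideal.map_pow, stalkIdeal, hφ, Ideal.map_map]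
  choose x hx using fun i => surjective_π hG y (n + 1) (m i)
  have hz := ker_π_le hG a hI y (n + 1) (∑ i, ψ (b i) • x i) (by
    rw [map_sum]
    simp only [map_smul, hx]
    exact hm)
  have hz' : ∑ i, b i • toHat I G y (x i) ∈
      stalkIdeal I y ^ (n + 2) • (⊤ : Submodule (X.presheaf.stalk y) (hatStalk I G y)) := by
    have h := Submodule.smul_mono le_rfl le_top ((Submodule.map_smul'' _ _ (toHat I G y)).le ⟨_, hz, rfl⟩)
    rw [map_sum] at h
    simp only [map_smul] at h
    simp only [hsm]
    exact h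
  obtain ⟨L, c, hc, z, hcz⟩ : ∃ (L : ℕ) (c : Fin L → R), (∀ l, c l ∈ maximalIdeal R ^ (n + 2)) ∧
      ∃ z : Fin L → hatStalk I G y, ∑ l, c l • z l = ∑ i, b i • toHat I G y (x i) := by
    refine Submodule.smul_induction_on hz' (fun t ht v _ => ?_) fun p q ⟨L, c, hc, z, hz⟩ ⟨L', c', hc', z', hz'⟩ =>
      ⟨L + L', Fin.append c c', fun l => ?_, Fin.append z z', by simp [Fin.sum_univ_add, hz, hz']⟩
    · rw [hJ] at ht
      induction ht using Submodule.span_induction generalizing v with
      | mem t ht =>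
        obtain ⟨t₀, ht₀, rfl⟩ := ht
        exact ⟨1, fun _ => t₀, fun _ => ht₀, fun _ => v, by simp [hsm]⟩
      | zero => exact ⟨0, Fin.elim0, fun l => l.elim0, Fin.elim0, by simp⟩
      | add p q _ _ hp hq =>
        obtain ⟨L, c, hc, z, hz⟩ := hp v trivial
        obtain ⟨L', c', hc', z', hz'⟩ := hq v trivial
        refine ⟨L + L', Fin.append c c', fun l => ?_, Fin.append z z', by simp [Fin.sum_univ_add, hz, hz', add_smul]⟩
        induction l using Fin.addCases with
        | left l => simpa using hc l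
        | right l => simpa using hc' l
      | smul e p _ hp =>
        obtain ⟨L, c, hc, z, hz⟩ := hp v trivial
        refine ⟨L, c, hc, fun l => e • z l, ?_⟩
        rw [smul_eq_mul, mul_smul, ← hz, Finset.smul_sum]
        exact Finset.sum_congr rfl fun l _ => by rw [hsm, hsm, smul_comm]
    · induction l using Fin.addCases with
      | left l => simpa using hc l
      | right l => simpa using hc' l
  have hrel : ∑ i : Fin N ⊕ Fin L, Sum.elim b (fun l => -c l) i • Sum.elim (fun i => toHat I G y (x i)) z i = 0 := by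
    simp [Fintype.sum_sum_type, hcz]
  obtain ⟨κ, w, v, hv, hw⟩ := Module.Flat.isTrivialRelation_of_sum_smul_eq_zero hrel
  have hd : toHat I G y (x j) ∈ stalkIdeal I y • (⊤ : Submodule (X.presheaf.stalk y) (hatStalk I G y)) := by
    rw [show toHat I G y (x j) = _ from hv (Sum.inl j)]
    refine Submodule.sum_mem _ fun t _ => ?_
    rw [hsm]
    refine Submodule.smul_mem_smul ?_ trivial
    rw [← pow_one (stalkIdeal I y), hJ, pow_one]
    refine Ideal.mem_map_of_mem _ (hb (fun i => w (Sum.inl i) t) ?_ j)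
    have h := hw t
    rw [Fintype.sum_sum_type] at h
    simp only [Sum.elim_inl, Sum.elim_inr] at h
    rw [show ∑ i, w (Sum.inl i) t * b i = ∑ l, c l * w (Sum.inr l) t from ?_]
    · exact Ideal.sum_mem _ fun l _ => Ideal.mul_mem_right _ _ (hc l)
    · simp only [neg_mul, Finset.sum_neg_distrib, add_neg_eq_zero] at h
      rw [← h]
      exact Finset.sum_congr rfl fun i _ => mul_comm _ _
  rw [← LinearMap.range_eq_top.2 (surjective_toHat hG y), ← Submodule.map_top, ← Submodule.map_smul''] at hd
  obtain ⟨u, hu, hux⟩ := hd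
  have h2 : (limit.π (stalkSys G y) (op (n + 1))).hom u = m j := by
    refine (bijective_of hG y (n + 1)).1 ?_
    rw [← hx j]
    exact congrFun (congrArg Subtype.val hux) (n + 1)
  rw [← h2]
  exact Submodule.smul_mono le_rfl le_top
    ((Submodule.map_smul'' _ _ (limit.π (stalkSys G y) (op (n + 1))).hom).le ⟨u, hu, rfl⟩)

end Groth.L29.FlatHat
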