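import Groth.Agent.L29.Formal.FreeLevels
import Groth.Agent.L12.Algz.Crit
import Groth.Agent.L16.Rees.Consequences

/-!
Sections of a formal module along a nonzerodivisor, locally free over the thickenings: Mittag-Leffler, the limit
topology, and finiteness, from finiteness of `H⁰` and `H¹` of the bottom level.
-/

set_option autoImplicit false
set_option backward.isDefEq.respectTransparency false
set_option backward.isDefEq.respectTransparency.types false
set_option linter.style.haveILetI false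

universe u

open CategoryTheory CategoryTheory.Limits AlgebraicGeometry TopologicalSpace Opposite

noncomputable section

namespace Groth.L29.FreeLevels

open _root_.Formal (smulMod smulFamily modPow modPowπ)
open Groth.L16 Groth.L16.Rees
open Groth.L16.Existence (tr)
open Groth.L16.CohLinear (hmap overLin delta)

variable {A : Type u} [CommRing A] {U : (Spec (CommRingCat.of A)).Opens} {f : A}

section Φ

variable (U)

local instance overS : (Spec (CommRingCat.of A)).Over (Spec (CommRingCat.of A)) := ⟨𝟙 _⟩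

/-- sections functor -/
abbrev Sec : (U : Scheme.{u}).Modules ⥤ ModuleCat.{u} A :=
  Scheme.Modules.pushforward U.ι ⋙ moduleSpecΓFunctor (R := CommRingCat.of A)

/-- degree zero cohomology is the module of sections -/
def Φadd (F : (U : Scheme.{u}).Modules) : Coh.HH (U : Scheme.{u}) F 0 ≃+ ((Sec U).obj F : Type u) :=
  HomSh.h0Equiv F

theorem Φadd_natural {F F' : (U : Scheme.{u}).Modules} (φ : F ⟶ F') (x : Coh.HH (U : Scheme.{u}) F 0) :
    Φadd U F' (hmap φ 0 x) = ((Sec U).map φ).hom (Φadd U F x) :=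
  HomSh.h0Equiv_map φ x

theorem Sec_smulMod (F : (U : Scheme.{u}).Modules) (a : A) (y : (Sec U).obj F) :
    ((Sec U).map (smulMod A F a)).hom y = a • y := by
  refine Eq.trans ?_ (Groth.L12.Algz.smulMod_app_top A ((Scheme.Modules.pushforward U.ι).obj F) a y)
  rw [Supp.smulMod_push U.ι (Groth.L12.Algz.ι_over A U)]
  rfl

theorem smul_eq_hmap (F : (U : Scheme.{u}).Modules) (a : A) (x : Coh.HH (U : Scheme.{u}) F 0) :
    a • x = hmap (smulMod A F a) 0 x := (Rees.hmap_smulMod A F a 0 x).symm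

theorem Φadd_smul (F : (U : Scheme.{u}).Modules) (a : A) (x : Coh.HH (U : Scheme.{u}) F 0) :
    Φadd U F (a • x) = a • Φadd U F x := by
  rw [smul_eq_hmap, Φadd_natural, Sec_smulMod]

theorem exists_Φ : ∃ Φ : ∀ F : (U : Scheme.{u}).Modules,
      Coh.HH (U : Scheme.{u}) F 0 ≃ₗ[A] ((Sec U).obj F : Type u),
    ∀ (F F' : (U : Scheme.{u}).Modules) (φ : F ⟶ F') (x : Coh.HH (U : Scheme.{u}) F 0),
      Φ F' (hmap φ 0 x) = ((Sec U).map φ).hom (Φ F x) :=
  ⟨fun F => (Φadd U F).toLinearEquiv (Φadd_smul U F), fun _ _ φ x => Φadd_natural U φ x⟩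

/-- degree zero cohomology is the module of sections, linearly -/
def Φ : ∀ F : (U : Scheme.{u}).Modules, Coh.HH (U : Scheme.{u}) F 0 ≃ₗ[A] ((Sec U).obj F : Type u) :=
  (exists_Φ U).choose

theorem Φ_natural {F F' : (U : Scheme.{u}).Modules} (φ : F ⟶ F') (x : Coh.HH (U : Scheme.{u}) F 0) :
    Φ U F' (hmap φ 0 x) = ((Sec U).map φ).hom (Φ U F x) :=
  (exists_Φ U).choose_spec F F' φ x

theorem injective_of_mono {F F' : (U : Scheme.{u}).Modules} (φ : F ⟶ F') [Mono φ] :
    Function.Injective ((Sec U).map φ).hom := by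
  haveI : Mono ((Sec U).map φ) := by
    haveI : (Scheme.Modules.pushforward U.ι).IsRightAdjoint :=
      (Scheme.Modules.pullbackPushforwardAdjunction U.ι).isRightAdjoint
    haveI : (moduleSpecΓFunctor (R := CommRingCat.of A)).IsRightAdjoint :=
      (tilde.adjunction (R := CommRingCat.of A)).isRightAdjoint
    haveI : (Sec U).IsRightAdjoint := inferInstance
    exact (Sec U).map_mono φ
  exact (ModuleCat.mono_iff_injective _).1 inferInstance

theorem exists_of_exact (S : ShortComplex (U : Scheme.{u}).Modules) (hS : S.ShortExact) (y : (Sec U).obj S.X₂)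
    (hy : ((Sec U).map S.g).hom y = 0) : ∃ x, ((Sec U).map S.f).hom x = y := by
  obtain ⟨y, rfl⟩ := (Φ U _).surjective y
  rw [← Φ_natural, LinearEquiv.map_eq_zero_iff] at hy
  obtain ⟨x, rfl⟩ := (CohLinear.exact_hmap_hmap hS 0 y).1 hy
  exact ⟨Φ U _ x, (Φ_natural U _ _).symm⟩

/-- the connecting map on sections -/
def obsOf {S : ShortComplex (U : Scheme.{u}).Modules} (hS : S.ShortExact) :
    ((Sec U).obj S.X₃ : Type u) →ₗ[A] Coh.HH (U : Scheme.{u}) S.X₁ 1 :=
  (overLin A (delta hS 0)).comp (Φ U S.X₃).symm.toLinearMap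

theorem obsOf_Φ {S : ShortComplex (U : Scheme.{u}).Modules} (hS : S.ShortExact) (x : Coh.HH (U : Scheme.{u}) S.X₃ 0) :
    obsOf U hS (Φ U S.X₃ x) = delta hS 0 x :=
  congrArg (delta hS 0) ((Φ U S.X₃).symm_apply_apply x)

theorem exists_lift_of_obsOf {S : ShortComplex (U : Scheme.{u}).Modules} (hS : S.ShortExact) (y : (Sec U).obj S.X₃)
    (hy : obsOf U hS y = 0) : ∃ z, ((Sec U).map S.g).hom z = y := by
  obtain ⟨x, rfl⟩ := (Φ U _).surjective y
  rw [obsOf_Φ] at hy
  obtain ⟨z, hz⟩ := (CohLinear.exact_hmap_delta hS 0 x).1 hy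
  exact ⟨Φ U _ z, (Φ_natural U S.g z).symm.trans (congrArg _ hz)⟩

theorem obsOf_natural {S S' : ShortComplex (U : Scheme.{u}).Modules} (hS : S.ShortExact) (hS' : S'.ShortExact)
    (τ : S ⟶ S') (y : (Sec U).obj S.X₃) :
    obsOf U hS' (((Sec U).map τ.τ₃).hom y) = hmap τ.τ₁ 1 (obsOf U hS y) := by
  obtain ⟨x, rfl⟩ := (Φ U _).surjective y
  rw [← Φ_natural, obsOf_Φ, obsOf_Φ]
  exact Rees.delta_naturality hS hS' τ x

end Φ

variable [IsNoetherianRing A] {G : ℕᵒᵖ ⥤ (U : Scheme.{u}).Modules} (hG : _root_.Formal.IsCohFormal (Ideal.span {f}) G)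
  (hfree : ∀ n : ℕ, Formal2.IsFinLocFreeMod (Ideal.span {f}) (n + 1) (G.obj (op n))) (hf : f ∈ nonZeroDivisors A)

/-- multiplication by `f` between the levels -/
def eMap (n : ℕ) : G.obj (op n) ⟶ G.obj (op (n + 1)) := (exists_e f hG n).choose

theorem tr_eMap (n : ℕ) : tr G n (n + 1) (Nat.le_succ n) ≫ eMap hG n = smulMod A (G.obj (op (n + 1))) f :=
  (exists_e f hG n).choose_spec

theorem eMap_tr (n : ℕ) : eMap hG n ≫ tr G n (n + 1) (Nat.le_succ n) = smulMod A (G.obj (op n)) f := by
  haveI := Existence.epi_tr hG (Nat.le_succ n)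
  rw [← cancel_epi (tr G n (n + 1) (Nat.le_succ n)), ← Category.assoc, tr_eMap, smulMod_naturality]

theorem eMap_comm (n : ℕ) :
    eMap hG (n + 1) ≫ tr G (n + 1) (n + 2) (Nat.le_succ (n + 1)) = tr G n (n + 1) (Nat.le_succ n) ≫ eMap hG n :=
  (eMap_tr hG (n + 1)).trans (tr_eMap hG n).symm

theorem eMap_tr_zero (n : ℕ) : eMap hG n ≫ tr G 0 (n + 1) (Nat.zero_le _) = 0 := by
  haveI := Existence.epi_tr hG (Nat.le_succ n)
  rw [← cancel_epi (tr G n (n + 1) (Nat.le_succ n)), ← Category.assoc, tr_eMap, comp_zero]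
  exact Existence.smul_tr hG (Nat.zero_le _) (by rw [pow_one]; exact Ideal.mem_span_singleton_self f)

include hfree hf in
theorem mono_eMap (n : ℕ) : Mono (eMap hG n) :=
  mono_e f hG n (ker_tr U f hG hfree hf n) (eMap hG n) (tr_eMap hG n)

/-- the sequence towards the bottom level -/
abbrev bot (n : ℕ) : ShortComplex (U : Scheme.{u}).Modules := ShortComplex.mk _ _ (eMap_tr_zero hG n)

include hfree hf in
theorem bot_shortExact (n : ℕ) : (bot hG n).ShortExact := by
  haveI := mono_eMap hG hfree hf n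
  haveI hepi : Epi (bot hG n).g := Existence.epi_tr hG (Nat.zero_le _)
  have hd : ∀ {T : (U : Scheme.{u}).Modules} (g : G.obj (op (n + 1)) ⟶ T), eMap hG n ≫ g = 0 →
      ∃ g', tr G 0 (n + 1) (Nat.zero_le _) ≫ g' = g := fun {T} g hg => by
    refine Existence.exists_desc hG (Nat.zero_le _) g fun a ha => ?_
    rw [pow_one, Ideal.mem_span_singleton'] at ha
    obtain ⟨b, rfl⟩ := ha
    rw [mul_comm, smulMod_mul, Category.assoc, ← tr_eMap hG n, Category.assoc, hg, comp_zero, comp_zero]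
  choose d hd' using @hd
  exact ⟨ShortComplex.exact_of_g_is_cokernel _ (CokernelCofork.IsColimit.ofπ _ _
    (fun g hg => d g hg) (fun g hg => hd' g hg)
    (fun g hg b hb => hepi.left_cancellation _ _ (hb.trans (hd' g hg).symm)))⟩

/-- the embedding of the bottom level -/
def jMap : ∀ n, G.obj (op 0) ⟶ G.obj (op (n + 1))
  | 0 => eMap hG 0
  | n + 1 => jMap n ≫ eMap hG (n + 1)

theorem jMap_tr : ∀ n, jMap hG n ≫ tr G n (n + 1) (Nat.le_succ n) = 0
  | 0 => eMap_tr_zero hG 0
  | n + 1 => by rw [jMap, Category.assoc, eMap_comm, ← Category.assoc, jMap_tr n, zero_comp]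

/-- the sequence of successive levels -/
abbrev step (n : ℕ) : ShortComplex (U : Scheme.{u}).Modules := ShortComplex.mk _ _ (jMap_tr hG n)

include hfree hf in
theorem step_shortExact : ∀ n, (step hG n).ShortExact
  | 0 => bot_shortExact hG hfree hf 0
  | n + 1 => by
    haveI hm : Mono (jMap hG n) := (step_shortExact n).mono_f
    haveI := mono_eMap hG hfree hf (n + 1)
    haveI : Mono (step hG (n + 1)).f := mono_comp (jMap hG n) (eMap hG (n + 1))
    haveI : Epi (step hG (n + 1)).g := Existence.epi_tr hG (Nat.le_succ (n + 1))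
    haveI := mono_eMap hG hfree hf n
    refine ⟨(ShortComplex.exact_iff_exact_up_to_refinements _).2 fun T z hz => ?_⟩
    change z ≫ tr G (n + 1) (n + 1 + 1) _ = 0 at hz
    obtain ⟨T₁, p, hp, w, hw⟩ := (bot_shortExact hG hfree hf (n + 1)).exact.exact_up_to_refinements z (by
      change z ≫ tr G 0 (n + 1 + 1) _ = 0
      rw [← Existence.tr_comp G (Nat.zero_le (n + 1)) (Nat.le_succ (n + 1)), reassoc_of% hz, zero_comp])
    change p ≫ z = w ≫ eMap hG (n + 1) at hw
    have h1 : w ≫ tr G n (n + 1) (Nat.le_succ n) = 0 := by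
      rw [← cancel_mono (eMap hG n), Category.assoc, ← eMap_comm, ← reassoc_of% hw, hz, comp_zero, zero_comp]
    obtain ⟨T₂, q, hq, v, hv⟩ := (step_shortExact n).exact.exact_up_to_refinements w h1
    refine ⟨T₂, q ≫ p, epi_comp _ _, v, ?_⟩
    change (q ≫ p) ≫ z = v ≫ jMap hG n ≫ eMap hG (n + 1)
    rw [Category.assoc, hw, reassoc_of% hv]

/-- morphism between the step sequences -/
def stepHom (n : ℕ) : step hG n ⟶ step hG (n + 1) :=
  ShortComplex.homMk (𝟙 _) (eMap hG (n + 1)) (eMap hG n) (by rw [Category.id_comp]; rfl) (eMap_comm hG n)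

/-- obstruction to lifting one level -/
def obs (h : ∀ n, (step hG n).ShortExact) (n : ℕ) :
    ((Sec U).obj (G.obj (op n)) : Type u) →ₗ[A] Coh.HH (U : Scheme.{u}) (G.obj (op 0)) 1 :=
  obsOf U (S := step hG n) (h n)

theorem obs_eMap (h : ∀ n, (step hG n).ShortExact) (n : ℕ) (y : (Sec U).obj (G.obj (op n))) :
    obs hG h (n + 1) (((Sec U).map (eMap hG n)).hom y) = obs hG h n y :=
  (obsOf_natural U (S := step hG n) (S' := step hG (n + 1)) (h n) (h (n + 1)) (stepHom hG n) y).trans (CohLinear.hmap_id 1 _)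

theorem exists_lift_of_obs (h : ∀ n, (step hG n).ShortExact) (n : ℕ) (y : (Sec U).obj (G.obj (op n)))
    (hy : obs hG h n y = 0) : ∃ z, ((Sec U).map (tr G n (n + 1) (Nat.le_succ n))).hom z = y :=
  exists_lift_of_obsOf U (S := step hG n) (h n) y hy

end Groth.L29.FreeLevels
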