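import Groth.Agent.L29.Formal.GradedStalks

/-!
Splitting of the monomial maps from idempotent coefficients acting compatibly on the stalks.
-/

set_option autoImplicit false
set_option backward.isDefEq.respectTransparency false
set_option backward.isDefEq.respectTransparency.types false
set_option linter.style.haveILetI false

universe u

open CategoryTheory CategoryTheory.Limits AlgebraicGeometry TopologicalSpace Opposite

noncomputable section

namespace Groth.L29.Graded

open _root_.Formal (smulMod)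
open Groth.L16 Groth.L16.Existence
open _root_.Algz (toStalk stalkMapₗ)

variable {A : Type u} [CommRing A] {X : Scheme.{u}} [X.Over (Spec (CommRingCat.of A))]
  {I : Ideal A} {G : ℕᵒᵖ ⥤ X.Modules} (hG : _root_.Formal.IsCohFormal I G)
  {r : ℕ} (a : Fin r → A) (hI : I = Ideal.span (Set.range a))

/-- relations among monomials are killed modulo the ideal by the coefficient matrix, on one stalk -/
def RelAt (n : ℕ) (c : Sn r n → Sn r n → A) (M : X.Modules) (y : X) : Prop :=
  ∀ m : Sn r n → M.presheaf.stalk y, ∑ e', stalkMapₗ (smulMod A M (aE a e'.1)) y (m e') = 0 →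
    ∀ e, ∃ w : Fin r → M.presheaf.stalk y,
      ∑ e', stalkMapₗ (smulMod A M (c e e')) y (m e') = ∑ i, stalkMapₗ (smulMod A M (a i)) y (w i)

/-- invariance under bijections commuting with scalars -/
theorem relAt_of_equiv (n : ℕ) (c : Sn r n → Sn r n → A) {Y : Scheme.{u}} [Y.Over (Spec (CommRingCat.of A))]
    (M : X.Modules) (M' : Y.Modules) (y : X) (y' : Y) (E : M.presheaf.stalk y ≃+ M'.presheaf.stalk y')
    (hE : ∀ (b : A) v, E (stalkMapₗ (smulMod A M b) y v) = stalkMapₗ (smulMod A M' b) y' (E v))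
    (h : RelAt a n c M' y') : RelAt a n c M y := by
  intro m hm e
  obtain ⟨w, hw⟩ := h (fun e' => E (m e')) (by
    simp only [← hE, ← map_sum, hm, map_zero]) e
  refine ⟨fun i => E.symm (w i), E.injective ?_⟩
  simp only [map_sum, hE, E.apply_symm_apply]
  exact hw

include hG hI in
/-- splitting from idempotent coefficients -/
theorem split_of_relAt
    (h : ∀ n, ∃ c : Sn r n → Sn r n → A, (∀ e', (∑ e, c e e' * aE a e.1) - aE a e'.1 ∈ I ^ (n + 2)) ∧
      ∀ y : X, RelAt a n c (G.obj (op (n + 1))) y) :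
    Split hG a hI := by
  classical
  intro n
  obtain ⟨c, hc, hrel⟩ := h n
  let D := ⨁ fun _ : Sn r n => G.obj (op 0)
  let P' : D ⟶ K G n := biproduct.desc (μe hG a hI n)
  haveI : Epi P' := by
    haveI := epi_P hG a hI n
    have h : P hG a hI n = Sigma.desc (fun e => biproduct.ι (fun _ : Sn r n => G.obj (op 0)) e) ≫ P' := by
      apply Sigma.hom_ext
      intro e
      rw [P, Sigma.ι_desc, Sigma.ι_desc_assoc]
      exact (biproduct.ι_desc _ _).symm
    exact epi_of_epi_fac h.symm
  let θm : Sn r n → (D ⟶ G.obj (op 0)) := fun e => biproduct.desc fun e' => smulMod A (G.obj (op 0)) (c e e')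
  have hsum : ∑ e, θm e ≫ μe hG a hI n e = P' := by
    refine biproduct.hom_ext' _ _ fun e' => ?_
    rw [Preadditive.comp_sum]
    simp only [θm, P', biproduct.ι_desc_assoc, biproduct.ι_desc]
    haveI := epi_tr hG (Nat.zero_le (n + 1))
    rw [← cancel_mono (kernel.ι _), Preadditive.sum_comp, ← cancel_epi (tr G 0 (n + 1) (Nat.zero_le _)),
      Preadditive.comp_sum]
    have h : ∀ e, tr G 0 (n + 1) (Nat.zero_le _) ≫ (smulMod A (G.obj (op 0)) (c e e') ≫ μe hG a hI n e) ≫ kernel.ι _ =
        smulMod A (G.obj (op (n + 1))) (c e e' * aE a e.1) := fun e => by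
      rw [Category.assoc, μe, μ, kernel.lift_ι, ← Category.assoc, ← Rees.smulMod_naturality, Category.assoc, tr_mul,
        ← Rees.smulMod_mul, mul_comm]
    rw [Finset.sum_congr rfl fun e _ => h e, μe, μ, kernel.lift_ι, tr_mul]
    refine ((map_sum (AddMonoidHom.mk' (fun b => smulMod A (G.obj (op (n + 1))) b) fun b b' =>
      HomSh.smulMod_add _ b b') (fun e => c e e' * aE a e.1) Finset.univ).symm).trans ?_
    change smulMod A _ (∑ e, c e e' * aE a e.1) = _
    conv_lhs => rw [← sub_add_cancel (∑ e, c e e' * aE a e.1) (aE a e'.1)]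
    rw [HomSh.smulMod_add, hG.2.1 (n + 1) _ (hc e'), zero_add]
  have hι : ∀ y, Function.Injective (stalkMapₗ (kernel.ι (tr G n (n + 1) (Nat.le_succ n))) y) := fun y =>
    (Groth.L21.Mod.mono_iff_stalk_injective _).1 inferInstance y
  have hker : ∀ e, kernel.ι P' ≫ θm e = 0 := by
    intro e
    refine (Groth.L21.Mod.eq_zero_iff_stalk _).2 fun y => AddCommGrpCat.hom_ext (AddMonoidHom.ext fun k => ?_)
    change stalkMapₗ (kernel.ι P' ≫ θm e) y k = 0
    rw [stalkMapₗ_comp]
    choose m hm using fun e' => surjective_stalk_tr hG (Nat.zero_le (n + 1)) y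
      (stalkMapₗ (biproduct.π (fun _ : Sn r n => G.obj (op 0)) e') y (stalkMapₗ (kernel.ι P') y k))
    have hz : stalkMapₗ (kernel.ι P') y k = ∑ e', stalkMapₗ (biproduct.ι (fun _ : Sn r n => G.obj (op 0)) e') y
        (stalkMapₗ (tr G 0 (n + 1) (Nat.zero_le _)) y (m e')) :=
      (stalk_biproduct _ y _).trans (Finset.sum_congr rfl fun e' _ => by rw [hm e'])
    have h0 : ∑ e', stalkMapₗ (smulMod A (G.obj (op (n + 1))) (aE a e'.1)) y (m e') = 0 := by
      have h1 : stalkMapₗ P' y (stalkMapₗ (kernel.ι P') y k) = 0 := by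
        rw [← stalkMapₗ_comp, kernel.condition, stalkMapₗ_zero]
      have h2 := congrArg (stalkMapₗ (kernel.ι (tr G n (n + 1) (Nat.le_succ n))) y) h1
      rw [hz, map_sum, map_sum, map_zero] at h2
      rw [← h2]
      refine Finset.sum_congr rfl fun e' _ => ?_
      rw [← stalkMapₗ_comp (biproduct.ι _ e') P', biproduct.ι_desc, μe, stalk_μ, stalkMapₗ_smulMod]
    obtain ⟨w, hw⟩ := hrel y m h0 e
    rw [hz, map_sum]
    have h3 : ∀ e', stalkMapₗ (θm e) y (stalkMapₗ (biproduct.ι (fun _ : Sn r n => G.obj (op 0)) e') y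
        (stalkMapₗ (tr G 0 (n + 1) (Nat.zero_le _)) y (m e'))) =
        stalkMapₗ (tr G 0 (n + 1) (Nat.zero_le _)) y (stalkMapₗ (smulMod A (G.obj (op (n + 1))) (c e e')) y (m e')) :=
      fun e' => by
        rw [← stalkMapₗ_comp (biproduct.ι _ e') (θm e), biproduct.ι_desc, ← stalkMapₗ_comp, ← stalkMapₗ_comp,
          ← Rees.smulMod_naturality]
    rw [Finset.sum_congr rfl fun e' _ => h3 e', ← map_sum, hw, map_sum]
    refine Finset.sum_eq_zero fun i _ => ?_
    rw [← stalkMapₗ_comp, Existence.smul_tr hG _ (by rw [zero_add, pow_one]; exact mem_gen a hI i), stalkMapₗ_zero]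
  refine ⟨fun e => Abelian.epiDesc P' (θm e) (hker e), ?_⟩
  rw [← cancel_epi P', Preadditive.comp_sum, Category.comp_id]
  exact (Finset.sum_congr rfl fun e _ => Abelian.comp_epiDesc_assoc _ _ _ _).trans hsum

end Groth.L29.Graded
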