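import Groth.Agent.L29.Formal.GradedPieces
import Groth.Agent.L21.Mod.Stalks
import Groth.Prelude.Def_Algz2

/-!
Stalks of the graded pieces of a coherent formal module.
-/

set_option autoImplicit false
set_option backward.isDefEq.respectTransparency false
set_option backward.isDefEq.respectTransparency.types false
set_option linter.style.haveILetI false

universe u

open CategoryTheory CategoryTheory.Limits AlgebraicGeometry TopologicalSpace Opposite

noncomputable section

namespace Groth.L29.Graded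

open _root_.Formal (smulMod)
open Groth.L16 Groth.L16.Existence
open _root_.Algz (toStalk stalkIdeal stalkMapₗ)

variable {A : Type u} [CommRing A] {X : Scheme.{u}} [X.Over (Spec (CommRingCat.of A))]

omit [X.Over (Spec (CommRingCat.of A))] in
theorem stalkMapₗ_comp {M N P : X.Modules} (φ : M ⟶ N) (ψ : N ⟶ P) (y : X) (v : M.presheaf.stalk y) :
    stalkMapₗ (φ ≫ ψ) y v = stalkMapₗ ψ y (stalkMapₗ φ y v) := by
  change (Groth.L21.Mod.stalkF X y).map (φ ≫ ψ) v = _
  rw [Functor.map_comp]
  rfl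

omit [X.Over (Spec (CommRingCat.of A))] in
theorem stalkMapₗ_zero {M N : X.Modules} (y : X) (v : M.presheaf.stalk y) :
    stalkMapₗ (0 : M ⟶ N) y v = 0 := by
  change (Groth.L21.Mod.stalkF X y).map (0 : M ⟶ N) v = 0
  rw [Functor.map_zero]
  rfl

/-- multiplication by a scalar on stalks -/
theorem stalkMapₗ_smulMod (M : X.Modules) (y : X) (c : A) (v : M.presheaf.stalk y) :
    stalkMapₗ (smulMod A M c) y v = toStalk A X y c • v := by
  obtain ⟨V, hyV, t, rfl⟩ := M.presheaf.exists_germ_eq (x := y) v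
  change (Groth.L21.Mod.stalkF X y).map (smulMod A M c) (M.presheaf.germ V y hyV t) = _
  rw [Groth.L21.Mod.stalkF_map_germ, Groth.L16.HomSh.smulMod_app]
  refine Eq.trans (PresheafOfModules.germ_smul (R := X.presheaf)
      (show PresheafOfModules (X.presheaf ⋙ forget₂ CommRingCat RingCat) from M.val) y V hyV _ t) ?_
  congr 1
  exact X.presheaf.germ_res_apply (homOfLE le_top : V ⟶ ⊤) y hyV _

variable {I : Ideal A} {G : ℕᵒᵖ ⥤ X.Modules} (hG : _root_.Formal.IsCohFormal I G)

include hG in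
theorem surjective_stalk_tr {m n : ℕ} (h : m ≤ n) (y : X) : Function.Surjective (stalkMapₗ (tr G m n h) y) :=
  (Groth.L21.Mod.epi_iff_stalk_surjective _).1 (epi_tr hG h) y

include hG in
theorem smul_stalk_eq_zero (n : ℕ) (y : X) {b : X.presheaf.stalk y} (hb : b ∈ stalkIdeal I y ^ (n + 1))
    (v : (G.obj (op n)).presheaf.stalk y) : b • v = 0 := by
  rw [stalkIdeal, ← Ideal.map_pow, Ideal.map] at hb
  induction hb using Submodule.span_induction with
  | mem b hb =>
    obtain ⟨c, hc, rfl⟩ := hb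
    rw [← stalkMapₗ_smulMod, hG.2.1 n c hc, stalkMapₗ_zero]
  | zero => rw [zero_smul]
  | add p q _ _ hp hq => rw [add_smul, hp, hq, add_zero]
  | smul q p _ hp => rw [smul_eq_mul, mul_smul, hp, smul_zero]

/-- a monomial map on stalks -/
theorem stalk_μ (n : ℕ) (d : A) (hd : d ∈ I ^ (n + 1)) (y : X) (v : (G.obj (op (n + 1))).presheaf.stalk y) :
    stalkMapₗ (kernel.ι (tr G n (n + 1) (Nat.le_succ n))) y
      (stalkMapₗ (μ hG n d hd) y (stalkMapₗ (tr G 0 (n + 1) (Nat.zero_le _)) y v)) = toStalk A X y d • v := by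
  rw [← stalkMapₗ_comp, ← stalkMapₗ_comp, μ, kernel.lift_ι, tr_mul, stalkMapₗ_smulMod]

omit [X.Over (Spec (CommRingCat.of A))] in
/-- elements of a stalk of a finite sum -/
theorem stalk_biproduct {J : Type} [Fintype J] (M : J → X.Modules) (y : X) (z : (⨁ M).presheaf.stalk y) :
    z = ∑ j, stalkMapₗ (biproduct.ι M j) y (stalkMapₗ (biproduct.π M j) y z) := by
  have h : ∀ j, stalkMapₗ (biproduct.ι M j) y (stalkMapₗ (biproduct.π M j) y z) =
      (Groth.L21.Mod.stalkF X y).map (biproduct.π M j ≫ biproduct.ι M j) z := fun j => (stalkMapₗ_comp _ _ y z).symm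
  rw [Finset.sum_congr rfl fun j _ => h j]
  conv_lhs => rw [show z = (Groth.L21.Mod.stalkF X y).map (𝟙 (⨁ M)) z by rw [CategoryTheory.Functor.map_id]; rfl,
    ← biproduct.total, Functor.map_sum]
  exact map_sum (AddMonoidHom.mk' (fun g : (Groth.L21.Mod.stalkF X y).obj (⨁ M) ⟶ (Groth.L21.Mod.stalkF X y).obj (⨁ M) => g z)
    fun g g' => rfl) _ _

variable {r : ℕ} (a : Fin r → A) (hI : I = Ideal.span (Set.range a))

include hG hI in
/-- the kernel of a transition map on stalks -/
theorem exists_of_stalk_tr_eq_zero (n : ℕ) (y : X) (v : (G.obj (op (n + 1))).presheaf.stalk y)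
    (hv : stalkMapₗ (tr G n (n + 1) (Nat.le_succ n)) y v = 0) :
    v ∈ stalkIdeal I y ^ (n + 1) • (⊤ : Submodule (X.presheaf.stalk y) ((G.obj (op (n + 1))).presheaf.stalk y)) := by
  let S := ShortComplex.mk (kernel.ι (tr G n (n + 1) (Nat.le_succ n))) (tr G n (n + 1) (Nat.le_succ n)) (kernel.condition _)
  have hS : S.Exact := ShortComplex.exact_of_f_is_kernel _ (kernelIsKernel _)
  obtain ⟨k, hk⟩ := (ShortComplex.ab_exact_iff _).1 (hS.map (Groth.L21.Mod.stalkF X y)) v hv
  let P' : (⨁ fun _ : Sn r n => G.obj (op 0)) ⟶ K G n := biproduct.desc (μe hG a hI n)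
  haveI : Epi P' := by
    haveI := epi_P hG a hI n
    have h : P hG a hI n = Sigma.desc (fun e => biproduct.ι (fun _ : Sn r n => G.obj (op 0)) e) ≫ P' := by
      apply Sigma.hom_ext
      intro e
      rw [P, Sigma.ι_desc, Sigma.ι_desc_assoc]
      exact (biproduct.ι_desc _ _).symm
    exact epi_of_epi_fac h.symm
  obtain ⟨z, hz⟩ := (Groth.L21.Mod.epi_iff_stalk_surjective P').1 inferInstance y k
  have hv' : v = stalkMapₗ (kernel.ι (tr G n (n + 1) (Nat.le_succ n))) y (stalkMapₗ P' y z) :=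
    hk.symm.trans (congrArg _ hz.symm)
  rw [hv', stalk_biproduct (fun _ : Sn r n => G.obj (op 0)) y z, map_sum, map_sum]
  refine Submodule.sum_mem _ fun e _ => ?_
  obtain ⟨w, hw⟩ := surjective_stalk_tr hG (Nat.zero_le (n + 1)) y
    (stalkMapₗ (biproduct.π (fun _ : Sn r n => G.obj (op 0)) e) y z)
  rw [← hw, ← stalkMapₗ_comp (biproduct.ι _ e) P', biproduct.ι_desc, μe, stalk_μ]
  refine Submodule.smul_mem_smul ?_ trivial
  rw [stalkIdeal, ← Ideal.map_pow]
  exact Ideal.mem_map_of_mem _ ((congrArg (fun k => I ^ k) e.2).le (aE_mem a (mem_gen a hI) e.1))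

end Groth.L29.Graded
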