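import Groth.Agent.L29.Formal.Sheaves

/-!
Scalars killing local cohomology kill cohomology of the punctured open.
-/

set_option autoImplicit false
set_option backward.isDefEq.respectTransparency false
set_option backward.isDefEq.respectTransparency.types false
set_option linter.style.haveILetI false

universe u

open CategoryTheory CategoryTheory.Limits TopologicalSpace Opposite AlgebraicGeometry

noncomputable section

namespace Groth.L29.Formal

open Groth.L04.LC

variable {A : Type u} [CommRing A] [IsNoetherianRing A] (I : Ideal A)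

local notation "Uo" => LocCoh.puncturedOpen A I

theorem subsingleton_H_injective (E : ModuleCat.{u} A) [Injective E] (p : ℕ) : Subsingleton (H Uo E (p + 1)) := by
  obtain ⟨e⟩ := Groth.L04.Koszul.Cech.nonempty_hhon_punctured_localCohomology I E (p + 1) (by omega)
  obtain ⟨e'⟩ := Groth.L17.nonempty_hhon_equiv (tilde (R := CommRingCat.of A) E) (LocCoh.puncturedOpen A I) (p + 1)
  haveI := subsingleton_H_succ_of_injective I (p + 1) E
  exact (e'.symm.trans e).toEquiv.subsingleton

/-- sections: killed `H^1` puts `a • s` into the image of the module -/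
theorem smul_mem_range (M : ModuleCat.{u} A) (a : A) (h : ∀ z : (localCohomology I 1).obj M, a • z = 0) (s : sec Uo M) :
    a • s ∈ LinearMap.range (tilde.toOpen (R := CommRingCat.of A) M Uo).hom := by
  obtain ⟨-, ⟨c⟩⟩ := Groth.L04.Koszul.Cech.exists_toOpen_punctured I M
  refine (Submodule.Quotient.mk_eq_zero _).1 (c.injective ?_)
  rw [Submodule.Quotient.mk_smul, map_smul, h, map_zero]

/-- the kernel of restriction is the torsion -/
theorem ker_toOpen (M : ModuleCat.{u} A) :
    LinearMap.ker (tilde.toOpen (R := CommRingCat.of A) M Uo).hom = DRing.torsionSub I M :=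
  (Groth.L04.Koszul.Cech.exists_toOpen_punctured I M).1

theorem hm_sc_eq_zero : ∀ (p : ℕ) (M : ModuleCat.{u} A) (a : A),
    (∀ z : (localCohomology I (p + 2)).obj M, a • z = 0) → ∀ x : H Uo M (p + 1), hm (sc a M) Uo (p + 1) x = 0 := by
  intro p
  induction p with
  | zero =>
    intro M a ha x
    let E := Injective.under M
    let S := ShortComplex.mk (Injective.ι M) (cokernel.π (Injective.ι M)) (cokernel.condition _)
    have hS : S.ShortExact := { exact := ShortComplex.exact_cokernel _ }
    haveI := subsingleton_H_injective I E 0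
    haveI := subsingleton_H_succ_of_injective I 0 E
    obtain ⟨y, rfl⟩ := exists_dl_of_hm_f_eq_zero Uo hS 0 x (Subsingleton.elim (α := H Uo E 1) _ _)
    let φ : S ⟶ S := ShortComplex.homMk (sc a S.X₁) (sc a S.X₂) (sc a S.X₃)
      (ModuleCat.hom_ext (LinearMap.ext fun z => map_smul S.f.hom a z))
      (ModuleCat.hom_ext (LinearMap.ext fun z => map_smul S.g.hom a z))
    have h1 : ∀ z : (localCohomology I 1).obj S.X₃, a • z = 0 := fun z => by
      obtain ⟨w, hw⟩ := (H_exact₃ I hS 1 (a • z)).1 ((map_smul (Hδ I hS 1) a z).trans (ha _))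
      rw [← hw, Subsingleton.elim (α := (localCohomology I 1).obj E) w 0, map_zero]
    obtain ⟨q, hq⟩ := smul_mem_range I S.X₃ a h1 (h0 Uo S.X₃ y)
    obtain ⟨e, rfl⟩ := (ModuleCat.epi_iff_surjective S.g).1 hS.epi_g q
    refine (dl_natural Uo hS hS φ 0 y).trans ?_
    have : hm φ.τ₃ Uo 0 y = hm S.g Uo 0 ((h0 Uo S.X₂).symm ((tilde.toOpen (R := CommRingCat.of A) S.X₂ Uo).hom e)) := by
      refine (h0 Uo S.X₃).injective ?_
      rw [h0_hm Uo S.g, AddEquiv.apply_symm_apply, secMap_toOpen]
      exact (h0_sc Uo a S.X₃ y).trans hq.symm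
    rw [this, hm_g_dl_eq_zero]
  | succ p ih =>
    intro M a ha x
    let E := Injective.under M
    let S := ShortComplex.mk (Injective.ι M) (cokernel.π (Injective.ι M)) (cokernel.condition _)
    have hS : S.ShortExact := { exact := ShortComplex.exact_cokernel _ }
    haveI := subsingleton_H_injective I E (p + 1)
    haveI := subsingleton_H_succ_of_injective I (p + 1) E
    obtain ⟨y, rfl⟩ := exists_dl_of_hm_f_eq_zero Uo hS (p + 1) x (Subsingleton.elim (α := H Uo E (p + 2)) _ _)
    let φ : S ⟶ S := ShortComplex.homMk (sc a S.X₁) (sc a S.X₂) (sc a S.X₃)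
      (ModuleCat.hom_ext (LinearMap.ext fun z => map_smul S.f.hom a z))
      (ModuleCat.hom_ext (LinearMap.ext fun z => map_smul S.g.hom a z))
    refine (dl_natural Uo hS hS φ (p + 1) y).trans ?_
    have h2 : hm φ.τ₃ Uo (p + 1) y = 0 := ih S.X₃ a (fun z => by
      obtain ⟨w, hw⟩ := (H_exact₃ I hS (p + 2) (a • z)).1 ((map_smul (Hδ I hS (p + 2)) a z).trans (ha _))
      rw [← hw, Subsingleton.elim (α := (localCohomology I (p + 2)).obj E) w 0, map_zero]) y
    rw [h2, map_zero]

end Groth.L29.Formal
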