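import Groth.Agent.L29.Formal.FreeLevelsSect
import Groth.Agent.L29.Formal.Bridge
import Groth.Agent.L12.ZarPair.Sheaf
import Groth.Agent.L12.Algz.Epi
import Groth.Agent.L14.PicSurj.Bundles

/-!
Coherent formal modules on a punctured open come from systems of finite modules.
-/

set_option autoImplicit false
set_option backward.isDefEq.respectTransparency false
set_option backward.isDefEq.respectTransparency.types false
set_option linter.style.haveILetI false

universe u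

open CategoryTheory CategoryTheory.Limits AlgebraicGeometry TopologicalSpace Opposite

noncomputable section

namespace Groth.L29.ModSys

open _root_.Formal (smulMod modPow modPowπ)
open Groth.L12.ZarPair (modOn adjOn exists_pow_smul_mem_range exists_pow_smul_eq_zero_of_map mono_modOn epi_modOn)
open Groth.L04.PunctLin (tM tg)
open Groth.L29.FreeLevels (Sec)
open Groth.L16.Existence (tr)

variable {A : Type u} [CommRing A] [IsNoetherianRing A]

variable (𝔞 : Ideal A)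

/-- the open -/
abbrev puU : (Spec (CommRingCat.of A)).Opens := LocCoh.puncturedOpen A 𝔞

omit [IsNoetherianRing A] in
theorem compl_Uo : ((((puU 𝔞) : (Spec (CommRingCat.of A)).Opens) : Set (Spec (CommRingCat.of A)))ᶜ : Set (PrimeSpectrum A)) =
    PrimeSpectrum.zeroLocus (𝔞 : Set A) :=
  compl_compl _

theorem isIso_counit (F : ((puU 𝔞) : Scheme.{u}).Modules) (hF : Coh.IsQCoh F) :
    IsIso ((adjOn (puU 𝔞)).counit.app F) := by
  have h1 := Groth.L12.Algz.isIso_fromTildeΓ_push (puU 𝔞) F hF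
  haveI : IsIso ((Groth.L12.Algz.tilAdj A).counit.app ((Scheme.Modules.pushforward (puU 𝔞).ι).obj F)) := h1
  rw [Adjunction.comp_counit_app]
  infer_instance

/-- a finite module of sections with torsion cokernel -/
def Good (F : ((puU 𝔞) : Scheme.{u}).Modules) (S : Submodule A ((Sec (puU 𝔞)).obj F)) : Prop :=
  Module.Finite A S ∧ ∀ y : (Sec (puU 𝔞)).obj F, ∃ c : ℕ, ∀ a ∈ 𝔞 ^ c, a • y ∈ S

theorem exists_good (F : ((puU 𝔞) : Scheme.{u}).Modules) (hF : Coh.IsCoh F) : ∃ S, Good 𝔞 F S := by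
  haveI : IsNoetherianRing (CommRingCat.of A) := ‹IsNoetherianRing A›
  haveI : Coh.IsQCoh F := hF.1
  obtain ⟨N, hN, ⟨e⟩⟩ := Groth.L14.PicSurj.exists_tilde_extension' (puU 𝔞) F hF.2
  haveI : Module.Finite A N := hN
  let ν : N ⟶ (Sec (puU 𝔞)).obj F := (adjOn (puU 𝔞)).homEquiv N F e.hom
  refine ⟨LinearMap.range ν.hom, inferInstance, ?_⟩
  haveI := isIso_counit 𝔞 F hF.1
  haveI : Epi ((modOn (puU 𝔞)).map ν) := by
    have he : (modOn (puU 𝔞)).map ν ≫ (adjOn (puU 𝔞)).counit.app F = e.hom :=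
      (((adjOn (puU 𝔞)).homEquiv_counit N F ν).symm).trans (((adjOn (puU 𝔞)).homEquiv N F).symm_apply_apply e.hom)
    haveI : IsIso ((modOn (puU 𝔞)).map ν ≫ (adjOn (puU 𝔞)).counit.app F) :=
      he ▸ inferInstanceAs (IsIso e.hom)
    haveI := IsIso.of_isIso_comp_right ((modOn (puU 𝔞)).map ν) ((adjOn (puU 𝔞)).counit.app F)
    infer_instance
  exact exists_pow_smul_mem_range (compl_Uo 𝔞) ν

variable (I : Ideal A) {G : ℕᵒᵖ ⥤ ((puU 𝔞) : Scheme.{u}).Modules} (hG : _root_.Formal.IsCohFormal I G)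

/-- transition of the sections -/
abbrev secTr (n : ℕ) : (Sec (puU 𝔞)).obj (G.obj (op (n + 1))) →ₗ[A] (Sec (puU 𝔞)).obj (G.obj (op n)) :=
  ((Sec (puU 𝔞)).map (G.map (homOfLE (Nat.le_succ n)).op)).hom

theorem exists_good_succ (n : ℕ) (hc : Coh.IsCoh (G.obj (op (n + 1)))) (S : Submodule A ((Sec (puU 𝔞)).obj (G.obj (op n))))
    (hS : Good 𝔞 (G.obj (op n)) S) :
    ∃ S' : Submodule A ((Sec (puU 𝔞)).obj (G.obj (op (n + 1)))), Good 𝔞 (G.obj (op (n + 1))) S' ∧ S'.map (secTr 𝔞 (G := G) n) ≤ S := by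
  obtain ⟨T, hT, hT'⟩ := exists_good 𝔞 _ hc
  refine ⟨T ⊓ S.comap (secTr 𝔞 (G := G) n), ⟨?_, fun y => ?_⟩, ?_⟩
  · haveI := hT
    haveI := isNoetherian_of_isNoetherianRing_of_finite A T
    exact Module.Finite.of_injective (Submodule.inclusion inf_le_left) (Submodule.inclusion_injective _)
  · obtain ⟨c, hc'⟩ := hT' y
    obtain ⟨d, hd⟩ := hS.2 (secTr 𝔞 (G := G) n y)
    refine ⟨c + d, fun a ha => ⟨hc' a (Ideal.pow_le_pow_right (Nat.le_add_right c d) ha), ?_⟩⟩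
    rw [SetLike.mem_coe, Submodule.mem_comap, map_smul]
    exact hd a (Ideal.pow_le_pow_right (Nat.le_add_left d c) ha)
  · exact Submodule.map_le_iff_le_comap.2 inf_le_right

include hG in
theorem exists_family : ∃ S : ∀ n, Submodule A ((Sec (puU 𝔞)).obj (G.obj (op n))),
    (∀ n, Good 𝔞 (G.obj (op n)) (S n)) ∧ ∀ n, (S (n + 1)).map (secTr 𝔞 (G := G) n) ≤ S n := by
  choose s hs hle using fun n (S : {S // Good 𝔞 (G.obj (op n)) S}) => exists_good_succ 𝔞 n (hG.1 (n + 1)) S.1 S.2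
  let S : ∀ n, {S // Good 𝔞 (G.obj (op n)) S} := fun n =>
    Nat.rec (motive := fun n => {S // Good 𝔞 (G.obj (op n)) S})
      ⟨_, (exists_good 𝔞 _ (hG.1 0)).choose_spec⟩ (fun n S => ⟨s n S, hs n S⟩) n
  exact ⟨fun n => (S n).1, fun n => (S n).2, fun n => hle n (S n)⟩

/-- comparison with the sheaf -/
def cmp (F : ((puU 𝔞) : Scheme.{u}).Modules) (S : Submodule A ((Sec (puU 𝔞)).obj F)) : (modOn (puU 𝔞)).obj (ModuleCat.of A S) ⟶ F :=
  (modOn (puU 𝔞)).map (ModuleCat.ofHom S.subtype) ≫ (adjOn (puU 𝔞)).counit.app F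

theorem isIso_cmp (F : ((puU 𝔞) : Scheme.{u}).Modules) (hF : Coh.IsQCoh F) (S : Submodule A ((Sec (puU 𝔞)).obj F))
    (hS : Good 𝔞 F S) : IsIso (cmp 𝔞 F S) := by
  haveI := isIso_counit 𝔞 F hF
  haveI : Mono ((modOn (puU 𝔞)).map (ModuleCat.ofHom S.subtype)) :=
    mono_modOn (compl_Uo 𝔞) _ fun x hx => ⟨0, fun a _ => by
      rw [show x = 0 from Subtype.ext hx, smul_zero]⟩
  haveI : Epi ((modOn (puU 𝔞)).map (ModuleCat.ofHom S.subtype)) :=
    epi_modOn (compl_Uo 𝔞) _ fun y => by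
      obtain ⟨c, hc⟩ := hS.2 y
      exact ⟨c, fun a ha => ⟨⟨_, hc a ha⟩, rfl⟩⟩
  haveI := isIso_of_mono_of_epi ((modOn (puU 𝔞)).map (ModuleCat.ofHom S.subtype))
  unfold cmp
  infer_instance

theorem sec_smul_eq_zero (F : ((puU 𝔞) : Scheme.{u}).Modules) (a : A) (ha : smulMod A F a = 0) (x : (Sec (puU 𝔞)).obj F) :
    a • x = 0 := by
  rw [← Groth.L29.FreeLevels.Sec_smulMod (puU 𝔞) F a x, ha]
  haveI : (Scheme.Modules.pushforward (puU 𝔞).ι).Additive :=
    (Scheme.Modules.pullbackPushforwardAdjunction (puU 𝔞).ι).right_adjoint_additive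
  haveI : (moduleSpecΓFunctor (R := CommRingCat.of A)).Additive :=
    (tilde.adjunction (R := CommRingCat.of A)).right_adjoint_additive
  haveI : (Sec (puU 𝔞)).Additive := inferInstance
  rw [Functor.map_zero]
  rfl

include hG in
/-- every coherent formal module is the restriction of a system of finite modules -/
theorem exists_system :
    ∃ (M : ℕ → Type u) (_ : ∀ n, AddCommGroup (M n)) (_ : ∀ n, Module A (M n)) (g : ∀ n, M (n + 1) →ₗ[A] M n),
      (∀ n, Module.Finite A (M n)) ∧ (∀ n, I ^ (n + 1) • (⊤ : Submodule A (M n)) = ⊥) ∧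
      (∀ n (x : M (n + 1)), g n x = 0 → ∃ m : ℕ, ∀ a ∈ 𝔞 ^ m, a • x ∈ I ^ (n + 1) • (⊤ : Submodule A (M (n + 1)))) ∧
      (∀ n (y : M n), ∃ m : ℕ, ∀ a ∈ 𝔞 ^ m, a • y ∈ LinearMap.range (g n)) ∧
      Nonempty (G ≅ Functor.ofOpSequence
        (X := fun n => (Scheme.Modules.restrictFunctor (puU 𝔞).ι).obj (Formal2.tmod A (M n)))
        (fun n => (Scheme.Modules.restrictFunctor (puU 𝔞).ι).map (Formal2.tmodMap A (g n)))) := by
  obtain ⟨S, hS, hle⟩ := exists_family 𝔞 I hG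
  haveI : ∀ n, Module.Finite A (S n) := fun n => (hS n).1
  let g : ∀ n, S (n + 1) →ₗ[A] S n := fun n =>
    ((secTr 𝔞 (G := G) n).comp (S (n + 1)).subtype).codRestrict (S n) fun x => hle n ⟨x.1, x.2, rfl⟩
  haveI hi : ∀ n, IsIso (cmp 𝔞 (G.obj (op n)) (S n)) := fun n => isIso_cmp 𝔞 _ (hG.1 n).1 (S n) (hS n)
  have hk : ∀ n, I ^ (n + 1) • (⊤ : Submodule A (S n)) = ⊥ := fun n =>
    le_bot_iff.1 (Submodule.smul_le.2 fun a ha x _ =>
      (Submodule.mem_bot A).2 (Subtype.ext (sec_smul_eq_zero 𝔞 _ a (hG.2.1 n a ha) x.1)))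
  let c : ∀ n, (modOn (puU 𝔞)).obj (ModuleCat.of A (S n)) ≅ G.obj (op n) := fun n => asIso (cmp 𝔞 (G.obj (op n)) (S n))
  have hnat : ∀ n, (modOn (puU 𝔞)).map (ModuleCat.ofHom (g n)) ≫ (c n).hom =
      (c (n + 1)).hom ≫ G.map (homOfLE (Nat.le_succ n)).op := by
    intro n
    change _ ≫ (modOn (puU 𝔞)).map _ ≫ _ = ((modOn (puU 𝔞)).map _ ≫ _) ≫ _
    rw [← Functor.map_comp_assoc, Category.assoc]
    refine Eq.trans ?_ (congrArg (_ ≫ ·) ((adjOn (puU 𝔞)).counit.naturality (G.map (homOfLE (Nat.le_succ n)).op)))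
    change _ = (modOn (puU 𝔞)).map _ ≫ (modOn (puU 𝔞)).map ((Sec (puU 𝔞)).map (G.map (homOfLE (Nat.le_succ n)).op)) ≫ _
    rw [← Functor.map_comp_assoc]
    rfl
  have hker : ∀ n (x : S (n + 1)), g n x = 0 →
      ∃ m : ℕ, ∀ a ∈ 𝔞 ^ m, a • x ∈ I ^ (n + 1) • (⊤ : Submodule A (S (n + 1))) := by
    intro n x hx
    let M := ModuleCat.of A (S (n + 1))
    obtain ⟨e, he⟩ := Groth.L29.Bridge.exists_modPowIso (puU 𝔞) I (S (n + 1)) n
    let gbar : Formal2.quotPow A I (S (n + 1)) n →ₗ[A] S n :=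
      (I ^ (n + 1) • (⊤ : Submodule A (S (n + 1)))).liftQ (g n) (Submodule.smul_le.2 fun a ha y _ => by
        rw [LinearMap.mem_ker, map_smul]
        exact (Submodule.mem_bot A).1 (hk n ▸ Submodule.smul_mem_smul ha Submodule.mem_top))
    obtain ⟨h0, hiso⟩ := hG.2.2 n
    haveI := hiso
    let P : modPow I (n + 1) (tM (puU 𝔞) (ModuleCat.of A (S (n + 1)))) ≅ modPow I (n + 1) (G.obj (op (n + 1))) :=
      { hom := Groth.L16.Exist.redMap I (n + 1) (c (n + 1)).hom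
        inv := Groth.L16.Exist.redMap I (n + 1) (c (n + 1)).inv
        hom_inv_id := by rw [Groth.L16.Exist.redMap_comp, (c (n + 1)).hom_inv_id]; exact Groth.L16.Exist.redMap_id I (n + 1) _
        inv_hom_id := by rw [Groth.L16.Exist.redMap_comp, (c (n + 1)).inv_hom_id]; exact Groth.L16.Exist.redMap_id I (n + 1) _ }
    have heq : modPowπ I (n + 1) (tM (puU 𝔞) (ModuleCat.of A (S (n + 1)))) ≫ P.hom ≫ cokernel.desc _ _ h0 =
        modPowπ I (n + 1) (tM (puU 𝔞) (ModuleCat.of A (S (n + 1)))) ≫ e.hom ≫ (modOn (puU 𝔞)).map (ModuleCat.ofHom gbar) ≫ (c n).hom := by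
      refine Eq.trans ?_ ((congrArg (· ≫ (modOn (puU 𝔞)).map (ModuleCat.ofHom gbar) ≫ (c n).hom) he.symm).trans
        (Category.assoc _ _ _))
      change _ = (modOn (puU 𝔞)).map (ModuleCat.ofHom (Formal2.quotPowπ A I (S (n + 1)) n)) ≫ _
      rw [← Functor.map_comp_assoc, ← ModuleCat.ofHom_comp, show gbar.comp (Formal2.quotPowπ A I (S (n + 1)) n) = g n
        from Submodule.liftQ_mkQ _ _ _, hnat]
      change cokernel.π _ ≫ Groth.L16.Exist.redMap I (n + 1) _ ≫ _ = _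
      refine (cokernel.π_desc_assoc _ _ _ _).trans ?_
      rw [Category.assoc]
      exact congrArg ((c (n + 1)).hom ≫ ·) (cokernel.π_desc _ _ h0)
    haveI : Epi (modPowπ I (n + 1) (tM (puU 𝔞) (ModuleCat.of A (S (n + 1))))) := inferInstanceAs (Epi (cokernel.π _))
    rw [cancel_epi] at heq
    haveI : IsIso (P.hom ≫ cokernel.desc _ _ h0) := IsIso.comp_isIso' (Iso.isIso_hom P) hiso
    haveI : IsIso (e.hom ≫ (modOn (puU 𝔞)).map (ModuleCat.ofHom gbar) ≫ (c n).hom) := heq ▸ inferInstance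
    haveI := IsIso.of_isIso_comp_left e.hom ((modOn (puU 𝔞)).map (ModuleCat.ofHom gbar) ≫ (c n).hom)
    haveI := IsIso.of_isIso_comp_right ((modOn (puU 𝔞)).map (ModuleCat.ofHom gbar)) (c n).hom
    obtain ⟨m, hm⟩ := exists_pow_smul_eq_zero_of_map (compl_Uo 𝔞) (ModuleCat.ofHom gbar) (Submodule.Quotient.mk x) hx
    exact ⟨m, fun a ha => (Submodule.Quotient.mk_eq_zero _).1 (hm a ha)⟩
  refine ⟨fun n => S n, inferInstance, inferInstance, g, inferInstance, hk, hker, fun n y => ?_, ?_⟩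
  · haveI : Epi ((modOn (puU 𝔞)).map (ModuleCat.ofHom (g n))) := by
      haveI := Groth.L16.Existence.epi_tr hG (Nat.le_succ n)
      rw [show (modOn (puU 𝔞)).map (ModuleCat.ofHom (g n)) = (c (n + 1)).hom ≫ tr G n (n + 1) (Nat.le_succ n) ≫ (c n).inv by
        rw [← cancel_mono (c n).hom, hnat]; simp [tr]]
      infer_instance
    exact exists_pow_smul_mem_range (compl_Uo 𝔞) (ModuleCat.ofHom (g n)) y
  · let F' : ℕᵒᵖ ⥤ ((puU 𝔞) : Scheme.{u}).Modules := Functor.ofOpSequence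
      (X := fun n => (Scheme.Modules.restrictFunctor (puU 𝔞).ι).obj (Formal2.tmod A (S n)))
      (fun n => (Scheme.Modules.restrictFunctor (puU 𝔞).ι).map (Formal2.tmodMap A (g n)))
    let τ : F' ⟶ G := NatTrans.ofOpSequence (fun n => (c n).hom) fun n => by
      rw [Functor.ofOpSequence_map_homOfLE_succ]
      exact hnat n
    haveI : ∀ k, IsIso (τ.app k) := fun k => inferInstanceAs (IsIso (c k.unop).hom)
    haveI := NatIso.isIso_of_isIso_app τ
    exact ⟨(asIso τ).symm⟩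

end Groth.L29.ModSys
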