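import Groth.Agent.L04.LC.Codim
import Groth.Agent.L04.LC.Annihilate
import Groth.Agent.L02.FibDepth.Semi
import Groth.Agent.L04.LC.Change
import Groth.Prelude.Def_Formal2

/-!
Annihilation of the local cohomology of `B/J` from depth two in codimension one, for `B/J` a quotient of a regular ring.
-/

set_option autoImplicit false
set_option backward.isDefEq.respectTransparency false
set_option backward.isDefEq.respectTransparency.types false
set_option linter.style.haveILetI false

universe u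

noncomputable section

namespace Groth.L29.NormFlatFinite

open Groth.L04 Groth.L04.LC

variable {B : Type u} [CommRing B] [IsNoetherianRing B] (J : Ideal B)

/-- the local ring of the quotient -/
theorem depth_quot (p : PrimeSpectrum (B ⧸ J)) (x : PrimeSpectrum B)
    (hx : x.asIdeal = p.asIdeal.comap (Ideal.Quotient.mk J)) :
    LocCoh.depth (Localization.AtPrime x.asIdeal)
        (Localization.AtPrime x.asIdeal ⧸ J.map (algebraMap B (Localization.AtPrime x.asIdeal))) =
      LocCoh.depth (Localization.AtPrime p.asIdeal) (LocalizedModule p.asIdeal.primeCompl (B ⧸ J)) := by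
  let R := Localization.AtPrime x.asIdeal
  let S := Localization.AtPrime p.asIdeal
  let φ : R →+* S := Localization.localRingHom x.asIdeal p.asIdeal (Ideal.Quotient.mk J) hx
  have hφ : ∀ (a : B) (s : x.asIdeal.primeCompl), φ (IsLocalization.mk' R a s) =
      IsLocalization.mk' S (Ideal.Quotient.mk J a)
        (⟨Ideal.Quotient.mk J s.1, fun h => s.2 (hx.ge h)⟩ : p.asIdeal.primeCompl) := fun a s =>
    Localization.localRingHom_mk' _ _ _ hx a s
  have hsurj : Function.Surjective φ := fun z => by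
    obtain ⟨a, s, rfl⟩ := IsLocalization.exists_mk'_eq p.asIdeal.primeCompl z
    obtain ⟨a, rfl⟩ := Ideal.Quotient.mk_surjective a
    obtain ⟨t, ht⟩ := Ideal.Quotient.mk_surjective s.1
    refine ⟨IsLocalization.mk' R a (⟨t, fun h => s.2 (ht ▸ hx.le h)⟩ : x.asIdeal.primeCompl), ?_⟩
    rw [hφ]
    congr 1
    exact Subtype.ext ht
  have hker : RingHom.ker φ = J.map (algebraMap B R) := by
    refine le_antisymm (fun z hz => ?_) (Ideal.map_le_iff_le_comap.2 fun a ha => ?_)
    · obtain ⟨a, s, rfl⟩ := IsLocalization.exists_mk'_eq x.asIdeal.primeCompl z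
      rw [RingHom.mem_ker, hφ, IsLocalization.mk'_eq_zero_iff] at hz
      obtain ⟨t, ht⟩ := hz
      obtain ⟨t', ht'⟩ := Ideal.Quotient.mk_surjective t.1
      have hJ : t' * a ∈ J := Ideal.Quotient.eq_zero_iff_mem.1 (by rw [map_mul, ht']; exact ht)
      rw [IsLocalization.mk'_mem_map_algebraMap_iff x.asIdeal.primeCompl R]
      exact ⟨t', fun h => t.2 (ht' ▸ hx.le h), hJ⟩
    · rw [Ideal.mem_comap, RingHom.mem_ker, Localization.localRingHom_to_map, Ideal.Quotient.eq_zero_iff_mem.2 ha,
        map_zero]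
  let eN : S ≃ₗ[S] LocalizedModule p.asIdeal.primeCompl (B ⧸ J) :=
    (IsLocalizedModule.iso p.asIdeal.primeCompl (Algebra.linearMap (B ⧸ J) S)).symm.extendScalarsOfIsLocalization
      p.asIdeal.primeCompl S
  let eq : (R ⧸ J.map (algebraMap B R)) ≃+ S :=
    ((Ideal.quotEquivOfEq hker.symm).trans (RingHom.quotientKerEquivOfSurjective hsurj)).toAddEquiv
  exact L02.FibDepth.Semi.depth_eq (R := R) (M := R ⧸ J.map (algebraMap B R)) (S := S)
    (N := LocalizedModule p.asIdeal.primeCompl (B ⧸ J))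
    { φ := φ
      surj := hsurj
      e := eq.trans eN.toAddEquiv
      map_smul := fun r m => by
        obtain ⟨m, rfl⟩ := Ideal.Quotient.mk_surjective m
        change eN (eq (Ideal.Quotient.mk _ (r * m))) = φ r • eN (eq (Ideal.Quotient.mk _ m))
        rw [← map_smul]
        congr 1
        exact map_mul φ r m }

/-- `H^i_𝔟(B/J)` is killed by a power of `𝔟` for `i ≤ 2` -/
theorem exists_killed_quot {S : Type u} [CommRing S] [IsRegularRing S] (π : S →+* B ⧸ J) (hπ : Function.Surjective π)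
    (𝔟 : Ideal B)
    (h : ∀ x y : PrimeSpectrum B, ¬ 𝔟 ≤ x.asIdeal → J ≤ x.asIdeal → 𝔟 ≤ y.asIdeal → x ⋖ y →
      (2 : ℕ∞) ≤ LocCoh.depth (Localization.AtPrime x.asIdeal)
        (Localization.AtPrime x.asIdeal ⧸ J.map (algebraMap B (Localization.AtPrime x.asIdeal))))
    (i : ℕ) (hi : i ≤ 2) :
    ∃ k : ℕ, ∀ a ∈ 𝔟 ^ k, ∀ z : LocCoh.H 𝔟 i (B ⧸ J), a • z = 0 := by
  let I : Ideal (B ⧸ J) := 𝔟.map (algebraMap B (B ⧸ J))
  have hfin := (finite_H_below_iff_depth π hπ I (B ⧸ J) 2).2 fun p q hp hq hcov => by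
    have hcov' : (PrimeSpectrum.comap (Ideal.Quotient.mk J) p) ⋖ (PrimeSpectrum.comap (Ideal.Quotient.mk J) q) := by
      refine ⟨lt_of_le_of_ne (Ideal.comap_mono hcov.le) fun he => hcov.ne
        (PrimeSpectrum.comap_injective_of_surjective _ Ideal.Quotient.mk_surjective he), fun r hpr hrq => ?_⟩
      have hJr : RingHom.ker (Ideal.Quotient.mk J) ≤ r.asIdeal :=
        le_trans (Ideal.comap_mono bot_le) hpr.le
      have hr : r ∈ Set.range (PrimeSpectrum.comap (Ideal.Quotient.mk J)) := by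
        rw [range_comap_of_surjective _ _ Ideal.Quotient.mk_surjective]
        exact hJr
      obtain ⟨r, rfl⟩ := hr
      have hle : ∀ {a b : PrimeSpectrum (B ⧸ J)}, PrimeSpectrum.comap (Ideal.Quotient.mk J) a <
          PrimeSpectrum.comap (Ideal.Quotient.mk J) b → a < b := fun {a b} hab => by
        refine lt_of_le_of_ne (fun z hz => ?_) fun he => hab.ne (by rw [he])
        obtain ⟨z, rfl⟩ := Ideal.Quotient.mk_surjective z
        exact hab.le hz
      exact hcov.2 (hle hpr) (hle hrq)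
    have := h _ _ (fun hle => hp (Ideal.map_le_iff_le_comap.2 hle)) (fun z hz => by
        change Ideal.Quotient.mk J z ∈ p.asIdeal
        rw [Ideal.Quotient.eq_zero_iff_mem.2 hz]
        exact Ideal.zero_mem _) (Ideal.map_le_iff_le_comap.1 hq) hcov'
    rwa [depth_quot J p _ rfl] at this
  haveI : Module.Finite (B ⧸ J) (LocCoh.H I i (B ⧸ J)) := hfin i hi
  obtain ⟨k, hk⟩ := exists_pow_smul_eq_zero_of_finite I (H := LocCoh.H I i (B ⧸ J))
    (isPowerTorsion_H I i (ModuleCat.of (B ⧸ J) (B ⧸ J)))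
  obtain ⟨φ, hφ⟩ := exists_H_restrict_equiv (R' := B ⧸ J) 𝔟 i (B ⧸ J)
  refine ⟨k, fun a ha z => ?_⟩
  obtain ⟨w, rfl⟩ := φ.surjective z
  rw [← hφ, hk _ (by rw [← Ideal.map_pow]; exact Ideal.mem_map_of_mem _ ha), map_zero]

end Groth.L29.NormFlatFinite
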