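import Groth.Agent.L29.Formal.GradedProjective
import Groth.Agent.L29.Formal.FreeLevelsFinite
import Groth.Agent.L21.Mod.Locality
import Groth.Agent.L12.DefoSh.Trivial
import Mathlib.RingTheory.Flat.EquationalCriterion
import Groth.Prelude.Def_EGA4b

/-!
For a normally flat pair `(B, J)` the monomial maps of a formal module which is locally free over the thickenings split.
-/

set_option autoImplicit false
set_option backward.isDefEq.respectTransparency false
set_option backward.isDefEq.respectTransparency.types false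
set_option linter.style.haveILetI false

universe u

open CategoryTheory CategoryTheory.Limits AlgebraicGeometry TopologicalSpace Opposite

noncomputable section

namespace Groth.L29.NormFlatSplit

open _root_.Formal (smulMod modPow modPowπ)
open Groth.L16 Groth.L16.Existence
open Groth.L29.Graded
open Groth.L04.PunctLin (tM tg)
open _root_.Algz (stalkMapₗ)

variable {B : Type u} [CommRing B] [IsNoetherianRing B] (J : Ideal B) {r : ℕ} (a : Fin r → B)
  (hI : J = Ideal.span (Set.range a))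

include hI in
/-- idempotent coefficients of a normally flat pair in degree `n+1` -/
theorem exists_coeff (hnf : EGA4.IsNormallyFlat J B) (n : ℕ) :
    ∃ c : Sn r n → Sn r n → B, (∀ e', (∑ e, c e e' * aE a e.1) - aE a e'.1 ∈ J ^ (n + 2)) ∧
      ∀ x : Sn r n → B, ∑ e', x e' * aE a e'.1 ∈ J ^ (n + 2) → ∀ e, ∑ e', c e e' * x e' ∈ J := by
  classical
  let P₀ : Submodule B B := J ^ (n + 1) • ⊤
  let K : Submodule B P₀ := J • ⊤
  haveI : Module.Flat (B ⧸ J) (↥P₀ ⧸ K) := hnf (n + 1)
  haveI : Module.Finite B P₀ := Module.IsNoetherian.finite _ _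
  haveI : Module.Finite B (↥P₀ ⧸ K) := Module.Finite.quotient B K
  haveI : Module.Finite (B ⧸ J) (↥P₀ ⧸ K) := Module.Finite.of_restrictScalars_finite B (B ⧸ J) _
  haveI : Module.FinitePresentation (B ⧸ J) (↥P₀ ⧸ K) := Module.finitePresentation_of_finite (B ⧸ J) _
  haveI : Module.Projective (B ⧸ J) (↥P₀ ⧸ K) := Module.Flat.projective_of_finitePresentation
  have hP : P₀ = J ^ (n + 1) := by simp [P₀]
  have hmemP : ∀ e : Sn r n, aE a e.1 ∈ P₀ := fun e => hP ▸
    (congrArg (fun k => J ^ k) e.2).le (aE_mem a (Groth.L16.Existence.mem_gen a hI) e.1)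
  have hK : K.map P₀.subtype = J ^ (n + 2) := by
    rw [Submodule.map_smul'', Submodule.map_top, Submodule.range_subtype, hP]
    change J * J ^ (n + 1) = J ^ (n + 2)
    rw [← pow_succ']
  let v : Sn r n → ↥P₀ ⧸ K := fun e => Submodule.Quotient.mk ⟨aE a e.1, hmemP e⟩
  let π : (Sn r n → B ⧸ J) →ₗ[B ⧸ J] ↥P₀ ⧸ K := Fintype.linearCombination (B ⧸ J) v
  have hπmk : ∀ x : Sn r n → B, π (fun e => Ideal.Quotient.mk J (x e)) =
      Submodule.Quotient.mk (∑ e, x e • (⟨aE a e.1, hmemP e⟩ : ↥P₀)) := fun x => by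
    rw [Fintype.linearCombination_apply]
    refine Eq.trans ?_ (map_sum K.mkQ _ _).symm
    exact Finset.sum_congr rfl fun e _ => algebraMap_smul (B ⧸ J) (x e) (v e)
  have hsurj : Function.Surjective π := fun z => by
    obtain ⟨⟨z, hz⟩, rfl⟩ := Submodule.Quotient.mk_surjective K z
    have h1 := pow_le_span a hI (n + 1) (hP ▸ hz)
    rw [show {z | ∃ e : Fin r →₀ ℕ, e.degree = n + 1 ∧ aE a e = z} = Set.range fun e : Sn r n => aE a e.1 from
      Set.ext fun z => ⟨fun ⟨e, he, h⟩ => ⟨⟨e, he⟩, h⟩, fun ⟨e, h⟩ => ⟨e.1, e.2, h⟩⟩] at h1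
    obtain ⟨l, hl⟩ := Ideal.mem_span_range_iff_exists_fun.1 h1
    refine ⟨fun e => Ideal.Quotient.mk J (l e), (hπmk l).trans (congrArg _ (Subtype.ext ?_))⟩
    simpa using hl
  obtain ⟨s, hs⟩ := Module.projective_lifting_property π LinearMap.id hsurj
  choose c hc using fun e' e => Ideal.Quotient.mk_surjective (s (v e') e)
  refine ⟨fun e e' => c e' e, fun e' => ?_, fun x hx e => ?_⟩
  · have h1 : π (fun e => Ideal.Quotient.mk J (c e' e)) = v e' := by
      rw [show (fun e => Ideal.Quotient.mk J (c e' e)) = s (v e') from funext fun e => hc e' e]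
      exact LinearMap.congr_fun hs (v e')
    rw [hπmk, Submodule.Quotient.eq] at h1
    rw [← hK]
    exact ⟨_, h1, by simp⟩
  · have h1 : ∑ e', Ideal.Quotient.mk J (x e') • v e' = 0 := by
      rw [← Fintype.linearCombination_apply]
      refine (hπmk x).trans ((Submodule.Quotient.mk_eq_zero K).2 ?_)
      rw [← hK] at hx
      obtain ⟨w, hw, hwx⟩ := hx
      have : (∑ e', x e' • (⟨aE a e'.1, hmemP e'⟩ : ↥P₀)) = w := Subtype.ext (by
        refine Eq.trans ?_ hwx.symm
        simp)
      rwa [this]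
    have h2 := congrFun ((congrArg s h1).trans (map_zero s)) e
    rw [map_sum, Finset.sum_apply] at h2
    rw [← Ideal.Quotient.eq_zero_iff_mem, map_sum]
    refine Eq.trans (Finset.sum_congr rfl fun e' _ => ?_) h2
    rw [map_mul, map_smul, Pi.smul_apply, smul_eq_mul, ← hc, mul_comm]

variable (U : (Spec (CommRingCat.of B)).Opens)

include hI in
/-- the relation property for the free model -/
theorem relAt_free (k n : ℕ) (c : Sn r n → Sn r n → B)
    (hc : ∀ x : Sn r n → B, ∑ e', x e' * aE a e'.1 ∈ J ^ (n + 2) → ∀ e, ∑ e', c e e' * x e' ∈ J)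
    (y : (U : Scheme.{u})) :
    RelAt a n c (tM U (ModuleCat.of B (Formal2.quotPow B J (Groth.L29.FreeLevels.FreeM B k) (n + 1)))) y := by
  classical
  let F : ModuleCat.{u} B ⥤ AddCommGrpCat.{u} :=
    Groth.L12.ZarPair.modOn U ⋙ Groth.L21.Mod.stalkF (U : Scheme.{u}) y
  haveI : PreservesFiniteLimits (Groth.L12.ZarPair.modOn U) := comp_preservesFiniteLimits _ _
  haveI : PreservesFiniteColimits (Groth.L12.ZarPair.modOn U) := comp_preservesFiniteColimits _ _
  haveI : PreservesFiniteLimits F := comp_preservesFiniteLimits _ _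
  haveI : PreservesFiniteColimits F := comp_preservesFiniteColimits _ _
  haveI : F.Additive := Functor.additive_of_preserves_binary_products F
  let M₀ := Formal2.quotPow B J (Groth.L29.FreeLevels.FreeM B k) (n + 1)
  let Q := ModuleCat.of B M₀
  have hsm : ∀ (b : B) (v : (F.obj Q : Type u)),
      stalkMapₗ (smulMod B (tM U Q) b) y v = F.map (Groth.L29.Formal.sc b Q) v := fun b v => by
    rw [Groth.L29.Formal.smulMod_tM]
    rfl
  -- relations in the module
  have hmod : ∀ q : Sn r n → M₀, ∑ e', aE a e'.1 • q e' = 0 → ∀ e, ∑ e', c e e' • q e' ∈ J • (⊤ : Submodule B M₀) := by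
    intro q hq e
    choose x hx using fun e' => Submodule.Quotient.mk_surjective _ (q e')
    have hq' : Submodule.Quotient.mk (p := J ^ (n + 1 + 1) • (⊤ : Submodule B (Groth.L29.FreeLevels.FreeM B k)))
        (∑ e', aE a e'.1 • x e') = 0 := by
      refine (map_sum (Submodule.mkQ _) _ _).trans (Eq.trans ?_ hq)
      exact Finset.sum_congr rfl fun e' _ => by rw [map_smul]; exact congrArg _ (hx e')
    rw [Submodule.Quotient.mk_eq_zero] at hq'
    have hj : ∀ j, ∑ e', x e' j * aE a e'.1 ∈ J ^ (n + 2) := fun j => by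
      have := (Submodule.map_smul'' _ _ (Finsupp.lapply j : Groth.L29.FreeLevels.FreeM B k →ₗ[B] B)).le ⟨_, hq', rfl⟩
      have := Submodule.smul_mono le_rfl le_top this
      simpa [smul_eq_mul, Ideal.mul_top, mul_comm] using this
    have hmem : ∑ e', c e e' • x e' ∈ J • (⊤ : Submodule B (Groth.L29.FreeLevels.FreeM B k)) := by
      rw [← Finsupp.univ_sum_single (∑ e', c e e' • x e')]
      refine Submodule.sum_mem _ fun j _ => ?_
      rw [← Finsupp.smul_single_one]
      refine Submodule.smul_mem_smul ?_ trivial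
      simpa using hc (fun e' => x e' j) (hj j) e
    have := (Submodule.map_smul'' _ _ (Submodule.mkQ (J ^ (n + 1 + 1) • (⊤ : Submodule B (Groth.L29.FreeLevels.FreeM B k))))).le
      ⟨_, hmem, rfl⟩
    have := Submodule.smul_mono le_rfl le_top this
    rw [map_sum] at this
    simp only [map_smul, Submodule.mkQ_apply, hx] at this
    exact this
  intro m hm e
  let P₀ := ModuleCat.of B (Sn r n → M₀)
  let sgl : ∀ e', Q ⟶ P₀ := fun e' => ModuleCat.ofHom (LinearMap.single B (fun _ => M₀) e')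
  let ψ : P₀ ⟶ Q := ModuleCat.ofHom (∑ e', aE a e'.1 • LinearMap.proj e')
  let θ : P₀ ⟶ Q := ModuleCat.ofHom (∑ e', c e e' • LinearMap.proj e')
  let R₀ := ModuleCat.of B (Fin r → M₀)
  let ρ : R₀ ⟶ Q := ModuleCat.ofHom (∑ i, a i • LinearMap.proj i)
  let z : (F.obj P₀ : Type u) := ∑ e', F.map (sgl e') (m e')
  have hsgl : ∀ (w : Sn r n → B) (e' : Sn r n), sgl e' ≫ ModuleCat.ofHom (∑ e', w e' • LinearMap.proj e') =
      Groth.L29.Formal.sc (w e') Q := fun w e' => by
    refine ModuleCat.hom_ext (LinearMap.ext fun q => ?_)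
    change (∑ e'', w e'' • LinearMap.proj (φ := fun _ => M₀) e'') (Pi.single e' q) = w e' • q
    rw [LinearMap.sum_apply, Finset.sum_eq_single e' (fun e'' _ h => by simp [Pi.single_eq_of_ne h])
      (fun h => absurd (Finset.mem_univ _) h)]
    simp
  have hψz : F.map ψ z = 0 := by
    rw [← hm, map_sum]
    refine Finset.sum_congr rfl fun e' _ => ?_
    rw [hsm, ← ConcreteCategory.comp_apply, ← F.map_comp, hsgl (fun e' => aE a e'.1)]
  obtain ⟨k₁, hk₁⟩ := (ShortComplex.ab_exact_iff _).1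
    ((ShortComplex.exact_of_f_is_kernel (ShortComplex.mk (kernel.ι ψ) ψ (kernel.condition ψ)) (kernelIsKernel ψ)).map F)
    z hψz
  have hzero : kernel.ι ψ ≫ θ ≫ cokernel.π ρ = 0 := by
    refine ModuleCat.hom_ext (LinearMap.ext fun u => ?_)
    let q : Sn r n → M₀ := (kernel.ι ψ).hom u
    have hq : ∑ e', aE a e'.1 • q e' = 0 := by
      have := ConcreteCategory.congr_hom (kernel.condition ψ) u
      refine Eq.trans ?_ this
      change _ = (∑ e', aE a e'.1 • LinearMap.proj (φ := fun _ => M₀) e') q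
      simp [LinearMap.sum_apply]
    have hrange : J • (⊤ : Submodule B M₀) ≤ LinearMap.range ρ.hom := by
      refine Submodule.smul_le.2 fun b hb v _ => ?_
      rw [hI, Ideal.mem_span_range_iff_exists_fun] at hb
      obtain ⟨l, rfl⟩ := hb
      refine ⟨fun i => l i • v, ?_⟩
      change (∑ i, a i • LinearMap.proj (φ := fun _ => M₀) i) _ = _
      simp [LinearMap.sum_apply, Finset.sum_smul, smul_smul, mul_comm]
    obtain ⟨w, hw⟩ := hrange (hmod q hq e)
    change (cokernel.π ρ).hom (θ.hom q) = 0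
    rw [show θ.hom q = ρ.hom w by
      rw [hw]
      change (∑ e', c e e' • LinearMap.proj (φ := fun _ => M₀) e') q = _
      simp [LinearMap.sum_apply]]
    exact ConcreteCategory.congr_hom (cokernel.condition ρ) w
  have h0 : F.map (cokernel.π ρ) (F.map θ z) = 0 := by
    rw [← hk₁]
    change F.map (cokernel.π ρ) (F.map θ (F.map (kernel.ι ψ) k₁)) = 0
    rw [← ConcreteCategory.comp_apply, ← ConcreteCategory.comp_apply, ← F.map_comp, ← F.map_comp, hzero, F.map_zero]
    rfl
  obtain ⟨w, hw⟩ := (ShortComplex.ab_exact_iff _).1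
    ((ShortComplex.exact_of_g_is_cokernel (ShortComplex.mk ρ (cokernel.π ρ) (cokernel.condition ρ))
      (cokernelIsCokernel ρ)).map F) (F.map θ z) h0
  let prj : ∀ i, R₀ ⟶ Q := fun i => ModuleCat.ofHom (LinearMap.proj i)
  refine ⟨fun i => F.map (prj i) w, ?_⟩
  have h1 : ∑ e', F.map (Groth.L29.Formal.sc (c e e') Q) (m e') = F.map θ z := by
    rw [map_sum]
    refine Finset.sum_congr rfl fun e' _ => ?_
    rw [← ConcreteCategory.comp_apply, ← F.map_comp, hsgl (fun e' => c e e')]
  refine (Finset.sum_congr rfl fun e' _ => hsm _ _).trans (h1.trans (hw.symm.trans ?_))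
  change F.map ρ w = _
  rw [show ρ = ∑ i, prj i ≫ Groth.L29.Formal.sc (a i) Q from ModuleCat.hom_ext (by
    simp only [ρ, ModuleCat.hom_sum, ModuleCat.hom_comp, ModuleCat.hom_ofHom]
    exact Finset.sum_congr rfl fun i _ => LinearMap.ext fun v => rfl), F.map_sum]
  refine Eq.trans (map_sum (AddMonoidHom.mk' (fun g : F.obj R₀ ⟶ F.obj Q => g w) fun g g' => rfl) _ _) ?_
  refine Finset.sum_congr rfl fun i _ => ?_
  change F.map (prj i ≫ _) w = _
  rw [F.map_comp]
  exact (hsm _ _).symm

include hI in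
/-- the monomial maps split -/
theorem split (hnf : EGA4.IsNormallyFlat J B) {G : ℕᵒᵖ ⥤ (U : Scheme.{u}).Modules}
    (hG : _root_.Formal.IsCohFormal J G)
    (hfree : ∀ n : ℕ, Formal2.IsFinLocFreeMod J (n + 1) (G.obj (op n))) :
    Split hG a hI := by
  classical
  refine split_of_relAt hG a hI fun n => ?_
  obtain ⟨c, hc₁, hc₂⟩ := exists_coeff J a hI hnf n
  refine ⟨c, hc₁, fun y => ?_⟩
  obtain ⟨V, k, hyV, ⟨φ⟩⟩ := hfree (n + 1) y
  let Fr := Groth.L29.FreeLevels.FreeM B k
  let eF : tM U (ModuleCat.of B Fr) ≅ FlatMod.freeMod (U : Scheme.{u}) k :=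
    (Scheme.Modules.restrictFunctor U.ι).mapIso (Groth.L05.OmegaRank.tildeFreeIso (R := CommRingCat.of B) k) ≪≫
      Groth.L16.NegPow.freeRestrictIso U k
  let eP : modPow J (n + 1 + 1) (FlatMod.freeMod (U : Scheme.{u}) k) ≅ modPow J (n + 1 + 1) (tM U (ModuleCat.of B Fr)) :=
    { hom := Groth.L16.Exist.redMap J (n + 1 + 1) eF.inv
      inv := Groth.L16.Exist.redMap J (n + 1 + 1) eF.hom
      hom_inv_id := by rw [Groth.L16.Exist.redMap_comp, eF.inv_hom_id, Groth.L16.Exist.redMap_id]
      inv_hom_id := by rw [Groth.L16.Exist.redMap_comp, eF.hom_inv_id, Groth.L16.Exist.redMap_id] }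
  obtain ⟨eQ, -⟩ := Groth.L29.Bridge.exists_modPowIso U J Fr (n + 1)
  let Q := tM U (ModuleCat.of B (Formal2.quotPow B J Fr (n + 1)))
  let R := Scheme.Modules.restrictFunctor V.ι
  let ψ : R.obj (G.obj (op (n + 1))) ≅ R.obj Q := φ ≪≫ R.mapIso eP ≪≫ R.mapIso eQ
  let v : (V : Scheme.{u}) := ⟨y, hyV⟩
  let S := Groth.L21.Mod.stalkF (V : Scheme.{u}) v
  let ρ := Groth.L21.Mod.restrictStalkF V.ι v
  let E : (G.obj (op (n + 1))).presheaf.stalk y ≃+ Q.presheaf.stalk y :=
    ((ρ.app _).symm ≪≫ S.mapIso ψ ≪≫ ρ.app _).addCommGroupIsoToAddEquiv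
  refine relAt_of_equiv a n c _ Q y y E (fun b x => ?_) (relAt_free J a hI U k n c hc₂ y)
  have hψ : R.map (smulMod B (G.obj (op (n + 1))) b) ≫ ψ.hom = ψ.hom ≫ R.map (smulMod B Q b) :=
    (Groth.L12.DefoSh.restrict_comp_smulModΓ ψ.hom _).symm
  change ρ.hom.app Q (S.map ψ.hom (ρ.inv.app _ ((Groth.L21.Mod.stalkF _ y).map (smulMod B _ b) x))) =
    (Groth.L21.Mod.stalkF _ y).map (smulMod B Q b) (ρ.hom.app Q (S.map ψ.hom (ρ.inv.app _ x)))
  have n1 := ρ.inv.naturality (smulMod B (G.obj (op (n + 1))) b)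
  have n2 := ρ.hom.naturality (smulMod B Q b)
  refine (congrArg (fun t => ρ.hom.app Q (S.map ψ.hom t)) (ConcreteCategory.congr_hom n1 x)).trans ?_
  change ρ.hom.app Q (S.map ψ.hom (S.map (R.map _) (ρ.inv.app _ x))) = _
  rw [← ConcreteCategory.comp_apply (S.map (R.map _)), ← S.map_comp, hψ, S.map_comp]
  exact ConcreteCategory.congr_hom n2 _

end Groth.L29.NormFlatSplit
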