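import Groth.Agent.L29.Formal.Killed
import Groth.Agent.S9405
import Mathlib.RingTheory.Filtration

/-!
Cohomology of the punctured open versus the limit along powers of a principal ideal.
-/

set_option autoImplicit false
set_option backward.isDefEq.respectTransparency false
set_option backward.isDefEq.respectTransparency.types false
set_option linter.style.haveILetI false

universe u

open CategoryTheory CategoryTheory.Limits TopologicalSpace Opposite AlgebraicGeometry

noncomputable section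

namespace Groth.L29.Formal

variable {A : Type u} [CommRing A]

theorem sc_mul (a b : A) (M : ModuleCat.{u} A) : sc (a * b) M = sc b M ≫ sc a M :=
  ModuleCat.hom_ext (LinearMap.ext fun m => mul_smul a b m)

theorem hm_add_sub {M N : ModuleCat.{u} A} (g : M ⟶ N) (U : (Spec (CommRingCat.of A)).Opens) (i : ℕ) (x y : H U M i) :
    hm g U i (x - y) = hm g U i x - hm g U i y := map_sub _ _ _

theorem exists_torsion_bound [IsNoetherianRing A] (f : A) (M : Type u) [AddCommGroup M] [Module A M] [Module.Finite A M] :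
    ∃ c : ℕ, ∀ (k : ℕ) (m : M), f ^ k • m = 0 → f ^ c • m = 0 := by
  let K : ℕ →o Submodule A M :=
    ⟨fun k => LinearMap.ker (f ^ k • (LinearMap.id : M →ₗ[A] M)), fun a b hab m hm => by
      simp only [LinearMap.mem_ker, LinearMap.smul_apply, LinearMap.id_apply] at hm ⊢
      rw [← Nat.sub_add_cancel hab, pow_add, mul_smul, hm, smul_zero]⟩
  haveI : IsNoetherian A M := isNoetherian_of_isNoetherianRing_of_finite A M
  obtain ⟨c, hc⟩ := monotone_stabilizes_iff_noetherian.mpr ‹_› K
  refine ⟨c, fun k m hm => ?_⟩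
  have h1 : m ∈ K (max k c) := K.monotone (le_max_left k c) (by simpa [K] using hm)
  rw [← hc _ (le_max_right k c)] at h1
  simpa [K] using h1

section Main

variable [IsNoetherianRing A] (𝔞 : Ideal A) (f : A) (M : Type u) [AddCommGroup M] [Module A M] [Module.Finite A M]

local notation "Uo" => LocCoh.puncturedOpen A 𝔞
set_option quotPrecheck false in
local notation "If" => Ideal.span (Singleton.singleton f : Set A)

theorem mem_pow_iff (k : ℕ) (m : M) : m ∈ If ^ k • (⊤ : Submodule A M) ↔ ∃ m', f ^ k • m' = m := by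
  rw [Ideal.span_singleton_pow, Submodule.ideal_span_singleton_smul]
  exact ⟨fun ⟨m', _, h⟩ => ⟨m', h⟩, fun ⟨m', h⟩ => ⟨m', trivial, h⟩⟩

/-- quotient map as a morphism -/
abbrev qm (n : ℕ) : ModuleCat.of A M ⟶ ModuleCat.of A (Formal2.quotPow A If M n) :=
  ModuleCat.ofHom (Formal2.quotPowπ A If M n)

/-- transition as a morphism -/
abbrev tm (n : ℕ) : ModuleCat.of A (Formal2.quotPow A If M (n + 1)) ⟶ ModuleCat.of A (Formal2.quotPow A If M n) :=
  ModuleCat.ofHom (Formal2.quotPowTrans A If M n)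

theorem qm_tm (n : ℕ) : qm f M (n + 1) ≫ tm f M n = qm f M n :=
  ModuleCat.hom_ext (LinearMap.ext fun _ => rfl)

variable {M}

theorem compat_down {i : ℕ} (U : (Spec (CommRingCat.of A)).Opens)
    (y : ∀ n, H U (ModuleCat.of A (Formal2.quotPow A If M n)) i) (hy : ∀ n, hm (tm f M n) U i (y (n + 1)) = y n)
    (x : H U (ModuleCat.of A M) i) (n : ℕ) : ∀ d, hm (qm f M (n + d)) U i x = y (n + d) → hm (qm f M n) U i x = y n := by
  intro d
  induction d with
  | zero => exact id
  | succ d ih =>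
    intro h
    refine ih ?_
    rw [← qm_tm f M (n + d), hm_comp]
    exact (congrArg _ h).trans (hy (n + d))

/-- the punctured open: degree `i` cohomology is the limit along powers of `f` -/
theorem formalCohBijective [IsAdicComplete If A] (i : ℕ)
    (h₁ : ∃ k : ℕ, ∀ x : LocCoh.H 𝔞 (i + 1) M, f ^ k • x = 0)
    (h₂ : ∃ k : ℕ, ∀ x : LocCoh.H 𝔞 (i + 2) M, f ^ k • x = 0) :
    Formal2.FormalCohBijective A If M i Uo := by
  obtain ⟨k₁, hk₁⟩ := h₁
  obtain ⟨k₂, hk₂⟩ := h₂
  obtain ⟨c, hc⟩ := exists_torsion_bound f M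
  let Mc := ModuleCat.of A M
  let T : Submodule A M := LinearMap.ker (f ^ c • (LinearMap.id : M →ₗ[A] M))
  let Tc := ModuleCat.of A T
  let Mb := ModuleCat.of A (M ⧸ T)
  let S₀ : ShortComplex (ModuleCat.{u} A) := ShortComplex.mk (ModuleCat.ofHom T.subtype : Tc ⟶ Mc) (ModuleCat.ofHom T.mkQ : Mc ⟶ Mb)
    (ModuleCat.hom_ext (LinearMap.ext fun t => (Submodule.Quotient.mk_eq_zero T).2 t.2))
  have hS₀ : S₀.ShortExact :=
    { exact := (ShortComplex.moduleCat_exact_iff _).2 fun m hm => ⟨⟨m, (Submodule.Quotient.mk_eq_zero T).1 hm⟩, rfl⟩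
      mono_f := (ModuleCat.mono_iff_injective _).2 T.injective_subtype
      epi_g := (ModuleCat.epi_iff_surjective _).2 T.mkQ_surjective }
  -- `f ^ (c + k₂)` kills `H^{i+1}` of `M / T`
  have hB : ∀ x : H Uo Mb (i + 1), hm (sc (f ^ (k₂ + c)) Mb) Uo (i + 1) x = 0 := by
    intro x
    let φ : ∀ a : A, S₀ ⟶ S₀ := fun a => ShortComplex.homMk (sc a S₀.X₁) (sc a S₀.X₂) (sc a S₀.X₃)
      (ModuleCat.hom_ext (LinearMap.ext fun z => map_smul S₀.f.hom a z))
      (ModuleCat.hom_ext (LinearMap.ext fun z => map_smul S₀.g.hom a z))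
    have h0 : dl Uo hS₀ (i + 1) (hm (sc (f ^ c) Mb) Uo (i + 1) x) = 0 := by
      rw [show hm (sc (f ^ c) Mb) Uo (i + 1) x = hm (φ (f ^ c)).τ₃ Uo (i + 1) x from rfl, ← dl_natural Uo hS₀ hS₀]
      have : (φ (f ^ c)).τ₁ = 0 := ModuleCat.hom_ext (LinearMap.ext fun t => Subtype.ext
        (show f ^ c • ((t : T) : M) = 0 from LinearMap.mem_ker.1 (t : T).2))
      rw [this, hm_zero]
    obtain ⟨w, hw⟩ := exists_of_dl_eq_zero Uo hS₀ (i + 1) _ h0
    rw [pow_add, sc_mul, hm_comp, ← hw, ← hm_comp,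
      show S₀.g ≫ sc (f ^ k₂) Mb = sc (f ^ k₂) Mc ≫ S₀.g from
        ModuleCat.hom_ext (LinearMap.ext fun z => (map_smul S₀.g.hom (f ^ k₂) z).symm),
      hm_comp, hm_sc_eq_zero 𝔞 i Mc _ hk₂, map_zero]
  -- the sequences `M / T → M → M / f^(n+1)`
  let j : ∀ n : ℕ, c ≤ n → (Mb ⟶ Mc) := fun n hn => ModuleCat.ofHom (T.liftQ (f ^ n • LinearMap.id) fun m hm => by
    simp only [T, LinearMap.mem_ker, LinearMap.smul_apply, LinearMap.id_apply] at hm ⊢
    rw [← Nat.sub_add_cancel hn, pow_add, mul_smul, hm, smul_zero])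
  have hj : ∀ n hn (m : M), (j n hn).hom (Submodule.Quotient.mk m) = f ^ n • m := fun n hn m => rfl
  let S : ∀ n : ℕ, c ≤ n + 1 → ShortComplex (ModuleCat.{u} A) := fun n hn =>
    ShortComplex.mk (j (n + 1) hn) (qm f M n) (ModuleCat.hom_ext (LinearMap.ext fun z => by
      obtain ⟨m, rfl⟩ := Submodule.Quotient.mk_surjective T z
      exact (Submodule.Quotient.mk_eq_zero _).2 ((mem_pow_iff f M _ _).2 ⟨m, (hj _ hn m).symm⟩)))
  have hS : ∀ n hn, (S n hn).ShortExact := fun n hn =>
    { exact := (ShortComplex.moduleCat_exact_iff _).2 fun m hm => by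
        obtain ⟨m', hm'⟩ := (mem_pow_iff f M _ _).1 ((Submodule.Quotient.mk_eq_zero _).1 hm)
        exact ⟨Submodule.Quotient.mk m', (hj _ hn m').trans hm'⟩
      mono_f := (ModuleCat.mono_iff_injective _).2 ((injective_iff_map_eq_zero _).2 fun z hz => by
        obtain ⟨m, rfl⟩ := Submodule.Quotient.mk_surjective T z
        exact (Submodule.Quotient.mk_eq_zero T).2 (hc (n + 1) m ((hj _ hn m).symm.trans hz)))
      epi_g := (ModuleCat.epi_iff_surjective _).2 (Submodule.mkQ_surjective _) }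
  let Φ : ∀ n (hn : c ≤ n + 1), S (n + 1) (hn.trans (Nat.le_succ _)) ⟶ S n hn := fun n hn =>
    ShortComplex.homMk (sc f Mb) (𝟙 _) (tm f M n)
      (ModuleCat.hom_ext (LinearMap.ext fun z => by
        obtain ⟨m, rfl⟩ := Submodule.Quotient.mk_surjective T z
        change (j (n + 1) hn).hom (Submodule.Quotient.mk (f • m)) = (j (n + 1 + 1) (hn.trans (Nat.le_succ _))).hom (Submodule.Quotient.mk m)
        rw [hj _ hn, hj _ (hn.trans (Nat.le_succ _)), smul_smul, ← pow_succ]))
      (ModuleCat.hom_ext (LinearMap.ext fun _ => rfl))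
  -- lifts
  have hlift : ∀ (y : ∀ n, H Uo (ModuleCat.of A (Formal2.quotPow A If M n)) i),
      (∀ n, hm (tm f M n) Uo i (y (n + 1)) = y n) → ∀ n, c ≤ n + 1 → ∃ x : H Uo Mc i, hm (qm f M n) Uo i x = y n := by
    intro y hy n hn
    refine exists_of_dl_eq_zero Uo (hS n hn) i (y n) ?_
    have key : ∀ e, dl Uo (hS n hn) i (y n) =
        hm (sc (f ^ e) Mb) Uo (i + 1) (dl Uo (hS (n + e) (hn.trans (by omega))) i (y (n + e))) := by
      intro e
      induction e with
      | zero =>
        rw [show sc (f ^ 0) Mb = 𝟙 Mb from ModuleCat.hom_ext (LinearMap.ext fun z => by simp), hm_apply,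
          CategoryTheory.Functor.map_id, Abelian.Ext.comp_mk₀_id]
        rfl
      | succ e ih =>
        rw [ih, pow_succ, sc_mul, hm_comp, ← hy (n + e)]
        refine congrArg _ ?_
        exact (dl_natural Uo _ _ (Φ (n + e) (hn.trans (by omega))) i (y (n + e + 1))).symm
    rw [key (k₂ + c), hB]
  -- the kernel of `H^i(U, M) → H^i(U, M / f^(n+1))`
  have hker : ∀ n (hn : c ≤ n + 1) (x : H Uo Mc i), hm (qm f M n) Uo i x = 0 →
      ∃ z : H Uo Mb i, hm (sc (f ^ (n + 1 - c)) Mc) Uo i (hm (j c le_rfl) Uo i z) = x := by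
    intro n hn x hx
    obtain ⟨z, hz⟩ := exists_of_hm_g_eq_zero Uo (hS n hn) i x hx
    refine ⟨z, ?_⟩
    rw [← hm_comp, show j c le_rfl ≫ sc (f ^ (n + 1 - c)) Mc = (S n hn).f from
      ModuleCat.hom_ext (LinearMap.ext fun z => by
        obtain ⟨m, rfl⟩ := Submodule.Quotient.mk_surjective T z
        change f ^ (n + 1 - c) • (j c le_rfl).hom (Submodule.Quotient.mk m) = (j (n + 1) hn).hom (Submodule.Quotient.mk m)
        rw [hj c le_rfl, hj _ hn, smul_smul, ← pow_add, Nat.sub_add_cancel hn])]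
    exact hz
  cases i with
  | succ i =>
    have h0 : ∀ n, c + k₁ ≤ n + 1 → ∀ x : H Uo Mc (i + 1), hm (qm f M n) Uo (i + 1) x = 0 → x = 0 := by
      intro n hn x hx
      obtain ⟨z, rfl⟩ := hker n (by omega) x hx
      rw [show n + 1 - c = k₁ + (n + 1 - c - k₁) by omega, pow_add, sc_mul, hm_comp]
      exact hm_sc_eq_zero 𝔞 i Mc _ hk₁ _
    constructor
    · intro x x' hxx
      refine sub_eq_zero.1 (h0 (c + k₁) (by omega) _ ?_)
      rw [map_sub, sub_eq_zero]
      exact hxx _
    · intro y hy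
      obtain ⟨x, hx⟩ := hlift y hy (c + k₁) (by omega)
      refine ⟨x, fun n => ?_⟩
      refine compat_down f Uo y hy x n (c + k₁) ?_
      obtain ⟨x', hx'⟩ := hlift y hy (n + (c + k₁)) (by omega)
      have hx'' : hm (qm f M (c + k₁)) Uo (i + 1) x' = y (c + k₁) :=
        compat_down f Uo y hy x' (c + k₁) n (by rwa [add_comm (c + k₁) n])
      obtain rfl : x = x' := sub_eq_zero.1 (h0 (c + k₁) (by omega) _ (by rw [map_sub, hx, hx'', sub_self]))
      exact hx'
  | zero =>
    haveI : IsAdicComplete If M := Groth.Agent.S9405.isAdicComplete_of_finite _ M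
    let tO := (tilde.toOpen (R := CommRingCat.of A) Mc Uo).hom
    -- kernel elements come from `f^l M`
    have hker0 : ∀ n l, n + 1 = c + k₁ + l → ∀ x : H Uo Mc 0, hm (qm f M n) Uo 0 x = 0 →
        ∃ m : M, h0 Uo Mc x = tO (f ^ l • m) := by
      intro n l hn x hx
      obtain ⟨z, hz⟩ := hker n (by omega) x hx
      obtain ⟨m, hm'⟩ := smul_mem_range 𝔞 Mc (f ^ k₁) hk₁ (h0 Uo Mc (hm (j c le_rfl) Uo 0 z))
      refine ⟨m, ?_⟩
      rw [← hz, h0_sc, show n + 1 - c = l + k₁ by omega, pow_add, mul_smul, ← hm', ← map_smul]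
    have htO : ∀ n (m : M), hm (qm f M n) Uo 0 ((h0 Uo Mc).symm (tO (f ^ (n + 1) • m))) = 0 := by
      intro n m
      refine (h0 Uo _).injective ?_
      rw [h0_hm, AddEquiv.apply_symm_apply, secMap_toOpen, map_zero,
        show (qm f M n).hom (f ^ (n + 1) • m) = 0 from
          (Submodule.Quotient.mk_eq_zero _).2 ((mem_pow_iff f M _ _).2 ⟨m, rfl⟩), map_zero]
    constructor
    · intro x x' hxx
      refine sub_eq_zero.1 ((h0 Uo Mc).injective ?_)
      rw [map_zero]
      let P := LinearMap.range tO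
      haveI : Module.Finite A P := Module.Finite.range tO
      have hmem : ∀ l : ℕ, ∃ m : M, h0 Uo Mc (x - x') = tO (f ^ (l + 1) • m) := fun l =>
        hker0 (c + k₁ + l) (l + 1) (by omega) _ (by rw [map_sub, sub_eq_zero]; exact hxx _)
      obtain ⟨m₀, hm₀⟩ := hmem 0
      let p : P := ⟨h0 Uo Mc (x - x'), ⟨_, hm₀.symm⟩⟩
      have hp : p ∈ ⨅ l : ℕ, If ^ l • (⊤ : Submodule A P) := by
        refine Submodule.mem_iInf _ |>.2 fun l => ?_
        obtain ⟨m, hm'⟩ := hmem l
        refine (mem_pow_iff f P l p).2 ⟨⟨tO (f • m), ⟨_, rfl⟩⟩, Subtype.ext ?_⟩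
        change f ^ l • tO (f • m) = h0 Uo Mc (x - x')
        rw [hm', ← map_smul, smul_smul, ← pow_succ]
      rw [Ideal.iInf_pow_smul_eq_bot_of_le_jacobson _ (IsAdicComplete.le_jacobson_bot If)] at hp
      exact congrArg Subtype.val ((Submodule.mem_bot A).1 hp)
    · intro y hy
      have hl : ∀ l, ∃ x : H Uo Mc 0, hm (qm f M (c + k₁ + l)) Uo 0 x = y (c + k₁ + l) := fun l =>
        hlift y hy _ (by omega)
      choose xs hxs using hl
      have hd : ∀ l, ∃ m : M, h0 Uo Mc (xs (l + 1) - xs l) = tO (f ^ (l + 1) • m) := by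
        intro l
        refine hker0 (c + k₁ + l) (l + 1) (by omega) _ ?_
        rw [map_sub, hxs, sub_eq_zero]
        exact compat_down f Uo y hy (xs (l + 1)) (c + k₁ + l) 1 (hxs (l + 1))
      choose ms hms using hd
      let w : ℕ → M := fun l => ∑ t ∈ Finset.range l, f ^ (t + 1) • ms t
      obtain ⟨L, hL⟩ := IsPrecomplete.prec (I := If) (M := M) inferInstance (f := w) (by
        intro a b hab
        rw [SModEq.sub_mem, ← neg_sub]
        refine neg_mem ?_
        change (∑ t ∈ Finset.range b, _) - (∑ t ∈ Finset.range a, _) ∈ _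
        rw [← Finset.sum_Ico_eq_sub _ hab]
        refine Submodule.sum_mem _ fun t ht => ?_
        rw [mem_pow_iff]
        refine ⟨f ^ (t + 1 - a) • ms t, ?_⟩
        rw [smul_smul, ← pow_add, Nat.add_sub_cancel' (by have := (Finset.mem_Ico.1 ht).1; omega)])
      refine ⟨xs 0 + (h0 Uo Mc).symm (tO L), fun n => compat_down f Uo y hy _ n (c + k₁) ?_⟩
      have hx : ∀ l, h0 Uo Mc (xs l) = h0 Uo Mc (xs 0) + tO (w l) := by
        intro l
        induction l with
        | zero => simp [w]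
        | succ l ih =>
          rw [show w (l + 1) = w l + f ^ (l + 1) • ms l from Finset.sum_range_succ _ _, map_add, ← add_assoc, ← ih,
            ← hms l, map_sub, add_sub_cancel]
      let N := n + (c + k₁)
      obtain ⟨m', hm'⟩ := (mem_pow_iff f M _ _).1 (SModEq.sub_mem.1 (hL (N + 1)))
      have h2 : xs 0 + (h0 Uo Mc).symm (tO L) = xs (N + 1) - (h0 Uo Mc).symm (tO (f ^ (N + 1) • m')) := by
        refine (h0 Uo Mc).injective ?_
        rw [map_add, map_sub, AddEquiv.apply_symm_apply, AddEquiv.apply_symm_apply, hx (N + 1), hm', map_sub]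
        abel
      rw [h2, map_sub, htO N m', sub_zero]
      exact compat_down f Uo y hy (xs (N + 1)) N (c + k₁ + 1) (by
        rw [show N + (c + k₁ + 1) = c + k₁ + (N + 1) by omega]; exact hxs _)

end Main

end Groth.L29.Formal
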