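import Groth.Agent.L29.Formal.ColimZero
import Groth.Agent.L04.Koszul.Punctured
import Groth.Agent.L05.Krasner.Newton
import Groth.Agent.S11677
import Mathlib.LinearAlgebra.Matrix.Charpoly.LinearMap

/-!
Sections near `V(f)` versus the limit along the powers of a regular element, without dualizing complexes.
-/

set_option autoImplicit false
set_option backward.isDefEq.respectTransparency false
set_option backward.isDefEq.respectTransparency.types false
set_option linter.style.haveILetI false

universe u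

open CategoryTheory CategoryTheory.Limits AlgebraicGeometry TopologicalSpace Opposite

attribute [local instance] HasDerivedCategory.standard

noncomputable section

namespace Groth.L29.PrincipalColim

open Groth.L29.CechSect Groth.L29.Formal Groth.L29.ColimZero

variable {A : Type u} [CommRing A]

theorem secMap_comp {V : (Spec (CommRingCat.of A)).Opens} {M N P : Type u}
    [AddCommGroup M] [Module A M] [AddCommGroup N] [Module A N] [AddCommGroup P] [Module A P]
    (f : M →ₗ[A] N) (g : N →ₗ[A] P) (s : sec V (ModuleCat.of A M)) :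
    (secMap V (ModuleCat.ofHom g)).hom ((secMap V (ModuleCat.ofHom f)).hom s) =
      (secMap V (ModuleCat.ofHom (g.comp f))).hom s := by
  obtain ⟨x, rfl⟩ := (h0 V (ModuleCat.of A M)).surjective s
  rw [← h0_hm, ← h0_hm, ← h0_hm, ← hm_comp]
  rfl

theorem secMap_zero {V : (Spec (CommRingCat.of A)).Opens} {M N : Type u}
    [AddCommGroup M] [Module A M] [AddCommGroup N] [Module A N] (s : sec V (ModuleCat.of A M)) :
    (secMap V (ModuleCat.ofHom (0 : M →ₗ[A] N))).hom s = 0 := by
  obtain ⟨x, rfl⟩ := (h0 V (ModuleCat.of A M)).surjective s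
  rw [← h0_hm, show ModuleCat.ofHom (0 : M →ₗ[A] N) = 0 from rfl, hm_zero, map_zero]

theorem sec_exact (V : (Spec (CommRingCat.of A)).Opens) {M N P : Type u}
    [AddCommGroup M] [Module A M] [AddCommGroup N] [Module A N] [AddCommGroup P] [Module A P]
    (f : M →ₗ[A] N) (g : N →ₗ[A] P) (hf : Function.Injective f) (hg : Function.Surjective g)
    (hfg : LinearMap.range f = LinearMap.ker g) (s : sec V (ModuleCat.of A N))
    (hs : (secMap V (ModuleCat.ofHom g)).hom s = 0) :
    ∃ t, (secMap V (ModuleCat.ofHom f)).hom t = s := by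
  obtain ⟨x, rfl⟩ := (h0 V (ModuleCat.of A N)).surjective s
  have hS := Groth.L04.LC.ses_shortExact f g hf hg (LinearMap.exact_iff.2 hfg.symm)
  obtain ⟨y, hy⟩ := exists_of_hm_g_eq_zero V hS 0 x ((h0 V _).injective (by rw [h0_hm, hs, map_zero]))
  exact ⟨h0 V _ y, by rw [← h0_hm]; exact congrArg _ hy⟩

variable (U : (Spec (CommRingCat.of A)).Opens) (I : Ideal A) (M : Type u) [AddCommGroup M] [Module A M]

/-- sections of the levels -/
abbrev sU (n : ℕ) : ModuleCat.{u} A := sec U (ModuleCat.of A (Formal2.quotPow A I M n))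

/-- compatible families -/
def Lim : Submodule A (∀ n, sU U I M n) :=
  ⨅ n, LinearMap.ker ((secMap U (ModuleCat.ofHom (Formal2.quotPowTrans A I M n))).hom.comp
    (LinearMap.proj (n + 1) : (∀ n, sU U I M n) →ₗ[A] sU U I M (n + 1)) -
    (LinearMap.proj n : (∀ n, sU U I M n) →ₗ[A] sU U I M n))

theorem mem_Lim {x : ∀ n, sU U I M n} : x ∈ Lim U I M ↔
    ∀ n, (secMap U (ModuleCat.ofHom (Formal2.quotPowTrans A I M n))).hom (x (n + 1)) = x n := by
  simp [Lim, Submodule.mem_iInf, sub_eq_zero]

/-- from the module -/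
def phi : M →ₗ[A] Lim U I M :=
  LinearMap.codRestrict _ (LinearMap.pi fun n =>
    (tilde.toOpen (R := CommRingCat.of A) (ModuleCat.of A (Formal2.quotPow A I M n)) U).hom.comp
      (Formal2.quotPowπ A I M n)) fun _ => (mem_Lim U I M).2 fun _ => secMap_toOpen U _ _

variable (f : A)

set_option quotPrecheck false in
local notation "If" => Ideal.span (Singleton.singleton f : Set A)

theorem exists_of_zero (hreg : IsSMulRegular M f) (y : Lim U If M) (h0y : (y : ∀ n, sU U If M n) 0 = 0) :
    ∃ z : Lim U If M, f • z = y := by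
  have hmem : ∀ (k : ℕ) (a : M), a ∈ If ^ k • (⊤ : Submodule A M) ↔ ∃ b, f ^ k • b = a := fun k a => by
    rw [Ideal.span_singleton_pow, Submodule.ideal_span_singleton_smul, Submodule.mem_smul_pointwise_iff_exists]
    simp
  let j : ∀ n, Formal2.quotPow A If M n →ₗ[A] Formal2.quotPow A If M (n + 1) := fun n =>
    Submodule.mapQ _ _ (f • LinearMap.id) (fun a ha => by
      obtain ⟨b, rfl⟩ := (hmem _ a).1 ha
      exact (hmem _ _).2 ⟨b, by rw [pow_succ', mul_smul]; rfl⟩)
  have hj : ∀ n, Function.Injective (j n) := fun n => (injective_iff_map_eq_zero _).2 fun z hz => by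
    obtain ⟨a, rfl⟩ := Submodule.Quotient.mk_surjective _ z
    obtain ⟨b, hb⟩ := (hmem _ _).1 ((Submodule.Quotient.mk_eq_zero _).1 hz)
    refine (Submodule.Quotient.mk_eq_zero _).2 ((hmem _ a).2 ⟨b, hreg ?_⟩)
    change f • f ^ (n + 1) • b = f • a
    rw [← mul_smul, ← pow_succ']
    exact hb
  let p : ∀ n, Formal2.quotPow A If M n →ₗ[A] Formal2.quotPow A If M 0 := fun n =>
    Nat.rec (motive := fun n => Formal2.quotPow A If M n →ₗ[A] Formal2.quotPow A If M 0) LinearMap.id
      (fun k q => q.comp (Formal2.quotPowTrans A If M k)) n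
  have hpmk : ∀ n (a : M), p n (Submodule.Quotient.mk a) = Submodule.Quotient.mk a := by
    intro n a
    induction n with
    | zero => rfl
    | succ n ih => exact ih
  have hp : ∀ n, Function.Surjective (p n) := fun n z => by
    obtain ⟨a, rfl⟩ := Submodule.Quotient.mk_surjective _ z
    exact ⟨Submodule.Quotient.mk a, hpmk n a⟩
  have hjmk : ∀ n (a : M), j n (Submodule.Quotient.mk a) = Submodule.Quotient.mk (f • a) := fun n a =>
    Submodule.mapQ_apply _ _ _ a
  have htmk : ∀ n (a : M), Formal2.quotPowTrans A If M n (Submodule.Quotient.mk a) = Submodule.Quotient.mk a :=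
    fun n a => Submodule.mapQ_apply _ _ _ a
  have hjp : ∀ n, LinearMap.range (j n) = LinearMap.ker (p (n + 1)) := fun n => le_antisymm (by
      rintro _ ⟨z, rfl⟩
      obtain ⟨a, rfl⟩ := Submodule.Quotient.mk_surjective _ z
      rw [LinearMap.mem_ker, hjmk]
      exact (hpmk (n + 1) (f • a)).trans
        ((Submodule.Quotient.mk_eq_zero _).2 ((hmem _ _).2 ⟨a, by rw [zero_add, pow_one]⟩))) fun z hz => by
      obtain ⟨a, rfl⟩ := Submodule.Quotient.mk_surjective _ z
      obtain ⟨b, hb⟩ := (hmem _ _).1 ((Submodule.Quotient.mk_eq_zero _).1 ((hpmk (n + 1) a).symm.trans hz))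
      rw [zero_add, pow_one] at hb
      exact ⟨Submodule.Quotient.mk b, (hjmk n b).trans (congrArg Submodule.Quotient.mk hb)⟩
  have hy := (mem_Lim U If M).1 y.2
  have hpy : ∀ n, (secMap U (ModuleCat.ofHom (p n))).hom (y.1 n) = y.1 0 := by
    intro n
    induction n with
    | zero =>
      rw [h0y]
      exact map_zero _
    | succ n ih => exact ((secMap_comp _ (p n) _).symm.trans (congrArg _ (hy n))).trans ih
  choose z hz using fun n => sec_exact U (j n) (p (n + 1)) (hj n) (hp (n + 1)) (hjp n) (y.1 (n + 1))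
    ((hpy (n + 1)).trans h0y)
  have hinj : ∀ n (a b : sU U If M n), (secMap U (ModuleCat.ofHom (j n))).hom a = (secMap U (ModuleCat.ofHom (j n))).hom b → a = b := by
    intro n a b hab
    haveI : Mono ((T A).map (ModuleCat.ofHom (j n))) :=
      (T_shortExact (Groth.L04.LC.ses_shortExact (j n) (p (n + 1)) (hj n) (hp (n + 1))
        (LinearMap.exact_iff.2 (hjp n).symm))).mono_f
    have hmono : Mono (((T A).map (ModuleCat.ofHom (j n))).hom.app (op U)) := inferInstance
    exact (AddCommGrpCat.mono_iff_injective _).1 hmono hab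
  have hzc : ∀ n, (secMap U (ModuleCat.ofHom (Formal2.quotPowTrans A If M n))).hom (z (n + 1)) = z n := fun n => by
    refine hinj n _ _ ?_
    have e : (j n).comp (Formal2.quotPowTrans A If M n) = (Formal2.quotPowTrans A If M (n + 1)).comp (j (n + 1)) := by
      refine LinearMap.ext fun w => ?_
      obtain ⟨a, rfl⟩ := Submodule.Quotient.mk_surjective _ w
      rw [LinearMap.comp_apply, LinearMap.comp_apply, htmk, hjmk, hjmk, htmk]
    calc (secMap U (ModuleCat.ofHom (j n))).hom
          ((secMap U (ModuleCat.ofHom (Formal2.quotPowTrans A If M n))).hom (z (n + 1)))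
        = (secMap U (ModuleCat.ofHom ((j n).comp (Formal2.quotPowTrans A If M n)))).hom (z (n + 1)) :=
          secMap_comp (Formal2.quotPowTrans A If M n) (j n) (z (n + 1))
      _ = (secMap U (ModuleCat.ofHom ((Formal2.quotPowTrans A If M (n + 1)).comp (j (n + 1))))).hom (z (n + 1)) :=
          congrArg (fun φ => (secMap U (ModuleCat.ofHom φ)).hom (z (n + 1))) e
      _ = (secMap U (ModuleCat.ofHom (Formal2.quotPowTrans A If M (n + 1)))).hom
            ((secMap U (ModuleCat.ofHom (j (n + 1)))).hom (z (n + 1))) :=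
          (secMap_comp (j (n + 1)) (Formal2.quotPowTrans A If M (n + 1)) (z (n + 1))).symm
      _ = (secMap U (ModuleCat.ofHom (Formal2.quotPowTrans A If M (n + 1)))).hom (y.1 (n + 1 + 1)) :=
          congrArg _ (hz (n + 1))
      _ = y.1 (n + 1) := hy (n + 1)
      _ = (secMap U (ModuleCat.ofHom (j n))).hom (z n) := (hz n).symm
  refine ⟨⟨z, (mem_Lim U If M).2 hzc⟩, Subtype.ext (funext fun n => ?_)⟩
  change f • z n = y.1 n
  have e : (Formal2.quotPowTrans A If M n).comp (j n) = f • LinearMap.id := by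
    refine LinearMap.ext fun w => ?_
    obtain ⟨a, rfl⟩ := Submodule.Quotient.mk_surjective _ w
    rw [LinearMap.comp_apply, hjmk, htmk, LinearMap.smul_apply, LinearMap.id_apply, Submodule.Quotient.mk_smul]
  rw [← hy n, ← hz n, secMap_comp, ← secMap_sc U f, e]

theorem finite_Lim [IsNoetherianRing A] [IsAdicComplete If A] [Module.Finite A (sU U If M 0)]
    (hreg : IsSMulRegular M f) : Module.Finite A (Lim U If M) := by
  let e : Lim U If M →ₗ[A] sU U If M 0 := (LinearMap.proj 0).comp (Lim U If M).subtype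
  have hfg : (LinearMap.range e).FG := IsNoetherian.noetherian _
  obtain ⟨S, hS⟩ := hfg
  choose g hg using fun v : S => (hS.le (Submodule.subset_span v.2) : (v : sU U If M 0) ∈ LinearMap.range e)
  let ev : (S → A) →ₗ[A] Lim U If M := Fintype.linearCombination A g
  have hstep : ∀ y : Lim U If M, ∃ (c : S → A) (y' : Lim U If M), y = ev c + f • y' := fun y => by
    obtain ⟨c, hc⟩ := Submodule.mem_span_finset'.1 (hS.ge (LinearMap.mem_range_self e y))
    obtain ⟨y', hy'⟩ := exists_of_zero U M f hreg (y - ev c) (by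
      change e (y - ev c) = 0
      rw [map_sub, Fintype.linearCombination_apply, map_sum, ← hc]
      simp [hg])
    exact ⟨c, y', by rw [hy', add_sub_cancel]⟩
  choose c nx hcn using hstep
  refine Module.Finite.of_surjective ev fun y => ?_
  let Y : ℕ → Lim U If M := fun k => Nat.rec y (fun _ w => nx w) k
  let P : ℕ → S → A := fun k => ∑ i ∈ Finset.range k, f ^ i • c (Y i)
  have hP : ∀ k, y = ev (P k) + f ^ k • Y k := by
    intro k
    induction k with
    | zero => simp [P, Y]
    | succ k ih =>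
      calc y = ev (P k) + f ^ k • Y k := ih
        _ = ev (P k) + f ^ k • (ev (c (Y k)) + f • nx (Y k)) := by rw [← hcn]
        _ = ev (P (k + 1)) + f ^ (k + 1) • Y (k + 1) := by
          simp only [P, Finset.sum_range_succ, map_add, map_smul, smul_add, pow_succ, mul_smul, Y]
          abel
  haveI := Groth.L05.Krasner.isAdicComplete_of_finite If (S → A)
  obtain ⟨a, ha⟩ := IsPrecomplete.prec (I := If) (inferInstance : IsPrecomplete If (S → A)) (f := P) (by
    intro i k hik
    refine SModEq.sub_mem.2 ?_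
    rw [show P i - P k = -(∑ l ∈ Finset.Ico i k, f ^ l • c (Y l)) by
      rw [Finset.sum_Ico_eq_sub _ hik]; simp [P]]
    refine Submodule.neg_mem _ (Submodule.sum_mem _ fun l hl => Submodule.smul_mem_smul ?_ Submodule.mem_top)
    exact Ideal.pow_le_pow_right (Finset.mem_Ico.1 hl).1 (Ideal.pow_mem_pow (Ideal.mem_span_singleton_self f) l))
  refine ⟨a, Subtype.ext (funext fun n => ?_)⟩
  have hk : ∀ x : sU U If M n, f ^ (n + 1) • x = 0 := fun x => by
    rw [← secMap_sc U (f ^ (n + 1)), sc, show f ^ (n + 1) • (LinearMap.id : Formal2.quotPow A If M n →ₗ[A] _) = 0 from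
      LinearMap.ext fun w => by
        obtain ⟨b, rfl⟩ := Submodule.Quotient.mk_surjective _ w
        exact (Submodule.Quotient.mk_eq_zero _).2 (Submodule.smul_mem_smul
          (Ideal.pow_mem_pow (Ideal.mem_span_singleton_self f) _) Submodule.mem_top)]
    exact secMap_zero x
  have hd : a - P (n + 1) ∈ (If ^ (n + 1) • ⊤ : Submodule A (S → A)) := SModEq.sub_mem.1 (ha (n + 1)).symm
  rw [Ideal.span_singleton_pow, Submodule.ideal_span_singleton_smul, Submodule.mem_smul_pointwise_iff_exists] at hd
  obtain ⟨b, -, hb⟩ := hd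
  have h1 : ev a = y + f ^ (n + 1) • (ev b - Y (n + 1)) := by
    conv_rhs => rw [hP (n + 1)]
    rw [smul_sub, ← map_smul, hb, map_sub]
    abel
  rw [h1]
  simp only [Submodule.coe_add, Submodule.coe_smul, Pi.add_apply, Pi.smul_apply, hk, add_zero]

variable [IsNoetherianRing A] [Module.Finite A M] (𝔞 : Ideal A)

theorem finite_sec_zero (hfin : Module.Finite A (LocCoh.H 𝔞 1 (M ⧸ (If • (⊤ : Submodule A M))))) :
    Module.Finite A (sU (LocCoh.puncturedOpen A 𝔞) If M 0) := by
  let U := LocCoh.puncturedOpen A 𝔞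
  let N := ModuleCat.of A (Formal2.quotPow A If M 0)
  let tO := (tilde.toOpen (R := CommRingCat.of A) N U).hom
  obtain ⟨-, ⟨c⟩⟩ := Groth.L04.Koszul.Cech.exists_toOpen_punctured 𝔞 N
  have h : ∀ P : Submodule A M, P = If • ⊤ → Module.Finite A (LocCoh.H 𝔞 1 (M ⧸ P)) := by rintro P rfl; exact hfin
  haveI : Module.Finite A ((localCohomology 𝔞 1).obj N) := h _ (by rw [zero_add, pow_one])
  haveI : Module.Finite A (LinearMap.range tO) := Module.Finite.range tO
  haveI : Module.Finite A (_ ⧸ LinearMap.range tO) := Module.Finite.equiv c.symm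
  exact Module.Finite.of_submodule_quotient (LinearMap.range tO)

set_option maxHeartbeats 1600000 in
theorem colimBijective [IsAdicComplete If A] (hf : f ∈ 𝔞) (hreg : IsSMulRegular M f)
    (hfin : Module.Finite A (LocCoh.H 𝔞 1 (M ⧸ (If • (⊤ : Submodule A M))))) :
    Formal2.FormalCohColimBijective A If M 0 (LocCoh.puncturedOpen A 𝔞) := by
  refine ⟨colim_injective If M _, fun y hy => ?_⟩
  let U := LocCoh.puncturedOpen A 𝔞
  haveI := finite_sec_zero M f 𝔞 hfin
  haveI := finite_Lim U M f hreg
  let φ := phi U If M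
  let C := Lim U If M ⧸ LinearMap.range φ
  let K := LinearMap.ker φ
  let J : Ideal A := (Module.annihilator A C * Module.annihilator A K) * 𝔞
  have hJ : ∀ r : PrimeSpectrum A, r ∈ U → If ≤ r.asIdeal → ¬ J ≤ r.asIdeal := fun r hrU hrI hJr => by
    rcases r.2.mul_le.1 hJr with h | h
    swap
    · exact hrU h
    rcases r.2.mul_le.1 h with h | h
    · obtain ⟨s, hs, hsr⟩ := SetLike.not_le_iff_exists.1 (show ¬ 𝔞 ≤ r.asIdeal from hrU)
      have htor := (Groth.Agent.S11677.result A 𝔞 (Formal2.quotPow A If M 0)).2.2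
      obtain ⟨G, hG⟩ := Module.Finite.fg_top (R := A) (M := Lim U If M)
      choose k hk using fun v : G => htor (Submodule.Quotient.mk ((v.1 : ∀ n, sU U If M n) 0))
      let N := Finset.univ.sup k
      have hrange : LinearMap.range (s ^ N • (LinearMap.id : C →ₗ[A] C)) ≤ If • (⊤ : Submodule A C) := by
        rintro _ ⟨c, rfl⟩
        obtain ⟨v, rfl⟩ := Submodule.Quotient.mk_surjective _ c
        have hv : v ∈ Submodule.span A (G : Set (Lim U If M)) := hG ▸ Submodule.mem_top
        induction hv using Submodule.span_induction with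
        | zero => simp
        | add a b _ _ ha hb => rw [Submodule.Quotient.mk_add, map_add]; exact add_mem ha hb
        | smul c a _ ha => rw [Submodule.Quotient.mk_smul, map_smul]; exact Submodule.smul_mem _ c ha
        | mem v hv =>
          obtain ⟨e, he⟩ := Nat.exists_eq_add_of_le (Finset.le_sup (f := k) (Finset.mem_univ (⟨v, hv⟩ : ↥G)) : k ⟨v, hv⟩ ≤ N)
          have h1 := hk ⟨v, hv⟩ _ (Ideal.pow_mem_pow hs _)
          rw [← Submodule.Quotient.mk_smul, Submodule.Quotient.mk_eq_zero] at h1
          obtain ⟨w, hw⟩ := h1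
          obtain ⟨m, rfl⟩ := Submodule.Quotient.mk_surjective _ w
          obtain ⟨z, hz⟩ := exists_of_zero U M f hreg (s ^ N • v - φ (s ^ e • m)) (by
            change s ^ N • (v : ∀ n, sU U If M n) 0 - (φ (s ^ e • m)).1 0 = 0
            rw [map_smul, show N = e + k ⟨v, hv⟩ from he.trans (add_comm _ _), pow_add, mul_smul]
            change s ^ e • s ^ k ⟨v, hv⟩ • (v : ∀ n, sU U If M n) 0 - s ^ e • _ = 0
            rw [← smul_sub, ← hw]
            exact (congrArg _ (sub_self _)).trans (smul_zero _))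
          change s ^ N • Submodule.Quotient.mk v ∈ If • (⊤ : Submodule A C)
          have : s ^ N • v = φ (s ^ e • m) + f • z := by rw [hz, add_sub_cancel]
          rw [← Submodule.Quotient.mk_smul, this, Submodule.Quotient.mk_add,
            (Submodule.Quotient.mk_eq_zero _).2 (LinearMap.mem_range_self _ _), zero_add, Submodule.Quotient.mk_smul]
          exact Submodule.smul_mem_smul (Ideal.mem_span_singleton_self f) Submodule.mem_top
      obtain ⟨p, hp, -, hcoef, hev⟩ :=
        LinearMap.exists_monic_and_coeff_mem_pow_and_aeval_eq_zero_of_range_le_smul A _ If hrange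
      refine r.2.mem_of_pow_mem N ?_ |> hsr
      refine r.2.mem_of_pow_mem p.natDegree ?_
      have hm : Polynomial.eval (s ^ N) p ∈ Module.annihilator A C := Module.mem_annihilator.2 fun x => by
        have h2 := LinearMap.congr_fun hev x
        rw [show s ^ N • (LinearMap.id : C →ₗ[A] C) = algebraMap A (Module.End A C) (s ^ N) from rfl,
          Polynomial.aeval_algebraMap_apply, Module.algebraMap_end_apply] at h2
        simpa using h2
      have h3 := h hm
      rw [Polynomial.eval_eq_sum_range, Finset.sum_range_succ, hp.coeff_natDegree, one_mul] at h3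
      refine (Ideal.add_mem_iff_right _ (Submodule.sum_mem _ fun i hi => r.asIdeal.mul_mem_right _ ?_)).1 h3
      exact hrI (Ideal.pow_le_self (by have := Finset.mem_range.1 hi; omega) (hcoef i))
    · haveI : Module.Finite A K := inferInstance
      obtain ⟨x, hx⟩ : ∃ x, x ∈ (⊤ : Submodule A K) := ⟨0, trivial⟩
      have hk : ∀ m : K, ∃ t : A, t ∉ r.asIdeal ∧ t • m = 0 := fun m => by
        obtain ⟨W, hW, hrW, h0W⟩ := exists_nbhd_eq_zero If M
          ((tilde.toOpen (R := CommRingCat.of A) (ModuleCat.of A M) U).hom m.1) (fun n => by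
            rw [secMap_toOpen]
            exact congrFun (congrArg Subtype.val (show φ m.1 = 0 from m.2)) n) r hrU hrI
        obtain ⟨_, ⟨g, rfl⟩, hrg, hgW⟩ := (PrimeSpectrum.isTopologicalBasis_basic_opens (R := A)).exists_subset_of_mem_open
          (u := {p : PrimeSpectrum A | p ∈ W}) hrW W.isOpen
        have hg : D g ≤ W := hgW
        obtain ⟨k, hk⟩ := exists_pow_toOpen g (ModuleCat.of A M) (m := m.1) (by
          rw [← res_toOpen (hg.trans hW), ← res_res hW hg, h0W, map_zero])
        exact ⟨g ^ k, fun h => hrg (r.2.mem_of_pow_mem k h), Subtype.ext hk⟩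
      classical
      obtain ⟨G, hG⟩ := Module.Finite.fg_top (R := A) (M := K)
      choose t ht ht' using hk
      have : ∏ v ∈ G, t v ∈ Module.annihilator A K := Module.mem_annihilator.2 fun v => by
        have hv : v ∈ Submodule.span A (G : Set K) := hG ▸ Submodule.mem_top
        induction hv using Submodule.span_induction with
        | mem v hv => rw [← Finset.prod_erase_mul G t hv, mul_smul, ht', smul_zero]
        | zero => exact smul_zero _
        | add a b _ _ ha hb => rw [smul_add, ha, hb, add_zero]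
        | smul c a _ ha => rw [smul_comm, ha, smul_zero]
      obtain ⟨v, -, hv⟩ := (Ideal.IsPrime.prod_mem_iff (hp := r.2)).1 (h this)
      exact ht v hv
  let V : (Spec (CommRingCat.of A)).Opens :=
    U ⊓ ⟨(PrimeSpectrum.zeroLocus (J : Set A))ᶜ, (PrimeSpectrum.isClosed_zeroLocus _).isOpen_compl⟩
  refine ⟨V, ⟨inf_le_left, fun r hrU hrI => ⟨hrU, fun h => hJ r hrU hrI h⟩⟩, ?_⟩
  let yL : Lim U If M := ⟨fun n => h0 U _ (y n), (mem_Lim U If M).2 fun n => by rw [← h0_map, hy n]⟩
  let ι := {abc : A × A × A // abc.1 ∈ Module.annihilator A C ∧ abc.2.1 ∈ Module.annihilator A K ∧ abc.2.2 ∈ 𝔞}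
  let W : ι → (Spec (CommRingCat.of A)).Opens := fun i => D (i.1.1 * i.1.2.1 * i.1.2.2)
  have hle : ∀ i, W i ≤ V := fun i r hr =>
    ⟨fun h => hr (r.asIdeal.mul_mem_left _ (h i.2.2.2)),
      fun h => hr (h (Ideal.mul_mem_mul (Ideal.mul_mem_mul i.2.1 i.2.2.1) i.2.2.2))⟩
  have hcov : V ≤ ⨆ i, W i := fun r hr => by
    have h := hr.2
    obtain ⟨c, hc, hcr⟩ := SetLike.not_le_iff_exists.1 (show ¬ 𝔞 ≤ r.asIdeal from hr.1)
    obtain ⟨a, ha, har⟩ := SetLike.not_le_iff_exists.1 (show ¬ Module.annihilator A C ≤ r.asIdeal from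
      fun h' => h (Ideal.mul_le_left.trans (Ideal.mul_le_left.trans h')))
    obtain ⟨b, hb, hbr⟩ := SetLike.not_le_iff_exists.1 (show ¬ Module.annihilator A K ≤ r.asIdeal from
      fun h' => h (Ideal.mul_le_left.trans (Ideal.mul_le_right.trans h')))
    exact Opens.mem_iSup.2 ⟨⟨(a, b, c), ha, hb, hc⟩,
      fun hm' => (r.2.mem_or_mem hm').elim (fun h => (r.2.mem_or_mem h).elim har hbr) hcr⟩
  have hm : ∀ i : ι, ∃ m, φ m = i.1.1 • yL := fun i => by
    have := Module.mem_annihilator.1 i.2.1 (Submodule.Quotient.mk yL)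
    rwa [← Submodule.Quotient.mk_smul, Submodule.Quotient.mk_eq_zero] at this
  choose m hm using hm
  have hd : ∀ i : ι, i.1.1 ∣ i.1.1 * i.1.2.1 * i.1.2.2 := fun i => ⟨i.1.2.1 * i.1.2.2, by ring⟩
  have hb : ∀ i : ι, i.1.2.1 ∣ i.1.1 * i.1.2.1 * i.1.2.2 := fun i => ⟨i.1.1 * i.1.2.2, by ring⟩
  have hx : ∀ i : ι, ∃ x : sec (W i) (ModuleCat.of A M),
      i.1.1 • x = (tilde.toOpen (R := CommRingCat.of A) (ModuleCat.of A M) (W i)).hom (m i) := fun i => by
    obtain ⟨x, hx⟩ := (smul_bij_D _ _ (hd i) _ 1).2 ((tilde.toOpen (R := CommRingCat.of A) (ModuleCat.of A M) (W i)).hom (m i))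
    exact ⟨x, by rwa [← pow_one i.1.1]⟩
  choose x hx using hx
  have hc : TopCat.Presheaf.IsCompatible (modulesSpecToSheaf.obj (tilde (R := CommRingCat.of A) (ModuleCat.of A M))).obj
      W x := by
    intro i j
    change res inf_le_left _ (x i) = res inf_le_right _ (x j)
    have key : ∀ {O : (Spec (CommRingCat.of A)).Opens} (a : O ≤ W i) (b : O ≤ W j),
        O = D ((i.1.1 * i.1.2.1 * i.1.2.2) * (j.1.1 * j.1.2.1 * j.1.2.2)) →
        res a _ (x i) = res b (ModuleCat.of A M) (x j) := by
      intro O a b hO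
      subst hO
      refine (smul_bij_D _ (i.1.1 * j.1.1 * i.1.2.1) ⟨i.1.2.2 * (j.1.2.1 * j.1.2.2), by ring⟩ _ 1).1 ?_
      change (i.1.1 * j.1.1 * i.1.2.1) ^ 1 • _ = (i.1.1 * j.1.1 * i.1.2.1) ^ 1 • _
      have hK : i.1.2.1 • (j.1.1 • m i - i.1.1 • m j) = 0 :=
        congrArg Subtype.val (Module.mem_annihilator.1 i.2.2.1
          ⟨j.1.1 • m i - i.1.1 • m j, by rw [LinearMap.mem_ker, map_sub, map_smul, map_smul, hm, hm, smul_comm, sub_self]⟩)
      rw [pow_one, ← sub_eq_zero, ← smul_sub]
      calc (i.1.1 * j.1.1 * i.1.2.1) • (res a _ (x i) - res b (ModuleCat.of A M) (x j))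
          = i.1.2.1 • (j.1.1 • res a _ (i.1.1 • x i) - i.1.1 • res b (ModuleCat.of A M) (j.1.1 • x j)) := by
            simp only [map_smul, smul_sub, ← mul_smul]
            congr 2 <;> ring
        _ = 0 := by
            rw [hx, hx, res_toOpen, res_toOpen, ← map_smul, ← map_smul, ← map_sub, ← map_smul, hK, map_zero]
    exact key inf_le_left inf_le_right (PrimeSpectrum.basicOpen_mul _ _).symm
  obtain ⟨s, hs, -⟩ := (modulesSpecToSheaf.obj (tilde (R := CommRingCat.of A) (ModuleCat.of A M))).existsUnique_gluing'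
    W V (fun i => homOfLE (hle i)) hcov x hc
  refine ⟨(h0 V (ModuleCat.of A M)).symm s, fun n => (h0 V _).injective ?_⟩
  rw [h0_res, h0_map, AddEquiv.apply_symm_apply]
  refine (modulesSpecToSheaf.obj (tilde (R := CommRingCat.of A) _)).eq_of_locally_eq' W V
    (fun i => homOfLE (hle i)) hcov _ _ fun i => (smul_bij_D _ _ (hd i) _ 1).1 ?_
  change i.1.1 ^ 1 • res (hle i) _ (res inf_le_left _ _) = i.1.1 ^ 1 • res (hle i) _ _
  rw [pow_one, secMap_res, show res (hle i) (ModuleCat.of A M) s = x i from hs i, ← map_smul, ← map_smul]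
  conv_rhs => rw [← map_smul,
    hx, secMap_toOpen]
  rw [res_res]
  have := congrFun (congrArg Subtype.val (hm i)) n
  exact (congrArg (res _ _) this.symm).trans (res_toOpen _ _ _)

end Groth.L29.PrincipalColim
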