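import Groth.Agent.L29.Formal.GradedStalks
import Groth.Agent.L29.Formal.GradedLevels
import Groth.Agent.L29.Formal.QuasiRegModule
import Mathlib.RingTheory.AdicCompletion.RingHom

/-!
A regular sequence on the completed stalks makes the graded pieces of a formal module free over the bottom level.
-/

set_option autoImplicit false
set_option backward.isDefEq.respectTransparency false
set_option backward.isDefEq.respectTransparency.types false
set_option linter.style.haveILetI false

universe u

open CategoryTheory CategoryTheory.Limits AlgebraicGeometry TopologicalSpace Opposite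

noncomputable section

namespace Groth.L29.RegHat

open _root_.Formal (smulMod)
open Groth.L16 Groth.L16.Existence
open Groth.L29.Graded
open _root_.Algz (toStalk stalkIdeal stalkMapₗ hatStalk hatRing hatTrans)

theorem isAdicComplete_of_pow {R : Type u} [CommRing R] (J : Ideal R) {M : Type u} [AddCommGroup M] [Module R M]
    (k : ℕ) (h : ∀ b ∈ J ^ k, ∀ x : M, b • x = 0) : IsAdicComplete J M := by
  have hbot : ∀ m, k ≤ m → J ^ m • (⊤ : Submodule R M) = ⊥ := fun m hm => le_bot_iff.1
    (Submodule.smul_le.2 fun b hb x _ => (Submodule.mem_bot R).2 (h b (Ideal.pow_le_pow_right hm hb) x))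
  haveI : IsHausdorff J M := ⟨fun x hx => by
    have := hx k
    rwa [hbot k le_rfl, SModEq.bot] at this⟩
  haveI : IsPrecomplete J M := ⟨fun g hg => ⟨g k, fun m => by
    rcases le_total m k with hmk | hmk
    · exact hg hmk
    · have := hg hmk
      rw [hbot k le_rfl, SModEq.bot] at this
      rw [this]⟩⟩
  exact {}

variable {A : Type u} [CommRing A] {X : Scheme.{u}} [X.Over (Spec (CommRingCat.of A))] [IsLocallyNoetherian X]
  {I : Ideal A} {G : ℕᵒᵖ ⥤ X.Modules} (hG : _root_.Formal.IsCohFormal I G)
  {r : ℕ} (a : Fin r → A) (hI : I = Ideal.span (Set.range a)) (y : X) {c : ℕ} (f : Fin c → X.presheaf.stalk y)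

/-- the system of stalks -/
def stalkSys (G : ℕᵒᵖ ⥤ X.Modules) (y : X) : ℕᵒᵖ ⥤ ModuleCat.{u} (X.presheaf.stalk y) where
  obj n := ModuleCat.of _ ((G.obj n).presheaf.stalk y)
  map φ := ModuleCat.ofHom (stalkMapₗ (G.map φ) y)
  map_id n := by
    refine ModuleCat.hom_ext (LinearMap.ext fun v => ?_)
    change (Groth.L21.Mod.stalkF X y).map (G.map (𝟙 n)) v = v
    rw [G.map_id, CategoryTheory.Functor.map_id]
    rfl
  map_comp φ ψ := by
    refine ModuleCat.hom_ext (LinearMap.ext fun v => ?_)
    change stalkMapₗ (G.map (φ ≫ ψ)) y v = stalkMapₗ (G.map ψ) y (stalkMapₗ (G.map φ) y v)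
    rw [G.map_comp, stalkMapₗ_comp]

/-- limit of the stalks into the completed stalk -/
def toHat (I : Ideal A) (G : ℕᵒᵖ ⥤ X.Modules) (y : X) :
    (↑(limit (stalkSys G y)) : Type u) →ₗ[X.presheaf.stalk y] hatStalk I G y where
  toFun x := ⟨fun n => AdicCompletion.of (stalkIdeal I y) _ ((limit.π (stalkSys G y) (op n)).hom x), fun n => by
    change AdicCompletion.map _ _ (AdicCompletion.of _ _ _) = _
    rw [AdicCompletion.map_of]
    exact congrArg _ (ConcreteCategory.congr_hom (limit.w (stalkSys G y) (homOfLE (Nat.le_succ n)).op) x)⟩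
  map_add' x x' := Subtype.ext (funext fun n =>
    (congrArg _ (map_add (limit.π (stalkSys G y) (op n)).hom x x')).trans (map_add _ _ _))
  map_smul' b x := Subtype.ext (funext fun n =>
    (congrArg _ (map_smul (limit.π (stalkSys G y) (op n)).hom b x)).trans (map_smul _ _ _))

/-- compatible families give elements of the limit -/
theorem exists_of_family (v : ∀ n, (G.obj (op n)).presheaf.stalk y)
    (hcomp : ∀ n, stalkMapₗ (tr G n (n + 1) (Nat.le_succ n)) y (v (n + 1)) = v n) :
    ∃ z : ↑(limit (stalkSys G y)), ∀ n, (limit.π (stalkSys G y) (op n)).hom z = v n := by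
  have hcomp' : ∀ {p q : ℕ} (h : p ≤ q), stalkMapₗ (tr G p q h) y (v q) = v p := by
    intro p q h
    induction q, h using Nat.le_induction with
    | base =>
      rw [tr_self]
      change (Groth.L21.Mod.stalkF X y).map (𝟙 _) _ = _
      rw [CategoryTheory.Functor.map_id]
      rfl
    | succ q hq ih => rw [← tr_comp G hq (Nat.le_succ q), stalkMapₗ_comp, hcomp, ih]
  let cn : Cone (stalkSys G y) :=
    { pt := ModuleCat.of _ (ULift.{u} (X.presheaf.stalk y))
      π := { app := fun l => ModuleCat.ofHom ((LinearMap.toSpanSingleton _ _ (v l.unop)).comp ULift.moduleEquiv.toLinearMap)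
             naturality := by
              rintro ⟨q⟩ ⟨p⟩ φ
              have hpq : p ≤ q := leOfHom φ.unop
              rw [show φ = (homOfLE hpq).op from rfl]
              ext t
              change t.down • v p = stalkMapₗ (tr G p q hpq) y (t.down • v q)
              rw [map_smul, hcomp' hpq] } }
  exact ⟨(limit.lift (stalkSys G y) cn).hom ⟨1⟩, fun n =>
    (ConcreteCategory.congr_hom (limit.lift_π cn (op n)) (ULift.up 1)).trans (one_smul (X.presheaf.stalk y) (v n))⟩

include hG in
theorem bijective_of (n : ℕ) :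
    Function.Bijective (AdicCompletion.of (stalkIdeal I y) ((G.obj (op n)).presheaf.stalk y)) := by
  haveI := isAdicComplete_of_pow (stalkIdeal I y) (n + 1) (M := (G.obj (op n)).presheaf.stalk y)
    fun b hb v => smul_stalk_eq_zero hG n y hb v
  exact AdicCompletion.of_bijective _ _

include hG in
theorem surjective_toHat : Function.Surjective (toHat I G y) := by
  intro x
  choose v hv using fun n => (bijective_of hG y n).2 (x.1 n)
  have hcomp : ∀ n, stalkMapₗ (tr G n (n + 1) (Nat.le_succ n)) y (v (n + 1)) = v n := fun n => by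
    refine (bijective_of hG y n).1 ?_
    rw [hv n, ← x.2 n, ← hv (n + 1)]
    exact (AdicCompletion.map_of _ _ _).symm
  obtain ⟨z, hz⟩ := exists_of_family y v hcomp
  exact ⟨z, Subtype.ext (funext fun n => (congrArg _ (hz n)).trans (hv n))⟩

include hG in
/-- the projections of the limit of stalks are surjective -/
theorem surjective_π (q : ℕ) : Function.Surjective (limit.π (stalkSys G y) (op q)).hom := by
  intro v
  choose L hL using fun n => surjective_stalk_tr hG (Nat.le_succ n) y
  let w : ∀ j, (G.obj (op (q + j))).presheaf.stalk y := fun j =>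
    Nat.rec (motive := fun j => (G.obj (op (q + j))).presheaf.stalk y) v (fun j wj => L (q + j) wj) j
  obtain ⟨z, hz⟩ := exists_of_family y (fun p => stalkMapₗ (tr G p (q + p) (Nat.le_add_left p q)) y (w p)) fun p => by
    rw [← stalkMapₗ_comp, tr_comp]
    conv_rhs => rw [← hL (q + p) (w p), ← stalkMapₗ_comp, tr_comp]
    rfl
  have key : ∀ j, stalkMapₗ (tr G q (q + j) (Nat.le_add_right q j)) y (w j) = v := by
    intro j
    induction j with
    | zero =>
      change stalkMapₗ (tr G q q le_rfl) y v = v
      rw [tr_self]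
      change (Groth.L21.Mod.stalkF X y).map (𝟙 _) _ = _
      rw [CategoryTheory.Functor.map_id]
      rfl
    | succ j ih =>
      rw [← tr_comp G (Nat.le_add_right q j) (Nat.le_succ (q + j)), stalkMapₗ_comp]
      change stalkMapₗ _ y (stalkMapₗ _ y (L (q + j) (w j))) = v
      rw [hL, ih]
  exact ⟨z, (hz q).trans (key q)⟩

include hG hI in
/-- the completed stalk has the adic topology -/
theorem ker_π_le (k : ℕ) (x : ↑(limit (stalkSys G y))) (hx : (limit.π (stalkSys G y) (op k)).hom x = 0) :
    x ∈ stalkIdeal I y ^ (k + 1) • (⊤ : Submodule (X.presheaf.stalk y) ↑(limit (stalkSys G y))) := by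
  let S := stalkSys G y
  have hstep : ∀ n (x : ↑(limit S)), (limit.π S (op n)).hom x = 0 →
      ∃ u ∈ stalkIdeal I y ^ (n + 1) • (⊤ : Submodule (X.presheaf.stalk y) ↑(limit S)),
        (limit.π S (op (n + 1))).hom u = (limit.π S (op (n + 1))).hom x := by
    intro n x hx
    have hsurj : LinearMap.range (limit.π S (op (n + 1))).hom = ⊤ :=
      LinearMap.range_eq_top.2 (surjective_π hG y (n + 1))
    have h0 : (limit.π S (op (n + 1))).hom x ∈
        stalkIdeal I y ^ (n + 1) • (⊤ : Submodule (X.presheaf.stalk y) _) :=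
      exists_of_stalk_tr_eq_zero hG a hI n y _
        ((ConcreteCategory.congr_hom (limit.w S (homOfLE (Nat.le_succ n)).op) x).trans hx)
    rw [← hsurj, ← Submodule.map_top, ← Submodule.map_smul''] at h0
    obtain ⟨u, hu, hux⟩ := h0
    exact ⟨u, hu, hux⟩
  obtain ⟨u, hu, hux⟩ := hstep k x hx
  have h1 := Groth.L29.Graded.ker_le_of_step (I := stalkIdeal I y) S (fun q b hb v => smul_stalk_eq_zero hG q y hb v) 0
    (fun n _ z hz => by
      obtain ⟨w, hw, hwz⟩ := hstep n z hz
      exact ⟨w, Submodule.smul_mono_left (Ideal.pow_le_pow_right (by omega)) hw, hwz⟩) (k + 1)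
    (show x - u ∈ LinearMap.ker (limit.π S (op (0 + (k + 1)))).hom by
      rw [zero_add, LinearMap.mem_ker, map_sub, hux, sub_self])
  have := add_mem h1 hu
  rwa [sub_add_cancel] at this

include hG hI in
/-- coefficients of a relation among the monomials lie in the ideal -/
theorem mem_smul_top_of_relation (hJ : stalkIdeal I y = Ideal.span (Set.range f))
    (hreg : RingTheory.Sequence.IsWeaklyRegular (hatStalk I G y)
      (List.ofFn fun j => algebraMap (X.presheaf.stalk y) (hatRing I y) (f j)))
    (n : ℕ) (m : Sn c n → (G.obj (op (n + 1))).presheaf.stalk y) (hm : ∑ e, aE f e.1 • m e = 0) (e : Sn c n) :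
    m e ∈ stalkIdeal I y • (⊤ : Submodule (X.presheaf.stalk y) ((G.obj (op (n + 1))).presheaf.stalk y)) := by
  classical
  let R := X.presheaf.stalk y
  let S := stalkSys G y
  let π : (↑(limit S) : Type u) →ₗ[R] (G.obj (op (n + 1))).presheaf.stalk y := (limit.π S (op (n + 1))).hom
  have hπs : Function.Surjective π := surjective_π hG y (n + 1)
  choose x hx using fun e => hπs (m e)
  have hf : RingTheory.Sequence.IsWeaklyRegular (hatStalk I G y) (List.ofFn f) := by
    refine (RingTheory.Sequence.isWeaklyRegular_map_algebraMap_iff (hatRing I y) (hatStalk I G y) (List.ofFn f)).1 ?_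
    rwa [List.map_ofFn]
  let s : Finset (Fin c →₀ ℕ) := Finset.univ.image (Subtype.val : Sn c n → _)
  let x' : (Fin c →₀ ℕ) → hatStalk I G y := fun d => if h : d.degree = n + 1 then toHat I G y (x ⟨d, h⟩) else 0
  have hsum : ∑ d ∈ s, aE f d • x' d = toHat I G y (∑ e, aE f e.1 • x e) := by
    rw [Finset.sum_image (fun _ _ _ _ h => Subtype.ext h), map_sum]
    refine Finset.sum_congr rfl fun e _ => ?_
    rw [map_smul]
    congr 1
    exact dif_pos e.2
  have hz := ker_π_le hG a hI y (n + 1) (∑ e, aE f e.1 • x e) (by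
    change π _ = 0
    rw [map_sum]
    simp only [map_smul, hx]
    exact hm)
  have hz' : ∑ d ∈ s, aE f d • x' d ∈ Ideal.span (Set.range f) ^ (n + 1 + 1) • (⊤ : Submodule R (hatStalk I G y)) := by
    rw [hsum, ← hJ]
    exact Submodule.smul_mono le_rfl le_top ((Submodule.map_smul'' _ _ (toHat I G y)).le ⟨_, hz, rfl⟩)
  have hd := Groth.L29.QRegMod.mem_smul_top_of_sum_mem f (hatStalk I G y) hf (n + 1) s
    (fun d hd => by obtain ⟨e, -, rfl⟩ := Finset.mem_image.1 hd; exact e.2) x' hz' e.1
    (Finset.mem_image.2 ⟨e, Finset.mem_univ _, rfl⟩)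
  rw [← hJ, show x' e.1 = toHat I G y (x e) from dif_pos e.2,
    ← LinearMap.range_eq_top.2 (surjective_toHat hG y), ← Submodule.map_top, ← Submodule.map_smul''] at hd
  obtain ⟨w, hw, hwx⟩ := hd
  have h2 : π w = m e := by
    refine (bijective_of hG y (n + 1)).1 ?_
    rw [← hx e]
    exact congrFun (congrArg Subtype.val hwx) (n + 1)
  rw [← h2]
  exact Submodule.smul_mono le_rfl le_top ((Submodule.map_smul'' _ _ π).le ⟨w, hw, rfl⟩)

end Groth.L29.RegHat
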