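import Groth.Agent.L29.Formal.RegularHatStalk

/-!
Splitting of the monomial maps from local regular sequences on completed stalks.
-/

set_option autoImplicit false
set_option backward.isDefEq.respectTransparency false
set_option backward.isDefEq.respectTransparency.types false
set_option linter.style.haveILetI false

universe u

open CategoryTheory CategoryTheory.Limits AlgebraicGeometry TopologicalSpace Opposite

noncomputable section

namespace Groth.L29.RegHat

open _root_.Formal (smulMod)
open Groth.L16 Groth.L16.Existence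
open Groth.L29.Graded
open _root_.Algz (toStalk stalkIdeal stalkMapₗ hatStalk hatRing hatTrans)

variable {A : Type u} [CommRing A] {X : Scheme.{u}} [X.Over (Spec (CommRingCat.of A))] [IsLocallyNoetherian X]
  {I : Ideal A} {G : ℕᵒᵖ ⥤ X.Modules} (hG : _root_.Formal.IsCohFormal I G)
  {d r : ℕ} (f : Fin d → A) (g : Fin r → A) (hI : I = Ideal.span (Set.range (Fin.append f g)))

/-- exponents in the first variables -/
def liftE (n : ℕ) (e : Sn d n) : Sn (d + r) n :=
  ⟨Finsupp.mapDomain (Fin.castAdd r) e.1, by
    rw [Finsupp.degree_mapDomain]; exact e.2⟩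

theorem liftE_injective (n : ℕ) : Function.Injective (liftE (r := r) (d := d) n) := fun _ _ h =>
  Subtype.ext (Finsupp.mapDomain_injective (Fin.castAdd_injective d r) (congrArg Subtype.val h))

omit [X.Over (Spec (CommRingCat.of A))] [IsLocallyNoetherian X] in
theorem aE_liftE (n : ℕ) (e : Sn d n) : aE (Fin.append f g) (liftE n e).1 = aE f e.1 := by
  rw [aE, aE, liftE, Finsupp.prod_mapDomain_index_inj (Fin.castAdd_injective d r)]
  simp

/-- the monomial maps in the first variables -/
def Pd (n : ℕ) : (⨁ fun _ : Sn d n => G.obj (op 0)) ⟶ K G n :=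
  biproduct.desc fun e => μe hG (Fin.append f g) hI n (liftE n e)

theorem Pd_tr (n : ℕ) (y : X) (m : Sn d n → (G.obj (op (n + 1))).presheaf.stalk y) :
    stalkMapₗ (kernel.ι (tr G n (n + 1) (Nat.le_succ n))) y (stalkMapₗ (Pd hG f g hI n) y
      (∑ e, stalkMapₗ (biproduct.ι (fun _ : Sn d n => G.obj (op 0)) e) y
        (stalkMapₗ (tr G 0 (n + 1) (Nat.zero_le _)) y (m e)))) =
      ∑ e, aE (fun j => toStalk A X y (f j)) e.1 • m e := by
  rw [map_sum, map_sum]
  refine Finset.sum_congr rfl fun e _ => ?_
  rw [← stalkMapₗ_comp (biproduct.ι _ e) (Pd hG f g hI n), Pd, biproduct.ι_desc, μe, stalk_μ, aE_liftE]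
  congr 1
  rw [aE, map_finsuppProd]
  simp [aE]

include hG hI in
theorem isIso_Pd (n : ℕ)
    (h : ∀ y : X, (∃ c ∈ I, IsUnit (toStalk A X y c)) ∨
      (stalkIdeal I y = Ideal.span (Set.range fun j => toStalk A X y (f j)) ∧
        RingTheory.Sequence.IsWeaklyRegular (hatStalk I G y)
          (List.ofFn fun j => algebraMap (X.presheaf.stalk y) (hatRing I y) (toStalk A X y (f j))))) :
    IsIso (Pd hG f g hI n) := by
  classical
  have hzero : ∀ (y : X), (∃ c ∈ I, IsUnit (toStalk A X y c)) → ∀ (k : ℕ) (v : (G.obj (op k)).presheaf.stalk y), v = 0 := by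
    rintro y ⟨c, hc, hu⟩ k v
    have := smul_stalk_eq_zero hG k y (b := toStalk A X y c ^ (k + 1))
      (Ideal.pow_mem_pow (Ideal.mem_map_of_mem _ hc) _) v
    exact (hu.pow (k + 1)).smul_eq_zero.1 this
  have hι : ∀ y, Function.Injective (stalkMapₗ (kernel.ι (tr G n (n + 1) (Nat.le_succ n))) y) := fun y =>
    (Groth.L21.Mod.mono_iff_stalk_injective _).1 inferInstance y
  have hlift : ∀ (y : X) (z : (⨁ fun _ : Sn d n => G.obj (op 0)).presheaf.stalk y),
      ∃ m : Sn d n → (G.obj (op (n + 1))).presheaf.stalk y,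
        z = ∑ e, stalkMapₗ (biproduct.ι (fun _ : Sn d n => G.obj (op 0)) e) y
          (stalkMapₗ (tr G 0 (n + 1) (Nat.zero_le _)) y (m e)) := by
    intro y z
    choose m hm using fun e => surjective_stalk_tr hG (Nat.zero_le (n + 1)) y
      (stalkMapₗ (biproduct.π (fun _ : Sn d n => G.obj (op 0)) e) y z)
    exact ⟨m, (stalk_biproduct _ y z).trans (Finset.sum_congr rfl fun e _ => by rw [hm e])⟩
  haveI : Mono (Pd hG f g hI n) := (Groth.L21.Mod.mono_iff_stalk_injective _).2 fun y => by
    refine (injective_iff_map_eq_zero _).2 fun z hz => ?_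
    obtain ⟨m, rfl⟩ := hlift y z
    refine Finset.sum_eq_zero fun e _ => ?_
    suffices h0 : stalkMapₗ (tr G 0 (n + 1) (Nat.zero_le _)) y (m e) = 0 by rw [h0, map_zero]
    rcases h y with hy | ⟨hJ, hreg⟩
    · exact hzero y hy 0 _
    · have hm : ∑ e, aE (fun j => toStalk A X y (f j)) e.1 • m e = 0 := by
        rw [← Pd_tr hG f g hI n y m]
        exact (congrArg _ (show stalkMapₗ (Pd hG f g hI n) y _ = 0 from hz)).trans (map_zero _)
      have hme := mem_smul_top_of_relation hG (Fin.append f g) hI y _ hJ hreg n m hm e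
      refine Submodule.smul_induction_on hme (fun b hb v _ => ?_) fun p q hp hq => by rw [map_add, hp, hq, add_zero]
      rw [map_smul]
      exact smul_stalk_eq_zero hG 0 y (by rwa [zero_add, pow_one]) _
  haveI : Epi (Pd hG f g hI n) := (Groth.L21.Mod.epi_iff_stalk_surjective _).2 fun y k => by
    rcases h y with hy | ⟨hJ, hreg⟩
    · refine ⟨0, (map_zero _).trans ?_⟩
      exact (hι y (by rw [hzero y hy (n + 1) (stalkMapₗ (kernel.ι _) y k), map_zero]) : k = 0).symm
    · have hk : stalkMapₗ (tr G n (n + 1) (Nat.le_succ n)) y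
          (stalkMapₗ (kernel.ι (tr G n (n + 1) (Nat.le_succ n))) y k) = 0 := by
        rw [← stalkMapₗ_comp, kernel.condition, stalkMapₗ_zero]
      have hmem := exists_of_stalk_tr_eq_zero hG (Fin.append f g) hI n y _ hk
      obtain ⟨m, hm⟩ : ∃ m : Sn d n → (G.obj (op (n + 1))).presheaf.stalk y,
          ∑ e, aE (fun j => toStalk A X y (f j)) e.1 • m e = stalkMapₗ (kernel.ι _) y k := by
        rw [hJ] at hmem
        refine Submodule.smul_induction_on hmem (fun b hb v _ => ?_) fun p q ⟨m, hm⟩ ⟨m', hm'⟩ =>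
          ⟨m + m', by simp [Finset.sum_add_distrib, smul_add, hm, hm']⟩
        have hb' := pow_le_span (fun j => toStalk A X y (f j)) rfl (n + 1) hb
        induction hb' using Submodule.span_induction with
        | mem x hx =>
          obtain ⟨e, he, rfl⟩ := hx
          refine ⟨Pi.single ⟨e, he⟩ v, ?_⟩
          rw [Finset.sum_eq_single (⟨e, he⟩ : Sn d n) (fun e' _ hne => by rw [Pi.single_eq_of_ne hne, smul_zero])
            (fun h => absurd (Finset.mem_univ _) h), Pi.single_eq_same]
        | zero => exact ⟨0, by simp⟩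
        | add p q hp hq h1 h2 =>
          have hp' : p ∈ Ideal.span (Set.range fun j => toStalk A X y (f j)) ^ (n + 1) := by
            refine Ideal.span_le.2 ?_ hp
            rintro _ ⟨e, he, rfl⟩
            exact (congrArg (fun k => Ideal.span (Set.range fun j => toStalk A X y (f j)) ^ k) he).le
              (aE_mem (I := Ideal.span (Set.range fun j => toStalk A X y (f j))) _ (fun j => Ideal.subset_span ⟨j, rfl⟩) e)
          have hq' := (Submodule.add_mem_iff_right _ hp').1 hb
          obtain ⟨m, hm⟩ := h1 hp'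
          obtain ⟨m', hm'⟩ := h2 hq'
          exact ⟨m + m', by simp [Finset.sum_add_distrib, smul_add, add_smul, hm, hm']⟩
        | smul b x hx h1 =>
          have hx' : x ∈ Ideal.span (Set.range fun j => toStalk A X y (f j)) ^ (n + 1) := by
            refine Ideal.span_le.2 ?_ hx
            rintro _ ⟨e, he, rfl⟩
            exact (congrArg (fun k => Ideal.span (Set.range fun j => toStalk A X y (f j)) ^ k) he).le
              (aE_mem (I := Ideal.span (Set.range fun j => toStalk A X y (f j))) _ (fun j => Ideal.subset_span ⟨j, rfl⟩) e)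
          obtain ⟨m, hm⟩ := h1 hx'
          exact ⟨b • m, by simp [smul_comm _ b, ← Finset.smul_sum, hm, mul_smul]⟩
      refine ⟨∑ e, stalkMapₗ (biproduct.ι (fun _ : Sn d n => G.obj (op 0)) e) y
        (stalkMapₗ (tr G 0 (n + 1) (Nat.zero_le _)) y (m e)), hι y ?_⟩
      exact (Pd_tr hG f g hI n y m).trans hm
  exact isIso_of_mono_of_epi _

include hG hI in
theorem split
    (h : ∀ y : X, (∃ c ∈ I, IsUnit (toStalk A X y c)) ∨
      (stalkIdeal I y = Ideal.span (Set.range fun j => toStalk A X y (f j)) ∧
        RingTheory.Sequence.IsWeaklyRegular (hatStalk I G y)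
          (List.ofFn fun j => algebraMap (X.presheaf.stalk y) (hatRing I y) (toStalk A X y (f j))))) :
    Split hG (Fin.append f g) hI := by
  classical
  intro n
  haveI := isIso_Pd hG f g hI n h
  let t : Sn d n → (K G n ⟶ G.obj (op 0)) := fun e =>
    inv (Pd hG f g hI n) ≫ biproduct.π (fun _ : Sn d n => G.obj (op 0)) e
  refine ⟨Function.extend (liftE n) t 0, ?_⟩
  rw [← Finset.sum_subset (Finset.subset_univ (Finset.univ.image (liftE (r := r) (d := d) n))) fun e' _ he' => by
    rw [Function.extend_apply' _ _ _ (fun ⟨e, he⟩ => he' (Finset.mem_image.2 ⟨e, Finset.mem_univ _, he⟩)),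
      Pi.zero_apply, zero_comp]]
  rw [Finset.sum_image fun _ _ _ _ h => liftE_injective n h]
  simp only [(liftE_injective n).extend_apply, t, Category.assoc]
  rw [← Preadditive.comp_sum, show ∑ e, biproduct.π (fun _ : Sn d n => G.obj (op 0)) e ≫
    μe hG (Fin.append f g) hI n (liftE n e) = Pd hG f g hI n from by rw [Pd, biproduct.desc_eq],
    IsIso.inv_hom_id]

end Groth.L29.RegHat
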